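import Cfsg.Agent.MinIdxPSU.Four

/-!
The minimal index of the projective special unitary groups of dimension at least six.
-/

set_option autoImplicit false
set_option linter.style.haveILetI false
set_option linter.unusedSectionVars false

namespace CfsgLib.MinIdxPSU

open Matrix CfsgLib.Unitary CfsgLib.Forms

variable {F : Type*} [Field F] [Finite F] {q : ℕ} (hF : Nat.card F = q ^ 2)
include hF

theorem isoPt_int (n : ℕ) :
    (q : ℤ) * ((Nat.card (IsoPt n F q) : ℤ) * ((q : ℤ) ^ 2 - 1) + 1) =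
      (q : ℤ) ^ n * ((q : ℤ) ^ n + (-1) ^ n * ((q : ℤ) - 1)) := by
  have h := card_isoPt hF n
  have hq1 : 1 ≤ q ^ 2 := Nat.one_le_pow _ _ (by have := two_le_q hF; omega)
  rw [← numLen_zero hF n, ← h]
  push_cast [Nat.cast_sub hq1]
  ring

/-- The number of isotropic points. -/
theorem isoPt_formula (n : ℕ) :
    (Nat.card (IsoPt (n + 1) F q) : ℤ) * ((q : ℤ) ^ 2 - 1) =
      ((q : ℤ) ^ (n + 1) - (-1) ^ (n + 1)) * ((q : ℤ) ^ n - (-1) ^ n) := by
  have h := isoPt_int hF (n + 1)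
  have hq : (q : ℤ) ≠ 0 := by have := two_le_q hF; omega
  refine mul_left_cancel₀ hq ?_
  rw [pow_succ (q : ℤ) n] at h ⊢
  rw [pow_succ (-1 : ℤ) n] at h ⊢
  have hs : ((-1 : ℤ) ^ n) * ((-1 : ℤ) ^ n) = 1 := by rw [← mul_pow]; norm_num
  linear_combination h + (q : ℤ) * hs

theorem even_isoPt {n : ℕ} (hn : 1 ≤ n) (heven : Even n) :
    Nat.card (IsoPt n F q) * (q ^ 2 - 1) = (q ^ n - 1) * (q ^ (n - 1) + 1) := by
  obtain ⟨m, rfl⟩ : ∃ m, n = m + 1 := ⟨n - 1, by omega⟩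
  have h := isoPt_formula hF m
  rw [Even.neg_one_pow heven, Odd.neg_one_pow (by
    rcases Nat.even_or_odd m with e | e
    · exact absurd e.add_one (Nat.not_odd_iff_even.2 heven)
    · exact e)] at h
  have hq := two_le_q hF
  have h1 : 1 ≤ q ^ (m + 1) := Nat.one_le_pow _ _ (by omega)
  have h2 : 1 ≤ q ^ 2 := Nat.one_le_pow _ _ (by omega)
  rw [Nat.add_sub_cancel]
  zify [h1, h2]
  linear_combination h

theorem odd_isoPt {n : ℕ} (hodd : Odd n) :
    Nat.card (IsoPt n F q) * (q ^ 2 - 1) = (q ^ n + 1) * (q ^ (n - 1) - 1) := by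
  obtain ⟨m, rfl⟩ : ∃ m, n = m + 1 := ⟨n - 1, by have := hodd.pos; omega⟩
  have h := isoPt_formula hF m
  rw [Odd.neg_one_pow hodd, Even.neg_one_pow (by
    rcases Nat.even_or_odd m with e | e
    · exact e
    · exact absurd e.add_one (Nat.not_even_iff_odd.2 hodd))] at h
  have hq := two_le_q hF
  have h1 : 1 ≤ q ^ m := Nat.one_le_pow _ _ (by omega)
  have h2 : 1 ≤ q ^ 2 := Nat.one_le_pow _ _ (by omega)
  rw [Nat.add_sub_cancel]
  zify [h1, h2]
  linear_combination h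

/-- A proper subgroup in dimension at least five is large. -/
theorem crude_bound {j : ℕ} (hj : 3 ≤ j) (h32 : ¬ (j = 3 ∧ q = 2)) (H : Subgroup (Cfsg.SU (j + 1 + 1) F q))
    (hH : H ≠ ⊤) : (q : ℤ) ^ (2 * j) - (q : ℤ) ^ (j + 1) ≤ (H.index : ℤ) := by
  obtain ⟨x₀, hx₀⟩ := exists_moved hF (k := j) (by omega) (fun h => by omega) (H := H) hH
  rw [Subgroup.index_eq_card]
  exact crude hF _ hj h32 x₀ hx₀

theorem pts_le (k : ℕ) (hq : 3 ≤ q) :
    (Nat.card (IsoPt (k + 1 + 1) F q) : ℤ) ≤ 2 * (q : ℤ) ^ (2 * k + 1) := by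
  have h := isoPt_formula hF (k + 1)
  have hq' : (3 : ℤ) ≤ q := by exact_mod_cast hq
  rcases neg_one_pow_eq_or ℤ k with hs | hs <;>
  · rw [pow_succ (-1 : ℤ) (k + 1), pow_succ (-1 : ℤ) k, hs] at h
    simp only [pow_succ, two_mul, pow_add] at h ⊢
    have hP : (1 : ℤ) ≤ (q : ℤ) ^ k := one_le_pow₀ (by omega)
    have hN : (0 : ℤ) ≤ (Nat.card (IsoPt (k + 1 + 1) F q) : ℤ) := Int.natCast_nonneg _
    by_contra hlt
    push Not at hlt
    set P := (q : ℤ) ^ k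
    have h1 := mul_lt_mul_of_pos_right hlt (show (0 : ℤ) < (q : ℤ) * q - 1 by nlinarith)
    have hPP : P ≤ P * P := le_mul_of_one_le_right (by linarith) hP
    have hq7 : (7 : ℤ) ≤ (q : ℤ) * q - 2 := by nlinarith
    have a1 : P * P * (q : ℤ) * 7 ≤ P * P * (q : ℤ) * ((q : ℤ) * q - 2) :=
      mul_le_mul_of_nonneg_left hq7 (by positivity)
    have a2 : P * (q : ℤ) ≤ P * P * (q : ℤ) := mul_le_mul_of_nonneg_right hPP (by linarith)
    have a4 : P * (q : ℤ) * q ≤ P * P * (q : ℤ) * q := mul_le_mul_of_nonneg_right a2 (by linarith)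
    have a5 : (1 : ℤ) ≤ P * (q : ℤ) := by nlinarith
    have a6 : P * P * (q : ℤ) * ((q : ℤ) + 3) ≤ P * P * (q : ℤ) * ((q : ℤ) * q - 2) :=
      mul_le_mul_of_nonneg_left (by nlinarith) (by positivity)
    nlinarith

theorem aniso_ge {n : ℕ} (hn : 1 ≤ n) (hq : 3 ≤ q) :
    (q + 1) * Nat.card (IsoPt n F q) ≤ numLen F q n 1 := by
  obtain ⟨m, rfl⟩ : ∃ m, n = m + 1 := ⟨n - 1, by omega⟩
  have h := isoPt_formula hF m
  have h1 := numLen_one (F := F) hF (m + 1)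
  have hq' : (3 : ℤ) ≤ q := by exact_mod_cast hq
  have hP : (1 : ℤ) ≤ (q : ℤ) ^ m := one_le_pow₀ (by omega)
  rw [pow_succ (q : ℤ) m, pow_succ (-1 : ℤ) m] at h h1
  set K := (Nat.card (IsoPt (m + 1) F q) : ℤ) with hK
  set N := (numLen F q (m + 1) 1 : ℤ) with hN
  set R := (q : ℤ) ^ m
  have h2 : N = R * (R * q - (-1) ^ m * -1) :=
    mul_left_cancel₀ (show (q : ℤ) ≠ 0 by omega) (by rw [h1]; ring)
  have : ((q : ℤ) + 1) * K ≤ N := by
    refine le_of_mul_le_mul_left ?_ (show (0 : ℤ) < (q : ℤ) - 1 by omega)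
    rcases neg_one_pow_eq_or ℤ m with hs | hs <;> rw [hs] at h h2 <;> rw [h2] <;> nlinarith [mul_nonneg (show (0 : ℤ) ≤ R * (q : ℤ) - 1 by nlinarith) (show (0 : ℤ) ≤ ((q : ℤ) - 2) * R - 1 by nlinarith), mul_nonneg (show (0 : ℤ) ≤ R * (q : ℤ) + 1 by nlinarith) (show (0 : ℤ) ≤ ((q : ℤ) - 2) * R + 1 by nlinarith)]
  rw [hK, hN] at this
  exact_mod_cast this

/-- The minimal index in dimension at least six, or at least five away from dimension five. -/
theorem su_bound {k : ℕ} (hk : 4 ≤ k) (hq : 3 ≤ q) {H : Subgroup (Cfsg.SU (k + 1 + 1) F q)}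
    (hH : H ≠ ⊤) : Nat.card (IsoPt (k + 1 + 1) F q) ≤ H.index := by
  have hB := aniso_ge hF (n := k + 1 + 1) (by omega) hq
  have hq' : (3 : ℤ) ≤ q := by exact_mod_cast hq
  by_cases h4 : k = 4
  · subst h4
    refine bound_step hF (by omega) hq (four_bound hF hq) ?_ hB hH
    have h : _ = _ := even_isoPt hF (n := 4 + 1 + 1) (by norm_num) (by decide)
    have hq1 : 1 ≤ q ^ 2 := Nat.one_le_pow _ _ (by omega)
    have hq2 : 1 ≤ q ^ 6 := Nat.one_le_pow _ _ (by omega)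
    zify [hq1, hq2] at h ⊢
    have e : ((Nat.card (IsoPt (4 + 1 + 1) F q) : ℤ)) = ((q : ℤ) ^ 4 + q ^ 2 + 1) * ((q : ℤ) ^ 5 + 1) := by
      refine mul_right_cancel₀ (show ((q : ℤ) ^ 2 - 1) ≠ 0 by nlinarith) ?_
      rw [h]; ring
    rw [e]
    nlinarith [pow_le_pow_left₀ (by norm_num : (0 : ℤ) ≤ 3) hq' 4, mul_nonneg (show (0:ℤ) ≤ (q:ℤ) ^ 4 by positivity) (show (0:ℤ) ≤ (q:ℤ) - 1 by omega)]
  obtain ⟨j, rfl⟩ : ∃ j, k = j + 1 + 1 := ⟨k - 2, by omega⟩
  refine bound_step hF (by omega) hq (P := q ^ (2 * j) - q ^ (j + 1)) (fun H' hH' => ?_) ?_ hB hH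
  · have h := crude_bound hF (show 3 ≤ j by omega) (fun h => by omega) H' hH'
    rw [Nat.sub_le_iff_le_add]
    zify
    linarith
  · have hle : q ^ (j + 1) ≤ q ^ (2 * j) := Nat.pow_le_pow_right (by omega) (by omega)
    zify [hle]
    refine (pts_le hF _ hq).trans ?_
    have e : 2 * (j + 1 + 1) + 1 = (j + 1 + 1) + 1 + (j + 1 + 1) := by omega
    rw [show (q : ℤ) * ((q : ℤ) ^ (j + 1 + 1) * ((q : ℤ) ^ (2 * j) - (q : ℤ) ^ (j + 1))) =
      (q : ℤ) ^ (2 * j + 4) * ((q : ℤ) ^ (j - 1) - 1) by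
      rw [mul_sub, mul_sub, ← pow_add, ← pow_add, ← pow_succ', ← pow_succ', mul_sub, mul_one, ← pow_add]
      congr 2 <;> omega]
    rw [show 2 * (j + 1 + 1) + 1 = 2 * j + 4 + 1 by omega, pow_succ, mul_left_comm]
    refine mul_le_mul_of_nonneg_left ?_ (by positivity)
    have h2 : (q : ℤ) ^ 2 ≤ (q : ℤ) ^ (j - 1) := pow_le_pow_right₀ (by omega) (by omega)
    nlinarith

end CfsgLib.MinIdxPSU
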