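import Mathlib

/-!
Orbits of a finite abelian group on a finite set, described by annihilators for a pairing into the complex numbers.
-/

set_option autoImplicit false
set_option linter.style.haveILetI false
set_option linter.unusedSectionVars false

namespace CfsgLib.MinIdxPSU

open AddAction
open scoped Classical

variable {F : Type*} [AddCommGroup F] {M : Type*} [AddCommGroup M] [Finite M] {M' : Type*} [AddCommGroup M'] [Finite M']
  (B : M →+ M' →+ F) (ψ : AddChar F ℂ)

/-- The annihilator. -/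
def annB (K : AddSubgroup M) : AddSubgroup M' where
  carrier := {v | ∀ k ∈ K, ψ (B k v) = 1}
  zero_mem' k _ := by simp
  add_mem' := fun {a b} ha hb k hk => by rw [map_add, AddChar.map_add_eq_mul, ha k hk, hb k hk, one_mul]
  neg_mem' := fun {a} ha k hk => by
    rw [map_neg, ← AddMonoidHom.neg_apply, ← map_neg]
    exact ha _ (K.neg_mem hk)

/-- A perfect pairing. -/
structure Perfect : Prop where
  nondeg : ∀ v : M', (∀ a : M, ψ (B a v) = 1) → v = 0
  card : Nat.card M' = Nat.card M

variable {B ψ}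

theorem mem_annB {K : AddSubgroup M} {v : M'} : v ∈ annB B ψ K ↔ ∀ k ∈ K, ψ (B k v) = 1 := Iff.rfl

/-- The character of an element. -/
noncomputable def pchar (B : M →+ M' →+ F) (ψ : AddChar F ℂ) (v : M') : AddChar M ℂ :=
  ψ.compAddMonoidHom ((AddMonoidHom.eval v).comp B)

theorem pchar_apply (v : M') (a : M) : pchar B ψ v a = ψ (B a v) := rfl

theorem pchar_bijective (hP : Perfect B ψ) : Function.Bijective (pchar B ψ) := by
  haveI := Fintype.ofFinite M
  haveI := Fintype.ofFinite M'
  rw [Fintype.bijective_iff_injective_and_card]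
  refine ⟨fun v w h => sub_eq_zero.1 (hP.nondeg _ fun a => ?_), ?_⟩
  · have hw := DFunLike.congr_fun h a
    rw [pchar_apply, pchar_apply] at hw
    rw [map_sub, AddChar.map_sub_eq_div, hw, div_self]
    exact (AddChar.val_isUnit ψ _).ne_zero
  · rw [AddChar.card_eq, ← Nat.card_eq_fintype_card, hP.card, Nat.card_eq_fintype_card]

theorem card_annB (hP : Perfect B ψ) (K : AddSubgroup M) : Nat.card (annB B ψ K) = K.index := by
  haveI := Fintype.ofFinite M
  let e1 : annB B ψ K ≃ {χ : AddChar M ℂ // ∀ k ∈ K, χ k = 1} :=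
    (Equiv.ofBijective _ (pchar_bijective hP)).subtypeEquiv fun v => Iff.rfl
  let e2 : {χ : AddChar M ℂ // ∀ k ∈ K, χ k = 1} ≃ AddChar (M ⧸ K) ℂ :=
    { toFun := fun χ => AddChar.toAddMonoidHomEquiv.symm
        (QuotientAddGroup.lift K (AddChar.toAddMonoidHomEquiv χ.1)
          (fun k hk => AddMonoidHom.mem_ker.2 (by
            change Additive.ofMul (χ.1 k) = 0
            rw [χ.2 k hk]; rfl)))
      invFun := fun χ => ⟨χ.compAddMonoidHom (QuotientAddGroup.mk' K), fun k hk => by
        rw [AddChar.compAddMonoidHom_apply, QuotientAddGroup.mk'_apply,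
          (QuotientAddGroup.eq_zero_iff k).2 hk, AddChar.map_zero_eq_one]⟩
      left_inv := fun χ => Subtype.ext (DFunLike.ext _ _ fun x => rfl)
      right_inv := fun χ => DFunLike.ext _ _ fun x => QuotientAddGroup.induction_on x fun y => rfl }
  haveI : Fintype (M ⧸ K) := Fintype.ofFinite _
  rw [Nat.card_congr (e1.trans e2), Nat.card_eq_fintype_card, AddChar.card_eq,
    AddSubgroup.index, Nat.card_eq_fintype_card]

/-- A subgroup annihilating itself has at most the square root of the order. -/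
theorem card_sq_le {B : M →+ M →+ F} (hP : Perfect B ψ) (K : AddSubgroup M) (h : ∀ a ∈ K, ∀ b ∈ K, ψ (B a b) = 1) :
    Nat.card K * Nat.card K ≤ Nat.card M := by
  have hle : K ≤ annB B ψ K := fun b hb a ha => h a ha b hb
  have h1 := Nat.card_le_card_of_injective _ (AddSubgroup.inclusion_injective hle)
  rw [card_annB hP] at h1
  rw [← K.card_mul_index]
  exact Nat.mul_le_mul_left _ h1

variable (B ψ) (Y : Type*) [AddAction M Y]

/-- The orbits. -/
abbrev AOrb : Type _ := orbitRel.Quotient M Y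

variable {Y}

/-- The weights of an orbit. -/
noncomputable def wtB (o : AOrb (M := M) Y) : AddSubgroup M' := annB B ψ (stabilizer M o.out)

theorem stab_vadd (w : M) (y : Y) : stabilizer M (w +ᵥ y) = stabilizer M y := by
  ext k
  rw [mem_stabilizer_iff, mem_stabilizer_iff, vadd_comm, vadd_left_cancel_iff]

theorem stab_out (y : Y) : stabilizer M (Quotient.mk'' y : AOrb (M := M) Y).out = stabilizer M y := by
  obtain ⟨w, hw⟩ := orbitRel_apply.1 (Quotient.mk_out (s := orbitRel M Y) y)
  rw [show (Quotient.mk'' y : AOrb (M := M) Y).out = w +ᵥ y from hw.symm, stab_vadd]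

variable [Finite Y]

/-- The number of orbits with a given weight. -/
noncomputable def nwtB (v : M') : ℕ := Nat.card {o : AOrb (M := M) Y // v ∈ wtB B ψ o}

variable {B ψ}

theorem card_orbit_wt (hP : Perfect B ψ) (y : Y) :
    Nat.card (AddAction.orbit M y) = Nat.card (annB B ψ (stabilizer M y)) := by
  rw [card_annB hP, AddSubgroup.index]
  exact Nat.card_congr (orbitEquivQuotientStabilizer M y)

theorem card_eq_sum_wt (hP : Perfect B ψ) [Fintype (AOrb (M := M) Y)] :
    Nat.card Y = ∑ o : AOrb (M := M) Y, Nat.card (wtB B ψ o) := by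
  rw [Nat.card_congr (selfEquivSigmaOrbits M Y), Nat.card_sigma]
  exact Finset.sum_congr rfl fun o _ => card_orbit_wt hP o.out

theorem card_eq_sum_nwtB (hP : Perfect B ψ) [Fintype M'] : Nat.card Y = ∑ v : M', nwtB (Y := Y) B ψ v := by
  haveI := Fintype.ofFinite (AOrb (M := M) Y)
  rw [card_eq_sum_wt hP]
  simp only [nwtB, Nat.card_eq_fintype_card, Fintype.card_subtype, Finset.card_filter]
  exact Finset.sum_comm

theorem nwtB_zero : nwtB (Y := Y) B ψ 0 = Nat.card (AOrb (M := M) Y) :=
  Nat.card_congr (Equiv.subtypeUnivEquiv fun o => (wtB B ψ o).zero_mem)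

/-- A lower bound from a set of weights. -/
theorem card_ge_of_weights (hP : Perfect B ψ) (S : Set M') (h0 : (0 : M') ∉ S) (j : ℕ)
    (h : ∀ v ∈ S, j ≤ nwtB (Y := Y) B ψ v) : j * Nat.card S + Nat.card (AOrb (M := M) Y) ≤ Nat.card Y := by
  haveI := Fintype.ofFinite M'
  rw [card_eq_sum_nwtB (Y := Y) hP, ← Finset.sum_erase_add _ _ (Finset.mem_univ (0 : M')), nwtB_zero]
  refine Nat.add_le_add_right ?_ _
  rw [Nat.card_eq_fintype_card, Fintype.card_subtype, mul_comm, ← smul_eq_mul, ← Finset.sum_const]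
  refine le_trans (Finset.sum_le_sum fun v hv => h v (Finset.mem_filter.1 hv).2)
    (Finset.sum_le_sum_of_subset fun v hv => Finset.mem_erase.2 ⟨?_, Finset.mem_univ _⟩)
  rintro rfl
  exact h0 (Finset.mem_filter.1 hv).2

/-- Transport of weights. -/
theorem exists_orbit_perm (π : Y ≃ Y) (f : M ≃+ M) (f' : M' ≃+ M') (hπ : ∀ (w : M) (y : Y), π (w +ᵥ y) = f w +ᵥ π y)
    (hf : ∀ w v, ψ (B (f w) (f' v)) = ψ (B w v)) :
    ∃ σ : AOrb (M := M) Y ≃ AOrb (M := M) Y, (∀ y, σ (Quotient.mk'' y) = Quotient.mk'' (π y)) ∧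
      ∀ o v, f' v ∈ wtB B ψ (σ o) ↔ v ∈ wtB B ψ o := by
  have hrel : ∀ x y, orbitRel M Y x y ↔ orbitRel M Y (π x) (π y) := by
    intro x y
    rw [orbitRel_apply, orbitRel_apply]
    constructor
    · rintro ⟨w, rfl⟩
      exact ⟨_, (hπ w y).symm⟩
    · rintro ⟨w, hw⟩
      refine ⟨f.symm w, π.injective ?_⟩
      show π (f.symm w +ᵥ y) = π x
      rw [hπ, AddEquiv.apply_symm_apply]
      exact hw
  refine ⟨Quotient.congr π hrel, fun y => rfl, fun o v => ?_⟩
  induction o using Quotient.inductionOn' with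
  | h y =>
    change f' v ∈ wtB B ψ (Quotient.mk'' (π y)) ↔ _
    rw [wtB, wtB, stab_out, stab_out, mem_annB, mem_annB]
    constructor
    · intro h k hk
      rw [← hf]
      refine h _ ?_
      rw [mem_stabilizer_iff] at hk ⊢
      rw [← hπ, hk]
    · intro h k hk
      rw [← f.apply_symm_apply k, hf]
      refine h _ (mem_stabilizer_iff.2 (π.injective ?_))
      rw [hπ, AddEquiv.apply_symm_apply, mem_stabilizer_iff.1 hk]

/-- The number of weights is invariant under transport. -/
theorem nwtB_map (π : Y ≃ Y) (f : M ≃+ M) (f' : M' ≃+ M') (hπ : ∀ (w : M) (y : Y), π (w +ᵥ y) = f w +ᵥ π y)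
    (hf : ∀ w v, ψ (B (f w) (f' v)) = ψ (B w v)) (v : M') :
    nwtB (Y := Y) B ψ (f' v) = nwtB (Y := Y) B ψ v := by
  obtain ⟨σ, -, hσ⟩ := exists_orbit_perm π f f' hπ hf
  exact (Nat.card_congr (σ.subtypeEquiv fun o => (hσ o v).symm)).symm

end CfsgLib.MinIdxPSU
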