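import Cfsg.Agent.MinIdxPSU.Radical
import Cfsg.Agent.MinIdxPSU.Weights

/-!
The orbits of the centre of the radical which see a fixed character, and the radical acting on them.
-/

set_option autoImplicit false
set_option linter.style.haveILetI false
set_option linter.unusedSectionVars false

namespace CfsgLib.MinIdxPSU

open Matrix CfsgLib.Unitary CfsgLib.Forms AddAction
open scoped Classical

variable {F : Type*} [Field F] [Finite F] {q k : ℕ} (hF : Nat.card F = q ^ 2)
include hF

/-! ### Real and skew scalars -/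

/-- The scalars fixed by conjugation. -/
def Fix : AddSubgroup F where
  carrier := {c | c ^ q = c}
  zero_mem' := zero_pow (by have := two_le_q hF; omega)
  add_mem' := fun {a b} (ha : a ^ q = a) (hb : b ^ q = b) => by
    change (a + b) ^ q = a + b
    rw [← frobQ_apply hF (a + b), map_add, frobQ_apply, frobQ_apply, ha, hb]
  neg_mem' := fun {a} (ha : a ^ q = a) => by
    change (-a) ^ q = -a
    rw [← frobQ_apply hF (-a), map_neg, frobQ_apply, ha]

theorem mem_skew_iff {s : F} : s ∈ Skew hF ↔ s + s ^ q = 0 := Iff.rfl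

theorem sub_conj_mem (x : F) : x - x ^ q ∈ Skew hF := by
  rw [mem_skew_iff hF, ← frobQ_apply hF (x - x ^ q), map_sub, frobQ_apply, frobQ_apply, pow_q_q hF]
  ring

theorem exists_delta : ∃ d : F, d ≠ 0 ∧ d ∈ Skew hF := by
  obtain ⟨c, hc, hc'⟩ := exists_skew hF
  exact ⟨c, hc, hc'⟩

theorem card_fix_skew : Nat.card (Fix hF) = q ∧ Nat.card (Skew hF) = q := by
  obtain ⟨d, hd, hdS⟩ := exists_delta hF
  have hdq : d ^ q = -d := by linear_combination (mem_skew_iff hF).1 hdS
  have he : Nat.card (Fix hF) = Nat.card (Skew hF) :=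
    Nat.card_congr
      { toFun := fun c => ⟨d * c.1, by
          rw [mem_skew_iff hF, mul_pow, hdq, show (c : F) ^ q = c from c.2]; ring⟩
        invFun := fun s => ⟨d⁻¹ * s.1, by
          change (d⁻¹ * (s : F)) ^ q = _
          rw [mul_pow, inv_pow, hdq, show (s : F) ^ q = -(s : F) by linear_combination (mem_skew_iff hF).1 s.2,
            inv_neg, neg_mul_neg]⟩
        left_inv := fun c => Subtype.ext (by simp [hd])
        right_inv := fun s => Subtype.ext (by simp [hd]) }
  let tr : F →+ Fix hF := AddMonoidHom.mk' (fun x => ⟨x + x ^ q, by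
      change (x + x ^ q) ^ q = x + x ^ q
      rw [← frobQ_apply hF (x + x ^ q), map_add, frobQ_apply, frobQ_apply, pow_q_q hF, add_comm]⟩) fun a b =>
    Subtype.ext (by
      change a + b + (a + b) ^ q = a + a ^ q + (b + b ^ q)
      rw [← frobQ_apply hF (a + b), map_add, frobQ_apply, frobQ_apply]; ring)
  have hk : tr.ker = Skew hF := by
    ext x
    rw [AddMonoidHom.mem_ker, mem_skew_iff hF]
    exact ⟨fun h => congrArg (fun c : Fix hF => (c : F)) h, fun h => Subtype.ext h⟩
  have hsurj : Function.Surjective tr := fun c => by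
    obtain ⟨t, ht⟩ := exists_trace_eq hF (μ := (c : F)) c.2
    exact ⟨t, Subtype.ext ht⟩
  have h1 := tr.ker.card_mul_index
  rw [AddSubgroup.index_ker, AddMonoidHom.range_eq_top_of_surjective tr hsurj, AddSubgroup.card_top, hk, ← he, hF,
    pow_two] at h1
  have h2 : Nat.card (Fix hF) = q := Nat.mul_self_inj.1 h1
  exact ⟨h2, he ▸ h2⟩

theorem exists_psi₁ : ∃ ψ : AddChar F ℂ, ∃ d ∈ Skew hF, ψ d ≠ 1 := by
  obtain ⟨d, hd, hdS⟩ := exists_delta hF
  obtain ⟨ψ, hψ⟩ := AddChar.exists_apply_ne_zero.2 hd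
  exact ⟨ψ, d, hdS, hψ⟩

/-- A character of the scalars, non-trivial on the skew ones. -/
noncomputable def psi₁ : AddChar F ℂ := (exists_psi₁ hF).choose

/-- The character `x ↦ ψ₁(x - x̄)`. -/
noncomputable def psi₂ : AddChar F ℂ :=
  (psi₁ hF).compAddMonoidHom (AddMonoidHom.id F - (frobQ hF).toAddMonoidHom)

theorem psi₂_apply (x : F) : psi₂ hF x = psi₁ hF (x - x ^ q) := rfl

theorem psi₂_ne : ∃ x : F, psi₂ hF x ≠ 1 := by
  obtain ⟨d, hdS, hψ⟩ := (exists_psi₁ hF).choose_spec
  obtain ⟨t, ht⟩ := exists_trace_eq hF (μ := (1 : F)) (one_pow q)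
  refine ⟨d * t, ?_⟩
  rw [psi₂_apply hF, mul_pow, show d ^ q = -d by linear_combination (mem_skew_iff hF).1 hdS,
    show d * t - -d * t ^ q = d * (t + t ^ q) by ring, ht, mul_one]
  exact hψ

theorem psi₁_perfect {c : F} (hc : c ^ q = c) (h : ∀ z ∈ Skew hF, psi₁ hF (c * z) = 1) : c = 0 := by
  by_contra hc0
  obtain ⟨d, hdS, hψ⟩ := (exists_psi₁ hF).choose_spec
  apply hψ
  have := h (c⁻¹ * d) (by
    rw [mem_skew_iff hF, mul_pow, inv_pow, hc]
    linear_combination c⁻¹ * (mem_skew_iff hF).1 hdS)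
  rwa [mul_inv_cancel_left₀ hc0] at this

/-- The pairing of the skew and the fixed scalars. -/
def pairZ : Skew hF →+ Fix hF →+ F :=
  AddMonoidHom.mk' (fun z => AddMonoidHom.mk' (fun c => (c : F) * (z : F)) fun a b => by
      simp [add_mul]) fun a b => AddMonoidHom.ext fun c => by simp [mul_add]

theorem pairZ_apply (z : Skew hF) (c : Fix hF) : pairZ hF z c = (c : F) * (z : F) := rfl

theorem pairZ_perfect : Perfect (pairZ hF) (psi₁ hF) :=
  ⟨fun c h => Subtype.ext (psi₁_perfect hF c.2 fun z hz => h ⟨z, hz⟩),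
    (card_fix_skew hF).1.trans (card_fix_skew hF).2.symm⟩

/-- The pairing on vectors. -/
def pairV (k : ℕ) : (Fin k → F) →+ (Fin k → F) →+ F :=
  AddMonoidHom.mk' (fun a => AddMonoidHom.mk' (fun v => Cfsg.hermForm k F q a v) fun v w => herm_add_right hF a v w)
    fun a b => AddMonoidHom.ext fun v => herm_add_left k a b v

theorem pairV_apply (a v : Fin k → F) : pairV hF k a v = Cfsg.hermForm k F q a v := rfl

theorem pairV_perfect : Perfect (pairV hF k) (psi₂ hF) := by
  refine ⟨fun v h => ?_, rfl⟩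
  by_contra hv
  obtain ⟨u, hu⟩ : ∃ u, Cfsg.hermForm k F q u v ≠ 0 := by
    by_contra hc; push Not at hc; exact hv (uForm_nondeg hF k v hc)
  obtain ⟨x, hx⟩ := psi₂_ne hF
  apply hx
  have := h ((x / Cfsg.hermForm k F q u v) • u)
  rwa [pairV_apply hF, herm_smul_left, div_mul_cancel₀ _ hu] at this

/-! ### Orbits of the centre -/

variable (X : Type*)

/-- The set, with the centre of the radical acting additively. -/
def XZ (_hF : Nat.card F = q ^ 2) (_k : ℕ) (X : Type*) : Type _ := X

variable [MulAction (G k F q) X]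

/-- The point. -/
def toXZ (hF : Nat.card F = q ^ 2) (k : ℕ) {X : Type*} (x : X) : XZ hF k X := x

/-- An element acting. -/
def act (g : G k F q) (x : XZ hF k X) : XZ hF k X := toXZ hF k (g • (show X from x))

theorem act_toXZ (g : G k F q) (x : X) : act hF X g (toXZ hF k x) = toXZ hF k (g • x) := rfl

theorem act_mul (g g' : G k F q) (x : XZ hF k X) : act hF X g (act hF X g' x) = act hF X (g * g') x :=
  (mul_smul g g' (show X from x)).symm

theorem act_injective (g : G k F q) : Function.Injective (act hF X g) :=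
  fun _ _ h => MulAction.injective (β := X) g h

noncomputable instance : AddAction (Skew hF) (XZ hF k X) where
  vadd z x := act hF X (zE hF z) x
  zero_vadd x := by
    change act hF X (zE hF (0 : Skew hF)) x = x
    rw [zE_zero]
    exact one_smul _ (show X from x)
  add_vadd z w x := by
    change act hF X (zE hF (z + w)) x = act hF X (zE hF z) (act hF X (zE hF w) x)
    rw [zE_add, act_mul]

theorem vadd_eq (z : Skew hF) (x : XZ hF k X) : z +ᵥ x = act hF X (zE hF z) x := rfl

/-- Orbits of the centre. -/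
abbrev ZO (hF : Nat.card F = q ^ 2) (k : ℕ) (X : Type*) [MulAction (G k F q) X] : Type _ :=
  AOrb (M := Skew hF) (XZ hF k X)

/-- Orbits seeing the character `z ↦ ψ₁(c z)`. -/
def Sees (c : F) (O : ZO hF k X) : Prop := ∀ z ∈ stabilizer (Skew hF) O.out, psi₁ hF (c * (z : F)) = 1

theorem sees_mk (c : F) (x : XZ hF k X) :
    Sees hF X c (Quotient.mk'' x) ↔ ∀ z ∈ stabilizer (Skew hF) x, psi₁ hF (c * (z : F)) = 1 := by
  rw [Sees, stab_out]

/-- The orbits seeing the basic character. -/
abbrev NSet (hF : Nat.card F = q ^ 2) (k : ℕ) (X : Type*) [MulAction (G k F q) X] : Type _ :=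
  {O : ZO hF k X // Sees hF X 1 O}

variable [Finite X]

instance : Finite (XZ hF k X) := ‹Finite X›

/-- Each non-trivial character is seen by at least as many orbits as the basic one. -/
theorem nset_le_nwt (hk : 1 ≤ k) {c : Fix hF} (hc0 : (c : F) ≠ 0) :
    Nat.card (NSet hF k X) ≤ nwtB (Y := XZ hF k X) (pairZ hF) (psi₁ hF) c := by
  haveI := Fintype.ofFinite F
  obtain ⟨lam, hlam⟩ := exists_norm_eq hF (μ := (c : F)⁻¹) (by rw [inv_pow, show (c : F) ^ q = c from c.2])
  have hl0 : lam ≠ 0 := fun e => by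
    rw [e, zero_pow (by omega)] at hlam
    exact inv_ne_zero hc0 hlam.symm
  obtain ⟨g, hg⟩ := exists_scale_ev (k := k) hF hl0 hk
  have hmul : ∀ z : Skew hF, (z : F) * (c : F)⁻¹ ∈ Skew hF := fun z => by
    rw [mem_skew_iff hF, mul_pow, inv_pow, show (c : F) ^ q = c from c.2]
    linear_combination (c : F)⁻¹ * (mem_skew_iff hF).1 z.2
  have hconj : ∀ z : Skew hF, g * zE hF z = zE hF ⟨_, hmul z⟩ * g := fun z => by
    rw [← mul_inv_eq_iff_eq_mul]
    exact conj_zE hF hg z _ (by rw [← pow_succ', hlam])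
  have hmul' : ∀ z : Skew hF, (z : F) * (c : F) ∈ Skew hF := fun z => by
    rw [mem_skew_iff hF, mul_pow, show (c : F) ^ q = c from c.2]
    linear_combination (c : F) * (mem_skew_iff hF).1 z.2
  let f : ZO hF k X → ZO hF k X := Quotient.map' (act hF X g) fun x y hxy => by
    rw [orbitRel_apply] at hxy ⊢
    obtain ⟨z, rfl⟩ := hxy
    refine ⟨⟨_, hmul z⟩, ?_⟩
    change _ +ᵥ _ = act hF X g (z +ᵥ y)
    rw [vadd_eq, vadd_eq, act_mul, act_mul, hconj]
  have hback : ∀ z : Skew hF, g * zE hF ⟨_, hmul' z⟩ = zE hF z * g := fun z => by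
    rw [hconj]
    congr 2
    exact Subtype.ext (by change (z : F) * c * (c : F)⁻¹ = z; rw [mul_assoc, mul_inv_cancel₀ hc0, mul_one])
  have hfi : Function.Injective f := by
    intro O O' h
    induction O using Quotient.inductionOn' with
    | h x =>
      induction O' using Quotient.inductionOn' with
      | h y =>
        obtain ⟨z, hz⟩ := orbitRel_apply.1 (Quotient.eq''.1 h)
        refine Quotient.sound' (orbitRel_apply.2 ⟨⟨_, hmul' z⟩, act_injective hF X g ?_⟩)
        change act hF X g (_ +ᵥ y) = _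
        rw [vadd_eq, act_mul, hback, ← act_mul]
        exact hz
  refine Nat.card_le_card_of_injective (fun O : NSet hF k X => ⟨f O.1, ?_⟩)
    fun a b h => Subtype.ext (hfi (congrArg Subtype.val h))
  obtain ⟨O, hO⟩ := O
  induction O using Quotient.inductionOn' with
  | h x =>
    rw [sees_mk hF] at hO
    change c ∈ wtB (pairZ hF) (psi₁ hF) (Quotient.mk'' (act hF X g x))
    rw [wtB, stab_out]
    intro z hz
    rw [pairZ_apply hF]
    have hz' : (⟨_, hmul' z⟩ : Skew hF) ∈ stabilizer (Skew hF) x := by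
      rw [mem_stabilizer_iff] at hz ⊢
      refine act_injective hF X g ?_
      rw [vadd_eq, act_mul, hback, ← act_mul]
      exact hz
    have h2 := hO _ hz'
    rw [one_mul] at h2
    rw [mul_comm]
    exact h2

theorem q_mul_nset_le (hk : 1 ≤ k) : q * Nat.card (NSet hF k X) ≤ Nat.card X := by
  haveI := Fintype.ofFinite F
  haveI := Fintype.ofFinite (Fix hF)
  haveI := Fintype.ofFinite (ZO hF k X)
  rw [show Nat.card X = Nat.card (XZ hF k X) from rfl, card_eq_sum_nwtB (Y := XZ hF k X) (pairZ_perfect hF)]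
  have hq : q * Nat.card (NSet hF k X) = ∑ _c : Fix hF, Nat.card (NSet hF k X) := by
    rw [Finset.sum_const, smul_eq_mul, Finset.card_univ, ← Nat.card_eq_fintype_card, (card_fix_skew hF).1]
  rw [hq]
  refine Finset.sum_le_sum fun c _ => ?_
  by_cases hc : c = 0
  · subst hc
    rw [nwtB_zero]
    exact Nat.card_le_card_of_injective _ Subtype.val_injective
  exact nset_le_nwt hF X hk fun e => hc (Subtype.ext e)

/-- The orbits of the centre, with one copy of those seeing the basic character for each other character. -/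
theorem orbits_add_le (hk : 1 ≤ k) : Nat.card (ZO hF k X) + (q - 1) * Nat.card (NSet hF k X) ≤ Nat.card X := by
  haveI := Fintype.ofFinite F
  haveI := Fintype.ofFinite (Fix hF)
  rw [show Nat.card X = Nat.card (XZ hF k X) from rfl, card_eq_sum_nwtB (Y := XZ hF k X) (pairZ_perfect hF),
    ← Finset.add_sum_erase _ _ (Finset.mem_univ (0 : Fix hF)), nwtB_zero]
  refine Nat.add_le_add_left (le_trans (le_of_eq ?_) (Finset.sum_le_sum fun c hc =>
    nset_le_nwt hF X hk fun e => (Finset.mem_erase.1 hc).1 (Subtype.ext e))) _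
  rw [Finset.sum_const, smul_eq_mul, Finset.card_erase_of_mem (Finset.mem_univ _), Finset.card_univ,
    ← Nat.card_eq_fintype_card, (card_fix_skew hF).1]

theorem exists_nset (x : X) (hx : ∃ z : Skew hF, zE (k := k) hF z • x ≠ x) (hk : 1 ≤ k) :
    Nonempty (NSet hF k X) := by
  haveI := Fintype.ofFinite F
  obtain ⟨z, hz⟩ := hx
  set K := stabilizer (Skew hF) (toXZ hF k x) with hK
  have hKne : K ≠ ⊤ := fun e => hz (by
    have : z ∈ K := e ▸ AddSubgroup.mem_top z
    exact mem_stabilizer_iff.1 this)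
  obtain ⟨⟨c, hc⟩, hne⟩ : ∃ c : annB (pairZ hF) (psi₁ hF) K, c ≠ 0 := by
    by_contra hcon
    push Not at hcon
    have h1 : Nat.card (annB (pairZ hF) (psi₁ hF) K) = 1 := Nat.card_eq_one_iff_exists.2 ⟨0, hcon⟩
    rw [card_annB (pairZ_perfect hF), AddSubgroup.index_eq_one] at h1
    exact hKne h1
  have hc0 : (c : F) ≠ 0 := fun e => hne (Subtype.ext (Subtype.ext e))
  obtain ⟨lam, hlam⟩ := exists_norm_eq hF (μ := (c : F)) c.2
  have hl0 : lam ≠ 0 := fun e => by
    rw [e, zero_pow (by omega)] at hlam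
    exact hc0 hlam.symm
  obtain ⟨g, hg⟩ := exists_scale_ev (k := k) hF hl0 hk
  refine ⟨⟨Quotient.mk'' (toXZ hF k (g • x)), (sees_mk hF X 1 _).2 fun w hw => ?_⟩⟩
  have hmem : (w : F) * (c : F)⁻¹ ∈ Skew hF := by
    rw [mem_skew_iff hF, mul_pow, inv_pow, show (c : F) ^ q = c from c.2]
    linear_combination (c : F)⁻¹ * (mem_skew_iff hF).1 w.2
  have hw' : (⟨_, hmem⟩ : Skew hF) ∈ K := by
    rw [hK, mem_stabilizer_iff] at *
    refine act_injective hF X g ?_
    rw [vadd_eq, act_mul, show g * zE hF ⟨_, hmem⟩ = zE hF w * g by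
      rw [← mul_inv_eq_iff_eq_mul]
      exact conj_zE hF hg _ _ (by change (w : F) = (w : F) * (c : F)⁻¹ * _; rw [← pow_succ', hlam, mul_assoc, inv_mul_cancel₀ hc0, mul_one]), ← act_mul]
    exact hw
  have h := hc _ hw'
  rwa [pairZ_apply hF, mul_comm (c : F), mul_assoc, inv_mul_cancel₀ hc0, mul_one, ← one_mul (w : F)] at h

/-! ### Elements centralising the centre -/

/-- Centralising the centre of the radical. -/
def CZ (hF : Nat.card F = q ^ 2) (g : G k F q) : Prop := ∀ z, g * zE hF z = zE hF z * g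

theorem cz_vE (a : Fin k → F) : CZ hF (vE hF a) := fun z => (zE_comm_vE hF z a).symm

theorem cz_levi (l : Cfsg.SU k F q) : CZ (k := k) hF (levi l) := fun z =>
  mul_inv_eq_iff_eq_mul.1 (levi_zE hF l z)

theorem cz_mul {g g' : G k F q} (h : CZ hF g) (h' : CZ hF g') : CZ hF (g * g') := fun z => by
  rw [mul_assoc, h', ← mul_assoc, h, mul_assoc]

/-- The action of a centralising element on the orbits. -/
noncomputable def cmap {g : G k F q} (hg : CZ hF g) : ZO hF k X → ZO hF k X :=
  Quotient.map' (act hF X g) fun x y hxy => by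
    rw [orbitRel_apply] at hxy ⊢
    obtain ⟨z, rfl⟩ := hxy
    refine ⟨z, ?_⟩
    change z +ᵥ _ = act hF X g (z +ᵥ y)
    rw [vadd_eq, vadd_eq, act_mul, act_mul, hg]

theorem cmap_mk {g : G k F q} (hg : CZ hF g) (x : X) :
    cmap hF X hg (Quotient.mk'' (toXZ hF k x)) = Quotient.mk'' (toXZ hF k (g • x)) := rfl

theorem sees_cmap {g : G k F q} (hg : CZ hF g) {c : F} {O : ZO hF k X} (hO : Sees hF X c O) :
    Sees hF X c (cmap hF X hg O) := by
  induction O using Quotient.inductionOn' with
  | h x =>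
    rw [sees_mk hF] at hO
    rw [show cmap hF X hg (Quotient.mk'' x) = Quotient.mk'' (act hF X g x) from rfl, sees_mk hF]
    intro z hz
    refine hO z (mem_stabilizer_iff.2 (act_injective hF X g ?_))
    rw [vadd_eq, act_mul, hg, ← act_mul]
    exact mem_stabilizer_iff.1 hz

/-- The action of a centralising element on the orbits seeing the character. -/
noncomputable def nmap {g : G k F q} (hg : CZ hF g) (O : NSet hF k X) : NSet hF k X :=
  ⟨cmap hF X hg O.1, sees_cmap hF X hg O.2⟩

theorem zE_mk (z : Skew hF) (x : X) :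
    (Quotient.mk'' (toXZ hF k <| zE (k := k) hF z • x) : ZO hF k X) =
      Quotient.mk'' (toXZ hF k x) :=
  Quotient.sound' (orbitRel_apply.2 ⟨z, rfl⟩)

theorem nset_exists (O : NSet hF k X) : ∃ (x : X) (hx : Sees hF X 1 (Quotient.mk'' (toXZ hF k x))),
    O = ⟨Quotient.mk'' (toXZ hF k x), hx⟩ := by
  obtain ⟨O, hO⟩ := O
  induction O using Quotient.inductionOn' with
  | h x => exact ⟨x, hO, rfl⟩

noncomputable instance : AddAction (Fin k → F) (NSet hF k X) where
  vadd a := nmap hF X (cz_vE hF a)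
  zero_vadd O := by
    obtain ⟨x, hx, rfl⟩ := nset_exists hF X O
    refine Subtype.ext ?_
    change Quotient.mk'' (toXZ hF k <| vE hF 0 • x) = _
    have h0 : sec hF (0 : Fin k → F) ∈ Skew hF := (heis_zero_iff hF _).1 (sec_spec hF 0)
    exact zE_mk hF X ⟨_, h0⟩ x
  add_vadd a b O := by
    obtain ⟨x, hx, rfl⟩ := nset_exists hF X O
    refine Subtype.ext ?_
    change (Quotient.mk'' (toXZ hF k <| vE hF (a + b) • x) : ZO hF k X) =
      Quotient.mk'' (toXZ hF k <| vE hF a • vE hF b • x)
    obtain ⟨z, hz⟩ := vE_mul hF a b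
    rw [← mul_smul, hz, mul_smul]
    exact (zE_mk hF X z _).symm

theorem vadd_mk (a : Fin k → F) (x : X) (hx) :
    ((a +ᵥ (⟨Quotient.mk'' (toXZ hF k x), hx⟩ : NSet hF k X)).1 : ZO hF k X) =
      Quotient.mk'' (toXZ hF k <| vE hF a • x) := rfl

/-- Stabilisers of orbits are isotropic. -/
theorem stab_isotropic (O : NSet hF k X) {a b : Fin k → F} (ha : a ∈ stabilizer (Fin k → F) O)
    (hb : b ∈ stabilizer (Fin k → F) O) : psi₂ hF (pairV hF k a b) = 1 := by
  obtain ⟨x, hx, rfl⟩ := nset_exists hF X O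
  rw [mem_stabilizer_iff] at ha hb
  obtain ⟨z1, hz1⟩ := orbitRel_apply.1 (Quotient.eq''.1 (congrArg Subtype.val ha))
  obtain ⟨z2, hz2⟩ := orbitRel_apply.1 (Quotient.eq''.1 (congrArg Subtype.val hb))
  change zE (k := k) hF z1 • x = vE hF a • x at hz1
  change zE (k := k) hF z2 • x = vE hF b • x at hz2
  obtain ⟨z, hz, hzc⟩ := vE_comm hF a b
  have e1 : (vE hF a * vE hF b) • x = (zE (k := k) hF (z1 + z2)) • x := by
    rw [mul_smul, ← hz2, ← mul_smul, ← zE_comm_vE hF, mul_smul, ← hz1, ← mul_smul, ← zE_add, add_comm z2 z1]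
  have e2 : (vE hF b * vE hF a) • x = (zE (k := k) hF (z1 + z2)) • x := by
    rw [mul_smul, ← hz1, ← mul_smul, ← zE_comm_vE hF, mul_smul, ← hz2, ← mul_smul, ← zE_add]
  rw [hzc, mul_smul, e2] at e1
  have hzs : z ∈ stabilizer (Skew hF) (toXZ hF k x) := by
    rw [mem_stabilizer_iff]
    change zE (k := k) hF z • x = x
    rw [← mul_smul, ← zE_add, add_comm z (z1 + z2), zE_add, mul_smul] at e1
    exact MulAction.injective _ e1
  have h := (sees_mk hF X 1 _).1 hx z hzs
  rw [one_mul, hz] at h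
  rw [pairV_apply hF, psi₂_apply hF, ← herm_swap hF a b]
  exact h

theorem card_stab_le (O : NSet hF k X) : Nat.card (stabilizer (Fin k → F) O) ≤ q ^ k := by
  have h := card_sq_le (pairV_perfect hF (k := k)) (stabilizer (Fin k → F) O)
    fun a ha b hb => stab_isotropic hF X O ha hb
  rw [Nat.card_fun, Nat.card_fin, hF, ← pow_mul, mul_comm 2 k, pow_mul, pow_two] at h
  exact Nat.mul_self_le_mul_self_iff.1 h

theorem le_card_wt (o : AOrb (M := Fin k → F) (NSet hF k X)) :
    q ^ k ≤ Nat.card (wtB (pairV hF k) (psi₂ hF) o) := by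
  rw [wtB, card_annB (pairV_perfect hF)]
  have h1 := (stabilizer (Fin k → F) o.out).card_mul_index
  rw [Nat.card_fun, Nat.card_fin, hF, ← pow_mul, mul_comm 2 k, pow_mul, pow_two] at h1
  by_contra h
  push Not at h
  have h2 := card_stab_le hF X o.out
  have hpos : 0 < Nat.card (stabilizer (Fin k → F) o.out) := Nat.card_pos
  nlinarith

/-- The Levi complement on the orbits. -/
theorem nmap_levi_vadd (l : Cfsg.SU k F q) (a : Fin k → F) (O : NSet hF k X) :
    nmap hF X (cz_levi hF l) (a +ᵥ O) = (suMat l *ᵥ a) +ᵥ nmap hF X (cz_levi hF l) O := by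
  obtain ⟨x, hx, rfl⟩ := nset_exists hF X O
  refine Subtype.ext ?_
  change (Quotient.mk'' (toXZ hF k <| levi l • vE hF a • x) : ZO hF k X) =
    Quotient.mk'' (toXZ hF k <| vE hF (suMat l *ᵥ a) • levi l • x)
  obtain ⟨z, hz⟩ := levi_vE hF l a
  rw [mul_inv_eq_iff_eq_mul] at hz
  rw [← mul_smul, hz, mul_smul, mul_smul]
  exact zE_mk hF X z _

end CfsgLib.MinIdxPSU
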