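import Cfsg.Agent.MinIdxPSU.Centres
import Mathlib.GroupTheory.SpecificGroups.Cyclic

/-!
A subgroup covering the Levi complement and meeting the radical in its centre contains a conjugate of the complement.
-/

set_option autoImplicit false
set_option linter.style.haveILetI false
set_option linter.unusedSectionVars false

namespace CfsgLib.MinIdxPSU

open Matrix CfsgLib.Unitary CfsgLib.Forms

variable {F : Type*} [Field F] [Finite F] {q k : ℕ} (hF : Nat.card F = q ^ 2)

section diag

omit [Finite F] in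
/-- A diagonal element. -/
def diagSU (d : Fin k → F) (h1 : ∀ i, d i * d i ^ q = 1) (h2 : ∏ i, d i = 1) : Cfsg.SU k F q :=
  ⟨⟨Matrix.diagonal d, by rw [Matrix.det_diagonal, h2]⟩, fun u v => by
    change Cfsg.hermForm k F q (Matrix.diagonal d *ᵥ u) (Matrix.diagonal d *ᵥ v) = _
    simp only [Cfsg.hermForm, Matrix.mulVec_diagonal]
    refine Finset.sum_congr rfl fun i _ => ?_
    rw [mul_pow]
    linear_combination (u i * v i ^ q) * h1 i⟩

omit [Finite F] in
theorem diagSU_apply {d : Fin k → F} {h1 : ∀ i, d i * d i ^ q = 1} {h2 : ∏ i, d i = 1} (v : Fin k → F) (i : Fin k) :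
    (suMat (diagSU d h1 h2) *ᵥ v) i = d i * v i :=
  Matrix.mulVec_diagonal d v i

omit [Finite F] in
theorem diagSU_comm {d d' : Fin k → F} {h1 : ∀ i, d i * d i ^ q = 1} {h2 : ∏ i, d i = 1}
    {h1' : ∀ i, d' i * d' i ^ q = 1} {h2' : ∏ i, d' i = 1} :
    diagSU d h1 h2 * diagSU d' h1' h2' = diagSU d' h1' h2' * diagSU d h1 h2 :=
  su_ext fun v => funext fun i => by
    rw [suMat_mul, suMat_mul, ← Matrix.mulVec_mulVec, ← Matrix.mulVec_mulVec]
    simp only [diagSU_apply]
    ring

omit [Finite F] in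
theorem diagSU_fpf {d : Fin k → F} {h1 : ∀ i, d i * d i ^ q = 1} {h2 : ∏ i, d i = 1} (hd : ∀ i, d i ≠ 1)
    (v : Fin k → F) (hv : suMat (diagSU d h1 h2) *ᵥ v = v) : v = 0 := funext fun i => by
  have h := congrFun hv i
  rw [diagSU_apply] at h
  exact (mul_eq_zero.1 (show (d i - 1) * v i = 0 by linear_combination h)).resolve_left (sub_ne_zero.2 (hd i))

omit [Finite F] in
theorem diagSU_eigen {d : Fin k → F} {h1 : ∀ i, d i * d i ^ q = 1} {h2 : ∏ i, d i = 1} {α : F} {v : Fin k → F}
    (h : ∀ i, v i = 0 ∨ d i = α) : suMat (diagSU d h1 h2) *ᵥ v = α • v := funext fun i => by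
  rw [diagSU_apply, Pi.smul_apply, smul_eq_mul]
  rcases h i with e | e <;> rw [e]
  simp

end diag

include hF

theorem exists_norm_one_generator : ∃ α : F, α * α ^ q = 1 ∧ ∀ j : ℕ, α ^ j = 1 ↔ q + 1 ∣ j := by
  haveI := Fintype.ofFinite F
  obtain ⟨g, hg⟩ := IsCyclic.exists_ofOrder_eq_natCard (α := Fˣ)
  rw [card_units_eq hF] at hg
  refine ⟨((g ^ (q - 1) : Fˣ) : F), ?_, fun j => ?_⟩
  · rw [← pow_succ', ← Units.val_pow_eq_pow_val, ← pow_mul, show (q - 1) * (q + 1) = orderOf g by rw [hg, mul_comm],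
      pow_orderOf_eq_one, Units.val_one]
  · rw [← Units.val_pow_eq_pow_val, Units.val_eq_one, ← pow_mul, ← orderOf_dvd_iff_pow_eq_one, hg, mul_comm (q + 1)]
    have := two_le_q hF
    exact Nat.mul_dvd_mul_iff_left (by omega)

/-- The hypotheses on the stabiliser. -/
structure Covers (H : Subgroup (G k F q)) : Prop where
  lift : ∀ l : Cfsg.SU k F q, ∃ a, ∃ z : Skew hF, zE hF z * vE hF a * levi l ∈ H
  free : ∀ a : Fin k → F, ∀ z : Skew hF, zE hF z * vE hF a ∈ H → a = 0

/-- The part of the complement lifting inside the centre. -/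
noncomputable def straight (H : Subgroup (G k F q)) : Subgroup (Cfsg.SU k F q) where
  carrier := {l | ∃ z : Skew hF, zE hF z * levi l ∈ H}
  one_mem' := ⟨0, by rw [zE_zero, map_one, mul_one]; exact one_mem _⟩
  mul_mem' := by
    rintro l m ⟨z, hz⟩ ⟨w, hw⟩
    refine ⟨z + w, ?_⟩
    have h := mul_mem hz hw
    have hc : levi l * zE hF w = zE hF w * levi l := mul_inv_eq_iff_eq_mul.1 (levi_zE hF l w)
    rwa [show zE hF z * levi l * (zE hF w * levi m) = zE hF (z + w) * levi (l * m) by
      rw [zE_add, map_mul, mul_assoc, ← mul_assoc (levi l), hc]; group] at h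
  inv_mem' := by
    rintro l ⟨z, hz⟩
    refine ⟨-z, ?_⟩
    have h := inv_mem hz
    have hc : levi l⁻¹ * zE hF (-z) = zE hF (-z) * levi l⁻¹ := mul_inv_eq_iff_eq_mul.1 (levi_zE hF l⁻¹ (-z))
    have hz' : (zE (k := k) hF z)⁻¹ = zE hF (-z) :=
      inv_eq_of_mul_eq_one_right (by rw [← zE_add, add_neg_cancel, zE_zero])
    rwa [_root_.mul_inv_rev, hz', ← map_inv, hc] at h

variable {hF}

omit hF in
theorem unique_lift {hF : Nat.card F = q ^ 2} {H : Subgroup (G k F q)} (hH : Covers hF H) {l : G k F q}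
    {a b : Fin k → F} {z w : Skew hF} (ha : zE hF z * vE hF a * l ∈ H) (hb : zE hF w * vE hF b * l ∈ H) : a = b := by
  obtain ⟨t, ht⟩ := vE_mul hF (a - b) b
  rw [sub_add_cancel] at ht
  have h := mul_mem ha (inv_mem hb)
  refine sub_eq_zero.1 (hH.free _ (z + -w + -t) ?_)
  have hinv : ∀ s : Skew hF, (zE (k := k) hF s)⁻¹ = zE hF (-s) := fun s =>
    inv_eq_of_mul_eq_one_right (by rw [← zE_add, add_neg_cancel, zE_zero])
  have ha' : vE hF a = zE hF (-t) * (vE hF (a - b) * vE hF b) := by
    rw [ht, ← mul_assoc, ← zE_add, neg_add_cancel, zE_zero, one_mul]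
  rwa [show zE hF z * vE hF a * l * (zE hF w * vE hF b * l)⁻¹ = zE hF (z + -w + -t) * vE hF (a - b) by
    rw [ha', _root_.mul_inv_rev, _root_.mul_inv_rev, hinv, zE_add, zE_add]
    calc zE hF z * (zE hF (-t) * (vE hF (a - b) * vE hF b)) * l * (l⁻¹ * ((vE hF b)⁻¹ * zE hF (-w)))
        = zE hF z * zE hF (-t) * (vE hF (a - b) * zE hF (-w)) := by group
      _ = zE hF z * zE hF (-t) * (zE hF (-w) * vE hF (a - b)) := by rw [zE_comm_vE]
      _ = zE hF z * zE hF (-w) * zE hF (-t) * vE hF (a - b) := by
        rw [← mul_assoc, ← zE_add, ← zE_add, ← zE_add, ← zE_add, add_right_comm z (-t) (-w)]] at h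

omit hF in
theorem straight_of_commute {hF : Nat.card F = q ^ 2} {H : Subgroup (G k F q)} (hH : Covers hF H)
    {g m : Cfsg.SU k F q} (hg : g ∈ straight hF H) (hfpf : ∀ v, suMat g *ᵥ v = v → v = 0) (hc : m * g = g * m) :
    m ∈ straight hF H := by
  obtain ⟨a, z, hm⟩ := hH.lift m
  obtain ⟨w, hw⟩ := hg
  suffices ha : a = 0 by
    have h0 : sec hF (0 : Fin k → F) ∈ Skew hF := (heis_zero_iff hF _).1 (sec_spec hF 0)
    refine ⟨z + ⟨_, h0⟩, ?_⟩
    rw [ha] at hm
    rwa [zE_add]
  have h1 := mul_mem hm hw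
  have h2 := mul_mem hw hm
  obtain ⟨t, ht⟩ := levi_vE hF g a
  have hc1 : levi m * zE hF w = zE hF w * levi m := mul_inv_eq_iff_eq_mul.1 (levi_zE hF m w)
  have hc2 : levi g * zE hF z = zE hF z * levi g := mul_inv_eq_iff_eq_mul.1 (levi_zE hF g z)
  have e1 : zE hF z * vE hF a * levi m * (zE hF w * levi g) = zE hF (z + w) * vE hF a * levi (g * m) := by
    rw [zE_add, ← hc, map_mul]
    calc zE hF z * vE hF a * levi m * (zE hF w * levi g)
        = zE hF z * vE hF a * (levi m * zE hF w) * levi g := by group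
      _ = zE hF z * (vE hF a * zE hF w) * (levi m * levi g) := by rw [hc1]; group
      _ = zE hF z * zE hF w * vE hF a * (levi m * levi g) := by rw [← zE_comm_vE hF]; group
  have e2 : zE hF w * levi g * (zE hF z * vE hF a * levi m) =
      zE hF (w + z + t) * vE hF (suMat g *ᵥ a) * levi (g * m) := by
    rw [zE_add, zE_add, map_mul]
    calc zE hF w * levi g * (zE hF z * vE hF a * levi m)
        = zE hF w * (levi g * zE hF z) * vE hF a * levi m := by group
      _ = zE hF w * zE hF z * (levi g * vE hF a * (levi g)⁻¹) * (levi g * levi m) := by rw [hc2]; group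
      _ = zE hF w * zE hF z * zE hF t * vE hF (suMat g *ᵥ a) * (levi g * levi m) := by rw [ht]; group
  rw [e1] at h1
  rw [e2] at h2
  exact hfpf a (unique_lift hH h1 h2).symm

omit hF in
theorem covers_conj {hF : Nat.card F = q ^ 2} {H : Subgroup (G k F q)} (hH : Covers hF H) (b : Fin k → F) :
    Covers hF (H.map (MulAut.conj (vE hF b)).toMonoidHom) := by
  have hinv : ∀ s : Skew hF, (zE (k := k) hF s)⁻¹ = zE hF (-s) := fun s =>
    inv_eq_of_mul_eq_one_right (by rw [← zE_add, add_neg_cancel, zE_zero])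
  refine ⟨fun l => ?_, fun a z h => ?_⟩
  · obtain ⟨a, z, ha⟩ := hH.lift l
    obtain ⟨t, ht⟩ := levi_vE hF l b
    obtain ⟨s, hs⟩ := vE_mul hF b a
    obtain ⟨r, hr⟩ := vE_mul hF (b + a - suMat l *ᵥ b) (suMat l *ᵥ b)
    rw [sub_add_cancel] at hr
    refine ⟨b + a - suMat l *ᵥ b, z + s + -r + -t, _, ha, ?_⟩
    change vE hF b * (zE hF z * vE hF a * levi l) * (vE hF b)⁻¹ = _
    have hb : levi l * (vE hF b)⁻¹ = (zE hF t * vE hF (suMat l *ᵥ b))⁻¹ * levi l := by rw [← ht]; group
    have hr' : vE hF (b + a) = zE hF (-r) * (vE hF (b + a - suMat l *ᵥ b) * vE hF (suMat l *ᵥ b)) := by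
      rw [hr, ← mul_assoc, ← zE_add, neg_add_cancel, zE_zero, one_mul]
    calc vE hF b * (zE hF z * vE hF a * levi l) * (vE hF b)⁻¹
        = vE hF b * zE hF z * vE hF a * (levi l * (vE hF b)⁻¹) := by group
      _ = zE hF z * (vE hF b * vE hF a) * ((zE hF t * vE hF (suMat l *ᵥ b))⁻¹ * levi l) := by
        rw [← zE_comm_vE hF, hb]; group
      _ = zE hF z * zE hF s * zE hF (-r) * vE hF (b + a - suMat l *ᵥ b) * zE hF (-t) * levi l := by
        rw [hs, hr', _root_.mul_inv_rev, hinv]; group
      _ = zE hF (z + s + -r + -t) * vE hF (b + a - suMat l *ᵥ b) * levi l := by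
        rw [zE_add, zE_add, zE_add, mul_assoc _ (vE hF _) (zE hF (-t)), ← zE_comm_vE hF]; group
  · obtain ⟨y, hy, he⟩ := h
    change vE hF b * y * (vE hF b)⁻¹ = _ at he
    have hy' : y = (vE hF b)⁻¹ * (zE hF z * vE hF a) * vE hF b := by rw [← he]; group
    obtain ⟨s, -, hs⟩ := vE_comm hF a b
    refine hH.free a (z + s) ?_
    rwa [hy', show (vE hF b)⁻¹ * (zE hF z * vE hF a) * vE hF b = zE hF (z + s) * vE hF a by
      calc (vE hF b)⁻¹ * (zE hF z * vE hF a) * vE hF b
          = (vE hF b)⁻¹ * zE hF z * (vE hF a * vE hF b) := by group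
        _ = (vE hF b)⁻¹ * (zE hF z * zE hF s * vE hF b) * vE hF a := by rw [hs]; group
        _ = (vE hF b)⁻¹ * (vE hF b * zE hF (z + s)) * vE hF a := by rw [← zE_add, zE_comm_vE hF]
        _ = zE hF (z + s) * vE hF a := by group] at hy

omit hF in
theorem exists_straight {hF : Nat.card F = q ^ 2} {H : Subgroup (G k F q)} (hH : Covers hF H) (g : Cfsg.SU k F q)
    (hfpf : ∀ v, suMat g *ᵥ v = v → v = 0) :
    ∃ b : Fin k → F, g ∈ straight hF (H.map (MulAut.conj (vE hF b)).toMonoidHom) := by
  obtain ⟨a, z, ha⟩ := hH.lift g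
  let φ : (Fin k → F) →+ (Fin k → F) :=
    AddMonoidHom.mk' (fun b => suMat g *ᵥ b - b) fun x y => by rw [Matrix.mulVec_add]; abel
  have hinj : Function.Injective φ := (injective_iff_map_eq_zero φ).2 fun v hv =>
    hfpf v (sub_eq_zero.1 hv)
  obtain ⟨b, hb⟩ := (Finite.injective_iff_surjective.1 hinj) a
  refine ⟨b, ?_⟩
  have hH' := covers_conj hH b
  obtain ⟨a', z', ha'⟩ := hH'.lift g
  -- the parameter of the conjugate
  have hmem : vE hF b * (zE hF z * vE hF a * levi g) * (vE hF b)⁻¹ ∈ H.map (MulAut.conj (vE hF b)).toMonoidHom :=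
    ⟨_, ha, rfl⟩
  obtain ⟨t, ht⟩ := levi_vE hF g b
  obtain ⟨s, hs⟩ := vE_mul hF b a
  have hba : b + a = suMat g *ᵥ b := by rw [← hb]; change b + (suMat g *ᵥ b - b) = _; abel
  have hinv : ∀ s : Skew hF, (zE (k := k) hF s)⁻¹ = zE hF (-s) := fun s =>
    inv_eq_of_mul_eq_one_right (by rw [← zE_add, add_neg_cancel, zE_zero])
  have hb' : levi g * (vE hF b)⁻¹ = (zE hF t * vE hF (suMat g *ᵥ b))⁻¹ * levi g := by rw [← ht]; group
  refine ⟨z + s + -t, ?_⟩
  rwa [show vE hF b * (zE hF z * vE hF a * levi g) * (vE hF b)⁻¹ = zE hF (z + s + -t) * levi g by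
    calc vE hF b * (zE hF z * vE hF a * levi g) * (vE hF b)⁻¹
        = vE hF b * zE hF z * vE hF a * (levi g * (vE hF b)⁻¹) := by group
      _ = zE hF z * (vE hF b * vE hF a) * ((zE hF t * vE hF (suMat g *ᵥ b))⁻¹ * levi g) := by
        rw [← zE_comm_vE hF, hb']; group
      _ = zE hF z * zE hF s * zE hF (-t) * levi g := by rw [hs, hba, _root_.mul_inv_rev, hinv]; group
      _ = zE hF (z + s + -t) * levi g := by rw [zE_add, zE_add]] at hmem

omit hF in
theorem eigen_centred {hF : Nat.card F = q ^ 2} {H : Subgroup (G k F q)} (hH : Covers hF H)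
    {g : Cfsg.SU k F q} (hg : g ∈ straight hF H) (hfpf : ∀ v, suMat g *ᵥ v = v → v = 0) {α : F}
    (hα : α * α ^ q = 1) {v : Fin k → F} (hv : Cfsg.hermForm k F q v v = 0) (hgv : suMat g *ᵥ v = α • v) :
    v ∈ Centred (straight hF H) := by
  refine (centred_iff hF hv).2 fun c hc => straight_of_commute hH hg hfpf ?_
  refine su_ext fun y => ?_
  have hs : ∀ y, suMat (suTv k v c hv hc hF) *ᵥ y = y + (c * Cfsg.hermForm k F q y v) • v := utv_mulVec v c
  have he : Cfsg.hermForm k F q (suMat g *ᵥ y) v = α * Cfsg.hermForm k F q y v := by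
    conv_rhs => rw [← su_preserves g y v, hgv, herm_smul_right hF, ← mul_assoc, hα, one_mul]
  rw [suMat_mul, suMat_mul, ← Matrix.mulVec_mulVec, ← Matrix.mulVec_mulVec, hs, hs, Matrix.mulVec_add,
    Matrix.mulVec_smul, hgv, he, smul_smul]
  congr 2
  ring

omit hF in
theorem commutator_mul_central {Γ : Type*} [Group Γ] {a b x y : Γ} (hax : Commute a x) (hay : Commute a y)
    (hbx : Commute b x) (hby : Commute b y) (hab : Commute a b) :
    a * x * (b * y) * (a * x)⁻¹ * (b * y)⁻¹ = x * y * x⁻¹ * y⁻¹ := by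
  calc a * x * (b * y) * (a * x)⁻¹ * (b * y)⁻¹
      = a * (x * b) * y * x⁻¹ * a⁻¹ * y⁻¹ * b⁻¹ := by group
    _ = a * b * (x * y * x⁻¹) * a⁻¹ * (y⁻¹ * b⁻¹) := by rw [← hbx.eq]; group
    _ = a * b * a⁻¹ * (x * y * x⁻¹) * (y⁻¹ * b⁻¹) := by
        rw [mul_assoc (a * b), (((hax.mul_right hay).mul_right hax.inv_right).inv_left).symm.eq]
        group
    _ = b * (x * y * x⁻¹) * (b⁻¹ * y⁻¹) := by
        rw [hab.eq, mul_inv_cancel_right, (hby.inv_right.inv_left).eq]
    _ = x * y * x⁻¹ * y⁻¹ := by
        rw [((hbx.mul_right hby).mul_right hbx.inv_right).eq]; group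

omit hF in
/-- Some conjugate contains the complement. -/
theorem exists_levi_le {hF : Nat.card F = q ^ 2} {H : Subgroup (G k F q)} (hH : Covers hF H) (hk : 3 ≤ k)
    (hq : 2 ≤ q) (h342 : ¬ ((k = 3 ∨ k = 4) ∧ q = 2)) :
    ∃ b : Fin k → F, ∀ l, levi l ∈ H.map (MulAut.conj (vE hF b)).toMonoidHom := by
  haveI := Fintype.ofFinite F
  classical
  obtain ⟨α, hα, hαj⟩ := exists_norm_one_generator hF
  have hq0 : q ≠ 0 := by omega
  have hne : ∀ j : ℕ, j ≠ 0 → j < q + 1 → α ^ j ≠ 1 := fun j h0 hj h =>
    absurd (Nat.le_of_dvd (Nat.pos_of_ne_zero h0) ((hαj j).1 h)) (by omega)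
  have hα0 : α ≠ 0 := fun e => by rw [e, zero_mul] at hα; exact zero_ne_one hα
  have hnorm : ∀ j : ℕ, α ^ j * (α ^ j) ^ q = 1 := fun j => by rw [← pow_mul, mul_comm j q, pow_mul, ← mul_pow, hα, one_pow]
  have hnormi : ∀ j : ℕ, (α ^ j)⁻¹ * ((α ^ j)⁻¹) ^ q = 1 := fun j => by rw [inv_pow, ← mul_inv, hnorm, inv_one]
  have h1α : α ≠ 1 := by have := hne 1 one_ne_zero (by omega); rwa [pow_one] at this
  obtain ⟨m, rfl⟩ : ∃ m, k = m + 1 := ⟨k - 1, by omega⟩
  -- the goal from a subgroup of the complement equal to everything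
  suffices h : ∃ b : Fin (m + 1) → F, straight hF (H.map (MulAut.conj (vE hF b)).toMonoidHom) = ⊤ by
    obtain ⟨b, hb⟩ := h
    refine ⟨b, fun l => ?_⟩
    set H' := H.map (MulAut.conj (vE hF b)).toMonoidHom
    have hle : commutator (Cfsg.SU (m + 1) F q) ≤ H'.comap levi := by
      rw [commutator_def, Subgroup.commutator_le]
      intro x _ y _
      obtain ⟨z, hz⟩ : x ∈ straight hF H' := hb ▸ Subgroup.mem_top x
      obtain ⟨w, hw⟩ : y ∈ straight hF H' := hb ▸ Subgroup.mem_top y
      have hc : ∀ (l : Cfsg.SU (m + 1) F q) (s : Skew hF), Commute (zE hF s) (levi l) := fun l s =>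
        (mul_inv_eq_iff_eq_mul.1 (levi_zE hF l s)).symm
      have hzz : Commute (zE (k := m + 1) hF z) (zE hF w) := by
        change _ * _ = _ * _
        rw [← zE_add, ← zE_add, add_comm z w]
      have h := mul_mem (mul_mem (mul_mem hz hw) (inv_mem hz)) (inv_mem hw)
      rw [Subgroup.mem_comap, map_commutatorElement, commutatorElement_def]
      rwa [commutator_mul_central (hc x z) (hc y z) (hc x w) (hc y w) hzz] at h
    rw [commutator_SU_eq_top hF hk (fun h => by omega)] at hle
    exact hle (Subgroup.mem_top l)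
  have hεex : ∃ ε : F, ε * ε ^ q = -1 := by
    obtain ⟨e, he⟩ := exists_norm_eq hF (μ := (-1 : F)) (by rw [← frobQ_apply hF, map_neg, map_one])
    exact ⟨e, by rw [← pow_succ', he]⟩
  obtain ⟨ε, hε⟩ := hεex
  have hε0 : ε ≠ 0 := fun e => by rw [e, zero_mul] at hε; exact neg_ne_zero.2 one_ne_zero hε.symm
  by_cases hdiv : q + 1 ∣ m
  · -- two exceptional eigenvalues
    obtain ⟨m', rfl⟩ : ∃ m', m = m' + 1 + 1 := ⟨m - 2, by
      have := Nat.le_of_dvd (by omega) hdiv
      omega⟩
    have hm4 : 2 ≤ m' + 1 ∧ 3 ≤ m' + 1 + 1 + 1 := by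
      have := Nat.le_of_dvd (by omega) hdiv
      omega
    have hpow : α ^ (m' + 1 + 1) = 1 := (hαj _).2 hdiv
    have hd : ∀ d : Fin (m' + 1 + 1 + 1) → F, (∀ i, d i = α ∨ d i = α ^ 2 ∨ d i = α⁻¹) →
        (∀ i, d i * d i ^ q = 1) ∧ ∀ i, d i ≠ 1 := by
      intro d hd
      refine ⟨fun i => ?_, fun i => ?_⟩ <;> rcases hd i with e | e | e <;> rw [e]
      · exact hα
      · exact hnorm 2
      · have := hnormi 1; rwa [pow_one] at this
      · exact h1α
      · exact hne 2 two_ne_zero (by omega)
      · rwa [ne_eq, inv_eq_one]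
    set d : Fin (m' + 1 + 1 + 1) → F := Fin.cons (α ^ 2) (Fin.cons α⁻¹ fun _ => α) with hd'
    set d' : Fin (m' + 1 + 1 + 1) → F := Fin.cons (α ^ 2) (Fin.cons α (Fin.cons α⁻¹ fun _ => α)) with hd''
    have hdv : ∀ i, d i = α ∨ d i = α ^ 2 ∨ d i = α⁻¹ := fun i => by
      induction i using Fin.cases with
      | zero => simp [hd']
      | succ i => induction i using Fin.cases <;> simp [hd']
    have hdv' : ∀ i, d' i = α ∨ d' i = α ^ 2 ∨ d' i = α⁻¹ := fun i => by
      induction i using Fin.cases with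
      | zero => simp [hd'']
      | succ i =>
        induction i using Fin.cases with
        | zero => simp [hd'']
        | succ i =>
          induction i using Fin.cases with
          | zero => exact Or.inr (Or.inr rfl)
          | succ i => simp [hd'']
    have hprod : ∏ i, d i = 1 := by
      rw [hd', Fin.prod_univ_succ, Fin.prod_univ_succ]
      simp only [Fin.cons_zero, Fin.cons_succ, Finset.prod_const, Finset.card_univ, Fintype.card_fin]
      rw [← hpow]
      field_simp
      ring
    have hprod' : ∏ i, d' i = 1 := by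
      rw [hd'', Fin.prod_univ_succ, Fin.prod_univ_succ, Fin.prod_univ_succ]
      simp only [Fin.cons_zero, Fin.cons_succ, Finset.prod_const, Finset.card_univ, Fintype.card_fin]
      rw [← hpow]
      field_simp
      ring
    set g := diagSU d (hd d hdv).1 hprod
    set g' := diagSU d' (hd d' hdv').1 hprod'
    obtain ⟨b, hb⟩ := exists_straight hH g (diagSU_fpf (hd d hdv).2)
    have hH' := covers_conj hH b
    have hb' := straight_of_commute hH' hb (diagSU_fpf (hd d hdv).2) (m := g') diagSU_comm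
    refine ⟨b, centred_eq_top hF (by omega) (fun h => by omega) ?_⟩
    set S := straight hF (H.map (MulAut.conj (vE hF b)).toMonoidHom)
    have hS2 : ∀ v : Fin (m' + 1) → F, Cfsg.hermForm _ F q v v = 0 →
        (Fin.cons 0 (Fin.cons 0 v) : Fin (m' + 1 + 1 + 1) → F) ∈ Centred S := fun v hv =>
      eigen_centred hH' hb (diagSU_fpf (hd d hdv).2) hα
        (by rw [herm_cons, herm_cons, hv, zero_mul, zero_add, zero_add])
        (diagSU_eigen fun i => by
          induction i using Fin.cases with
          | zero => simp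
          | succ i => induction i using Fin.cases <;> simp [hd'])
    set p : Fin (m' + 1) → F := Fin.cons 0 (Pi.single ⟨0, by omega⟩ ε) with hp
    have hp1 : (Fin.cons 0 (Fin.cons 1 p) : Fin (m' + 1 + 1 + 1) → F) ∈ Centred S := by
      refine eigen_centred hH' hb' (diagSU_fpf (hd d' hdv').2) hα ?_ (diagSU_eigen fun i => ?_)
      · rw [herm_cons, herm_cons, hp, herm_cons, herm_single_single, hε]
        ring
      · induction i using Fin.cases with
        | zero => simp
        | succ i =>
          induction i using Fin.cases with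
          | zero => simp [hd'']
          | succ i =>
            induction i using Fin.cases with
            | zero => exact Or.inl rfl
            | succ i => simp [hd'']
    have hS1 : ∀ w : Fin (m' + 1 + 1) → F, Cfsg.hermForm _ F q w w = 0 →
        (Fin.cons 0 w : Fin (m' + 1 + 1 + 1) → F) ∈ Centred S := by
      intro w hw
      have hcen : ∀ u : Fin (m' + 1 + 1) → F, u ∈ Centred (S.comap suSucc) ↔
          (Fin.cons 0 u : Fin (m' + 1 + 1 + 1) → F) ∈ Centred S := fun u => by
        have e : ∀ (A : Cfsg.SU (m' + 1 + 1) F q) (c : F),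
            suMat A = Cfsg.unitaryTransvection _ q u c →
            suMat (suSucc A) = Cfsg.unitaryTransvection _ q (Fin.cons 0 u) c := fun A c hA => by
          refine Matrix.ext_iff_smul.mpr fun x => ?_
          rw [Matrix.smul_eq_mulVec, Matrix.smul_eq_mulVec, suSucc_mulVec, hA, utv_mulVec, utv_mulVec]
          conv_rhs => rw [← Fin.cons_self_tail x, herm_cons, zero_pow hq0, mul_zero, zero_add]
          funext i
          induction i using Fin.cases <;> simp [Fin.tail]
        constructor
        · intro h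
          refine (centred_iff hF (by rw [herm_cons, h.1, zero_mul, zero_add])).2 fun c hc => ?_
          have h2 : suSucc (suTv _ u c h.1 hc hF) = suTv _ (Fin.cons 0 u) c
              (by rw [herm_cons, h.1, zero_mul, zero_add]) hc hF :=
            su_ext fun x => by rw [e _ c rfl]; rfl
          rw [← h2]
          exact h.2 _ c hc rfl
        · intro h
          refine ⟨?_, fun A c hc hA => h.2 _ c hc (e A c hA)⟩
          have := h.1
          rwa [herm_cons, zero_mul, zero_add] at this
      exact (hcen w).1 (centred_step hF hm4.1 (fun h => by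
        obtain ⟨h1, h2⟩ := h
        rw [show m' + 1 + 1 = 4 by omega, h2] at hdiv
        norm_num at hdiv) (fun v hv => (hcen _).2 (hS2 v hv))
        ((hcen _).2 hp1) (by simp) w hw)
    set d'' : Fin (m' + 1 + 1 + 1) → F := Fin.cons α (Fin.cons (α ^ 2) (Fin.cons α⁻¹ fun _ => α)) with hd3
    have hdv'' : ∀ i, d'' i = α ∨ d'' i = α ^ 2 ∨ d'' i = α⁻¹ := fun i => by
      induction i using Fin.cases with
      | zero => simp [hd3]
      | succ i =>
        induction i using Fin.cases with
        | zero => simp [hd3]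
        | succ i =>
          induction i using Fin.cases with
          | zero => exact Or.inr (Or.inr rfl)
          | succ i => simp [hd3]
    have hprod'' : ∏ i, d'' i = 1 := by
      rw [hd3, Fin.prod_univ_succ, Fin.prod_univ_succ, Fin.prod_univ_succ]
      simp only [Fin.cons_zero, Fin.cons_succ, Finset.prod_const, Finset.card_univ, Fintype.card_fin]
      rw [← hpow]
      field_simp
      ring
    have hb'' := straight_of_commute hH' hb (diagSU_fpf (hd d hdv).2) (m := diagSU d'' (hd d'' hdv'').1 hprod'')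
      diagSU_comm
    have hp0 : (Fin.cons 1 (Fin.cons 0 p) : Fin (m' + 1 + 1 + 1) → F) ∈ Centred S := by
      refine eigen_centred hH' hb'' (diagSU_fpf (hd d'' hdv'').2) hα ?_ (diagSU_eigen fun i => ?_)
      · rw [herm_cons, herm_cons, hp, herm_cons, herm_single_single, hε]
        ring
      · induction i using Fin.cases with
        | zero => simp [hd3]
        | succ i =>
          induction i using Fin.cases with
          | zero => simp
          | succ i =>
            induction i using Fin.cases with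
            | zero => exact Or.inl rfl
            | succ i => simp [hd3]
    exact fun v hv => centred_step hF (by omega) (fun h => by omega) hS1 hp0 (by simp) v hv
  · -- one exceptional eigenvalue
    set β := (α ^ m)⁻¹ with hβ
    have hβ1 : β ≠ 1 := by rw [hβ, ne_eq, inv_eq_one, hαj]; exact hdiv
    set d : Fin (m + 1) → F := Fin.cons β fun _ => α with hd'
    have hd1 : ∀ i, d i * d i ^ q = 1 := fun i => by
      induction i using Fin.cases with
      | zero => simpa [hd', hβ] using hnormi m
      | succ i => simpa [hd'] using hα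
    have hd2 : ∀ i, d i ≠ 1 := fun i => by
      induction i using Fin.cases with
      | zero => simpa [hd'] using hβ1
      | succ i => simpa [hd'] using h1α
    have hprod : ∏ i, d i = 1 := by
      rw [hd', Fin.prod_univ_succ]
      simp [hβ, hα0]
    obtain ⟨b, hb⟩ := exists_straight hH (diagSU d hd1 hprod) (diagSU_fpf hd2)
    have hH' := covers_conj hH b
    refine ⟨b, centred_eq_top hF (by omega) (fun h => by omega) ?_⟩
    set S := straight hF (H.map (MulAut.conj (vE hF b)).toMonoidHom)
    have hS1 : ∀ w : Fin m → F, Cfsg.hermForm m F q w w = 0 → (Fin.cons 0 w : Fin (m + 1) → F) ∈ Centred S :=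
      fun w hw => eigen_centred hH' hb (diagSU_fpf hd2) hα (by rw [herm_cons, hw, zero_mul, zero_add])
        (diagSU_eigen fun i => by induction i using Fin.cases <;> simp [hd'])
    obtain ⟨m', rfl⟩ : ∃ m', m = m' + 1 := ⟨m - 1, by omega⟩
    set d' : Fin (m' + 1 + 1) → F := Fin.cons α (Fin.cons β fun _ => α) with hd''
    have hd1' : ∀ i, d' i * d' i ^ q = 1 := fun i => by
      induction i using Fin.cases with
      | zero => simpa [hd''] using hα
      | succ i => induction i using Fin.cases with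
        | zero => simpa [hd'', hβ] using hnormi (m' + 1)
        | succ i => simpa [hd''] using hα
    have hd2' : ∀ i, d' i ≠ 1 := fun i => by
      induction i using Fin.cases with
      | zero => simpa [hd''] using h1α
      | succ i => induction i using Fin.cases with
        | zero => simpa [hd''] using hβ1
        | succ i => simpa [hd''] using h1α
    have hprod' : ∏ i, d' i = 1 := by
      rw [hd'', Fin.prod_univ_succ, Fin.prod_univ_succ]
      simp only [Fin.cons_zero, Fin.cons_succ, Finset.prod_const, Finset.card_univ, Fintype.card_fin, hβ]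
      field_simp
      ring
    have hb' := straight_of_commute hH' hb (diagSU_fpf hd2) (m := diagSU d' hd1' hprod') diagSU_comm
    have hp0 : (Fin.cons 1 (Fin.cons 0 (Pi.single ⟨0, by omega⟩ ε)) : Fin (m' + 1 + 1) → F) ∈ Centred S := by
      refine eigen_centred hH' hb' (diagSU_fpf hd2') hα ?_ (diagSU_eigen fun i => ?_)
      · rw [herm_cons, herm_cons, herm_single_single, hε]
        ring
      · induction i using Fin.cases with
        | zero => simp [hd'']
        | succ i => induction i using Fin.cases <;> simp [hd'']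
    exact fun v hv => centred_step hF (by omega) (fun h => by omega) hS1 hp0 (by simp) v hv

end CfsgLib.MinIdxPSU
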