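import Cfsg.Agent.MinIdxPSU.Overgroup
import Cfsg.Agent.MinIdxPSU.Cocycle

/-!
The inductive step for the minimal index of the special unitary groups, and passage to the projective groups.
-/

set_option autoImplicit false
set_option linter.style.haveILetI false
set_option linter.unusedSectionVars false

namespace CfsgLib.MinIdxPSU

open Matrix CfsgLib.Unitary CfsgLib.Forms
open scoped Classical commutatorElement

variable {F : Type*} [Field F] [Finite F] {q n k : ℕ} (hF : Nat.card F = q ^ 2)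
include hF

/-- The isotropic points against the isotropic vectors. -/
theorem card_isoPt (n : ℕ) : Nat.card (IsoPt n F q) * (q ^ 2 - 1) + 1 = numLen F q n 0 := by
  haveI := Fintype.ofFinite F
  have hq := two_le_q hF
  let f : IsoPt n F q × Fˣ → {v : Fin n → F // v ≠ 0 ∧ Cfsg.hermForm n F q v v = 0} := fun p =>
    ⟨(p.2 : F) • p.1.1.rep, smul_ne_zero p.2.ne_zero p.1.1.rep_nonzero, by
      rw [herm_smul_left, herm_smul_right hF, p.1.2, mul_zero, mul_zero]⟩
  have hf : Function.Bijective f := by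
    constructor
    · rintro ⟨P, a⟩ ⟨Q, b⟩ h
      have h' : (a : F) • P.1.rep = (b : F) • Q.1.rep := congrArg Subtype.val h
      have hPQ : P = Q := by
        apply Subtype.ext
        rw [← P.1.mk_rep, ← Q.1.mk_rep, Projectivization.mk_eq_mk_iff']
        exact ⟨(a : F)⁻¹ * b, by rw [mul_smul, ← h', smul_smul, inv_mul_cancel₀ a.ne_zero, one_smul]⟩
      subst hPQ
      exact Prod.ext rfl (Units.ext (smul_left_injective F P.1.rep_nonzero h'))
    · rintro ⟨v, hv, h0⟩
      obtain ⟨a, ha⟩ := Projectivization.exists_smul_eq_mk_rep F v hv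
      refine ⟨(pt hF v hv h0, a⁻¹), Subtype.ext ?_⟩
      change ((a⁻¹ : Fˣ) : F) • (Projectivization.mk F v hv).rep = v
      rw [← ha, Units.smul_def, smul_smul, Units.val_inv_eq_inv_val, inv_mul_cancel₀ a.ne_zero, one_smul]
  have h1 := Nat.card_congr (Equiv.ofBijective f hf)
  rw [Nat.card_prod, Nat.card_units, hF] at h1
  rw [h1, numLen, Nat.card_eq_fintype_card, Nat.card_eq_fintype_card, Fintype.card_subtype, Fintype.card_subtype,
    ← Finset.filter_filter, Finset.filter_comm, Finset.filter_ne' _ (0 : Fin n → F),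
    Finset.card_erase_add_one]
  simp only [Finset.mem_filter, Finset.mem_univ, true_and]
  simp [Cfsg.hermForm]

/-- A normal subgroup is central or everything. -/
theorem normal_cases (hn : 3 ≤ n) (h32 : ¬ (n = 3 ∧ q = 2)) (N : Subgroup (Cfsg.SU n F q)) [N.Normal] :
    N ≤ Subgroup.center _ ∨ N = ⊤ := by
  haveI := isSimpleGroup_PSU hF hn h32
  set π := QuotientGroup.mk' (Subgroup.center (Cfsg.SU n F q))
  haveI : (N.map π).Normal := Subgroup.Normal.map inferInstance π (QuotientGroup.mk'_surjective _)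
  rcases (inferInstance : (N.map π).Normal).eq_bot_or_eq_top with h | h
  · left
    rw [Subgroup.map_eq_bot_iff, QuotientGroup.ker_mk'] at h
    exact h
  · right
    rw [eq_top_iff, ← commutator_SU_eq_top hF hn h32, commutator_def, Subgroup.commutator_le]
    intro a _ b _
    have hmem : ∀ x, ∃ y ∈ N, ∃ c ∈ Subgroup.center (Cfsg.SU n F q), x = y * c := by
      intro x
      obtain ⟨y, hy, hxy⟩ := Subgroup.mem_map.1 (h.symm ▸ Subgroup.mem_top (π x) : π x ∈ N.map π)
      exact ⟨y, hy, y⁻¹ * x, QuotientGroup.eq.1 hxy, by group⟩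
    obtain ⟨y, hy, c, hc, rfl⟩ := hmem a
    obtain ⟨y', hy', c', hc', rfl⟩ := hmem b
    have e : ⁅y * c, y' * c'⁆ = ⁅y, y'⁆ := by
      have h1 := Subgroup.mem_center_iff.1 hc
      have h2 := Subgroup.mem_center_iff.1 hc'
      simp only [commutatorElement_def, _root_.mul_inv_rev]
      calc y * c * (y' * c') * (c⁻¹ * y⁻¹) * (c'⁻¹ * y'⁻¹)
          = y * (c * (y' * c')) * (c⁻¹ * y⁻¹) * (c'⁻¹ * y'⁻¹) := by group
        _ = y * ((y' * c') * c) * (c⁻¹ * y⁻¹) * (c'⁻¹ * y'⁻¹) := by rw [h1]
        _ = y * y' * (c' * y⁻¹) * c'⁻¹ * y'⁻¹ := by group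
        _ = y * y' * (y⁻¹ * c') * c'⁻¹ * y'⁻¹ := by rw [h2]
        _ = y * y' * y⁻¹ * y'⁻¹ := by group
    rw [e, commutatorElement_def]
    exact mul_mem (mul_mem (mul_mem hy hy') (inv_mem hy)) (inv_mem hy')

theorem zE_injective : Function.Injective (zE (k := k) hF) := fun z w h => by
  have h' := congrArg (fun g => suMat g *ᵥ fv (k := k) hF) h
  simp only [zE_apply hF, herm_fe hF, mul_one] at h'
  exact Subtype.ext (smul_left_injective F (ev_ne_zero hF) (add_left_cancel h'))

/-- The centre of the radical moves a coset of a proper subgroup. -/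
theorem exists_moved (hk : 1 ≤ k) (h32 : ¬ (k = 1 ∧ q = 2)) {H : Subgroup (G k F q)} (hH : H ≠ ⊤) :
    ∃ x : G k F q ⧸ H, ∃ z : Skew hF, zE (k := k) hF z • x ≠ x := by
  by_contra hcon
  push Not at hcon
  have hcore : ∀ z, zE (k := k) hF z ∈ H.normalCore := fun z g => by
    have h := hcon ((g⁻¹ : G k F q) : G k F q ⧸ H) z
    change (((zE hF z * g⁻¹ : G k F q) : G k F q ⧸ H)) = _ at h
    have h2 := inv_mem (QuotientGroup.eq.1 h)
    simp only [_root_.mul_inv_rev, inv_inv] at h2
    simpa [mul_assoc] using h2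
  rcases normal_cases hF (by omega) (fun h => h32 ⟨by omega, h.2⟩) H.normalCore with hN | hN
  · let f : Skew hF → Subgroup.center (G k F q) := fun z => ⟨zE hF z, hN (hcore z)⟩
    have hf : Function.Injective f := fun z w h => zE_injective hF (congrArg Subtype.val h)
    let f' : Multiplicative (Skew hF) →* Subgroup.center (G k F q) :=
      { toFun := fun z => f z.toAdd
        map_one' := Subtype.ext (zE_zero hF)
        map_mul' := fun z w => Subtype.ext (zE_add hF _ _) }
    have hd : q ∣ Nat.gcd (k + 1 + 1) (q + 1) := by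
      have h' := Subgroup.card_dvd_of_injective f' (fun z w h => Multiplicative.toAdd.injective (hf h))
      rwa [card_center_SU hF (n := k + 1 + 1) (by omega),
        show Nat.card (Multiplicative (Skew hF)) = q from
          (Nat.card_congr Multiplicative.toAdd).trans (card_fix_skew hF).2] at h'
    have h1 : q ∣ q + 1 := hd.trans (Nat.gcd_dvd_right _ _)
    rw [Nat.dvd_add_right (dvd_refl q), Nat.dvd_one] at h1
    have := two_le_q hF
    omega
  · exact hH (top_le_iff.1 (hN ▸ H.normalCore_le))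

/-- The inductive step towards any target below the two stabiliser indices. -/
theorem bound_step_target (hk : 3 ≤ k) (h342 : ¬ ((k = 3 ∨ k = 4) ∧ q = 2)) {P T : ℕ}
    (hP : ∀ H : Subgroup (Cfsg.SU k F q), H ≠ ⊤ → P ≤ H.index)
    (hA : T ≤ q * (q ^ k * P)) (hI : T ≤ Nat.card (IsoPt (k + 1 + 1) F q))
    (hB : (q + 1) * T ≤ numLen F q (k + 1 + 1) 1)
    {H : Subgroup (G k F q)} (hH : H ≠ ⊤) : T ≤ H.index := by
  obtain ⟨x₀, hx₀⟩ := exists_moved hF (by omega) (fun h => by omega) hH
  haveI : Finite (G k F q ⧸ H) := inferInstance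
  rcases dichotomy hF (G k F q ⧸ H) hk hP x₀ hx₀ with h | ⟨x, ⟨z₁, hz₁⟩, hlift, hfree⟩
  · exact hA.trans (h.trans_eq (Subgroup.index_eq_card H).symm)
  set H' := MulAction.stabilizer (G k F q) x
  have hidx : H'.index = H.index := by
    rw [MulAction.index_stabilizer_of_transitive, Subgroup.index_eq_card]
  have hC : Covers hF H' := by
    refine ⟨fun l => ?_, fun a z h => ?_⟩
    · obtain ⟨a, z, h⟩ := hlift l
      refine ⟨a, -z, ?_⟩
      rw [MulAction.mem_stabilizer_iff, mul_assoc, mul_smul, h, ← mul_smul, ← zE_add, neg_add_cancel, zE_zero,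
        one_smul]
    · refine hfree a ⟨-z, ?_⟩
      rw [MulAction.mem_stabilizer_iff, mul_smul] at h
      conv_rhs => rw [← h, ← mul_smul, ← zE_add, neg_add_cancel, zE_zero, one_smul]
  obtain ⟨b, hb⟩ := exists_levi_le hC hk (two_le_q hF) h342
  set H'' := H'.map (MulAut.conj (vE hF b)).toMonoidHom
  have hidx' : H''.index = H.index := by
    rw [← hidx]
    exact Subgroup.index_map_equiv H' (MulAut.conj (vE hF b))
  have hz : zE hF z₁ ∉ H'' := by
    rintro ⟨h, hh, he⟩
    change vE hF b * h * (vE hF b)⁻¹ = zE hF z₁ at he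
    rw [mul_inv_eq_iff_eq_mul, zE_comm_vE hF, mul_right_inj] at he
    exact hz₁ (he ▸ MulAction.mem_stabilizer_iff.1 hh)
  have hO : Over hF H'' := ⟨hb, (covers_conj hC b).free, ⟨z₁, hz⟩, fun e => hz (e ▸ Subgroup.mem_top _)⟩
  rw [← hidx']
  rcases index_of_over hF hO hk (fun h => by omega) with h | h
  · exact hI.trans h
  · exact Nat.le_of_mul_le_mul_left (hB.trans h) (by omega)

/-- The inductive step. -/
theorem bound_step (hk : 3 ≤ k) (hq : 3 ≤ q) {P : ℕ} (hP : ∀ H : Subgroup (Cfsg.SU k F q), H ≠ ⊤ → P ≤ H.index)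
    (hA : Nat.card (IsoPt (k + 1 + 1) F q) ≤ q * (q ^ k * P))
    (hB : (q + 1) * Nat.card (IsoPt (k + 1 + 1) F q) ≤ numLen F q (k + 1 + 1) 1)
    {H : Subgroup (G k F q)} (hH : H ≠ ⊤) : Nat.card (IsoPt (k + 1 + 1) F q) ≤ H.index :=
  bound_step_target hF hk (fun h => by omega) hP hA le_rfl hB hH

/-- From the special group to the projective one. -/
theorem psu_bound {K : ℕ} (h : ∀ H : Subgroup (Cfsg.SU n F q), H ≠ ⊤ → K ≤ H.index)
    {H : Subgroup (Cfsg.PSU n F q)} (hH : H ≠ ⊤) : K ≤ H.index := by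
  have hs := QuotientGroup.mk'_surjective (Subgroup.center (Cfsg.SU n F q))
  have hidx := Subgroup.index_comap_of_surjective H hs
  rw [← hidx]
  refine h _ fun e => hH (Subgroup.comap_injective hs (e.trans (Subgroup.comap_top _).symm))

/-- The stabiliser of an isotropic point attains the bound. -/
theorem exists_psu_index (hn : 2 ≤ n) :
    ∃ H : Subgroup (Cfsg.PSU n F q), H.index = Nat.card (IsoPt n F q) := by
  haveI := isPretransitive (n := n) hF
  obtain ⟨w, hw0, hw⟩ : ∃ w : Fin n → F, w ≠ 0 ∧ Cfsg.hermForm n F q w w = 0 := by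
    obtain ⟨w, hw, hne⟩ := exists_iso_nonperp hF hn (v := (Pi.single ⟨0, by omega⟩ 1 : Fin n → F))
      (fun h => one_ne_zero (α := F) (by simpa using congrFun h ⟨0, by omega⟩))
    exact ⟨w, fun e => hne (by rw [e]; simp [Cfsg.hermForm, zero_pow (show q ≠ 0 by have := two_le_q hF; omega)]), hw⟩
  set S := MulAction.stabilizer (Cfsg.SU n F q) (pt hF w hw0 hw) with hS
  refine ⟨S.map (QuotientGroup.mk' _), ?_⟩
  rw [Subgroup.index_map_eq _ (QuotientGroup.mk'_surjective _), hS, MulAction.index_stabilizer_of_transitive]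
  rw [QuotientGroup.ker_mk']
  intro c hc
  obtain ⟨a, ha⟩ := (mem_center_SU_iff hF hn).1 hc
  rw [MulAction.mem_stabilizer_iff, smul_pt, pt_eq_iff]
  refine ⟨a, ?_⟩
  change _ = (c.1 : Matrix (Fin n) (Fin n) F) *ᵥ w
  rw [ha, Matrix.smul_mulVec, Matrix.one_mulVec]

end CfsgLib.MinIdxPSU
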