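import Cfsg.Agent.MinIdxPSU.Radical

/-!
Sets of centres of transvection groups inside a subgroup of the special unitary group.
-/

set_option autoImplicit false
set_option linter.style.haveILetI false
set_option linter.unusedSectionVars false

namespace CfsgLib.MinIdxPSU

open Matrix CfsgLib.Unitary CfsgLib.Forms

variable {F : Type*} [Field F] [Finite F] {q n : ℕ} (hF : Nat.card F = q ^ 2)

omit [Finite F] in
/-- The isotropic vectors whose whole transvection group lies in a subgroup. -/
def Centred (K : Subgroup (Cfsg.SU n F q)) : Set (Fin n → F) :=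
  {v | Cfsg.hermForm n F q v v = 0 ∧ ∀ (A : Cfsg.SU n F q) (c : F), c + c ^ q = 0 →
    suMat A = Cfsg.unitaryTransvection n q v c → A ∈ K}

include hF

theorem centred_iff {K : Subgroup (Cfsg.SU n F q)} {v : Fin n → F} (hv : Cfsg.hermForm n F q v v = 0) :
    v ∈ Centred K ↔ ∀ c : F, ∀ hc : c + c ^ q = 0, suTv n v c hv hc hF ∈ K := by
  refine ⟨fun h c hc => h.2 _ c hc rfl, fun h => ⟨hv, fun A c hc hA => ?_⟩⟩
  have : A = suTv n v c hv hc hF := su_ext fun y => by rw [hA]; rfl
  rw [this]
  exact h c hc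

theorem centred_conj {K : Subgroup (Cfsg.SU n F q)} {g : Cfsg.SU n F q} (hg : g ∈ K) {v : Fin n → F}
    (hv : v ∈ Centred K) : suMat g *ᵥ v ∈ Centred K := by
  refine ⟨by rw [su_preserves]; exact hv.1, fun A c hc hA => ?_⟩
  have hA' : suMat (g⁻¹ * A * g) = Cfsg.unitaryTransvection n q v c := by
    have h := utv_conj g⁻¹ hA
    rwa [inv_inv, su_inv_mulVec] at h
  have h1 := mul_mem (mul_mem hg (hv.2 _ c hc hA')) (inv_mem hg)
  rwa [show g * (g⁻¹ * A * g) * g⁻¹ = A by group] at h1

theorem centred_smul {K : Subgroup (Cfsg.SU n F q)} {v : Fin n → F} (a : F) (hv : v ∈ Centred K) :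
    a • v ∈ Centred K := by
  refine ⟨by rw [herm_smul_left, herm_smul_right hF, hv.1, mul_zero, mul_zero], fun A c hc hA => ?_⟩
  refine hv.2 A (c * a ^ (q + 1)) ?_ (hA.trans (utv_smul hF a v c))
  have ha : (a ^ (q + 1)) ^ q = a ^ (q + 1) := by
    rw [pow_succ, mul_pow, pow_q_q hF, mul_comm]
  rw [mul_pow, ha, ← add_mul, hc, zero_mul]

theorem centred_eq_top {K : Subgroup (Cfsg.SU n F q)} (hn : 1 ≤ n) (h32 : ¬ (n = 3 ∧ q = 2))
    (h : ∀ v, Cfsg.hermForm n F q v v = 0 → v ∈ Centred K) : K = ⊤ := by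
  rw [← top_le_iff, ← tvGroup_eq_top hF hn h32]
  refine (Subgroup.closure_le _).2 ?_
  rintro A ⟨v, c, hv, hA⟩
  by_cases hc : c + c ^ q = 0
  · exact (h v hv).2 A c hc hA
  · rcases eq_or_ne v 0 with rfl | hv0
    · have : A = 1 := su_ext fun y => by
        rw [hA, utv_mulVec, smul_zero, add_zero, suMat_one, Matrix.one_mulVec]
      rw [this]
      exact one_mem K
    · exact absurd ((utv_preserves_iff hF hv0 hv c).1 fun x y => by rw [← hA]; exact su_preserves A x y) hc

/-- Centres filling a coordinate hyperplane and one more fill everything. -/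
theorem centred_step {m : ℕ} (hm : 2 ≤ m) (h32 : ¬ (m = 3 ∧ q = 2)) {K : Subgroup (Cfsg.SU (m + 1) F q)}
    (h0 : ∀ v, Cfsg.hermForm m F q v v = 0 → (Fin.cons 0 v : Fin (m + 1) → F) ∈ Centred K)
    {p : Fin (m + 1) → F} (hp : p ∈ Centred K) (hp0 : p 0 ≠ 0) (y : Fin (m + 1) → F)
    (hy : Cfsg.hermForm (m + 1) F q y y = 0) : y ∈ Centred K := by
  have hsuc : ∀ l : Cfsg.SU m F q, suSucc l ∈ K := by
    intro l
    have hle : tvGroup m F q ≤ K.comap suSucc := by
      refine (Subgroup.closure_le _).2 ?_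
      rintro A ⟨v, c, hv, hA⟩
      by_cases hc : c + c ^ q = 0
      · refine (h0 v hv).2 _ c hc ?_
        have hq : q ≠ 0 := by have := two_le_q hF; omega
        refine Matrix.ext_iff_smul.mpr fun x => ?_
        rw [Matrix.smul_eq_mulVec, Matrix.smul_eq_mulVec, suSucc_mulVec, hA, utv_mulVec, utv_mulVec]
        conv_rhs => rw [← Fin.cons_self_tail x, herm_cons, zero_pow hq, mul_zero, zero_add]
        funext i
        induction i using Fin.cases <;> simp [Fin.tail]
      · rcases eq_or_ne v 0 with rfl | hv0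
        · have : A = 1 := su_ext fun y => by
            rw [hA, utv_mulVec, smul_zero, add_zero, suMat_one, Matrix.one_mulVec]
          rw [this]
          exact one_mem _
        · exact absurd ((utv_preserves_iff hF hv0 hv c).1 fun x y => by rw [← hA]; exact su_preserves A x y) hc
    exact hle (by rw [tvGroup_eq_top hF (by omega) h32]; exact Subgroup.mem_top l)
  by_cases hy0 : y 0 = 0
  · have h := h0 (Fin.tail y) (by
      rw [← Fin.cons_self_tail y, herm_cons, hy0, zero_mul, zero_add] at hy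
      exact hy)
    rwa [← hy0, Fin.cons_self_tail] at h
  · set p' := (y 0 / p 0) • p with hp'
    have hp'C : p' ∈ Centred K := centred_smul hF _ hp
    have hp'0 : p' 0 = y 0 := by rw [hp', Pi.smul_apply, smul_eq_mul, div_mul_cancel₀ _ hp0]
    have hlen : ∀ z : Fin (m + 1) → F, Cfsg.hermForm (m + 1) F q z z = 0 → z 0 = y 0 →
        Cfsg.hermForm m F q (Fin.tail z) (Fin.tail z) = -(y 0 * y 0 ^ q) := by
      intro z hz hz0
      rw [← Fin.cons_self_tail z, herm_cons, hz0] at hz
      linear_combination hz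
    obtain ⟨l, -, hl⟩ := conn_sphere hF hm h32 (neg_ne_zero.2 (mul_ne_zero hy0 (pow_ne_zero _ hy0)))
      (hlen p' hp'C.1 hp'0) (hlen y hy rfl)
    have h := centred_conj hF (hsuc l) hp'C
    rwa [suSucc_mulVec, hl, hp'0, Fin.cons_self_tail] at h

end CfsgLib.MinIdxPSU
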