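import Cfsg.Agent.MinIdxPSU.Count

/-!
The basic bound, and the alternative between many orbits and a regular orbit fixed by the complement.
-/

set_option autoImplicit false
set_option linter.style.haveILetI false
set_option linter.unusedSectionVars false

namespace CfsgLib.MinIdxPSU

open Matrix CfsgLib.Unitary CfsgLib.Forms AddAction
open scoped Classical

variable {F : Type*} [Field F] [Finite F] {q k : ℕ} (hF : Nat.card F = q ^ 2)
include hF

/-- A vector of prescribed length orthogonal to a hyperbolic pair. -/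
theorem exists_perp_length {n : ℕ} (hn : 3 ≤ n) {v w : Fin n → F} (hv : Cfsg.hermForm n F q v v = 0)
    (hw : Cfsg.hermForm n F q w w = 0) (hvw : Cfsg.hermForm n F q v w = 1) {μ : F} (hμ : μ ^ q = μ) :
    ∃ z, Cfsg.hermForm n F q z v = 0 ∧ Cfsg.hermForm n F q z w = 0 ∧ Cfsg.hermForm n F q z z = μ := by
  have hwv : Cfsg.hermForm n F q w v = 1 := by rw [herm_swap hF v w, hvw, one_pow]
  obtain ⟨z, hz, hzz⟩ := exists_aniso hF (m := 2) (n := n) (by omega) ![v, w] (perpK q ![v, w])
    (fun x hx => hx) (by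
      refine Submodule.eq_top_iff'.2 fun x => Submodule.mem_sup.2
        ⟨x - Cfsg.hermForm n F q x w • v - Cfsg.hermForm n F q x v • w, fun i => ?_,
          Cfsg.hermForm n F q x w • v + Cfsg.hermForm n F q x v • w, ?_, by abel⟩
      · fin_cases i <;>
          simp [herm_sub_left hF, herm_smul_left, hv, hw, hvw, hwv]
      · exact add_mem (Submodule.smul_mem _ _ (Submodule.subset_span ⟨0, rfl⟩))
          (Submodule.smul_mem _ _ (Submodule.subset_span ⟨1, rfl⟩)))
  obtain ⟨a, ha⟩ := exists_length hF hzz hμ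
  have h1 : Cfsg.hermForm n F q z v = 0 := hz 0
  have h2 : Cfsg.hermForm n F q z w = 0 := hz 1
  exact ⟨a • z, by rw [herm_smul_left, h1, mul_zero], by rw [herm_smul_left, h2, mul_zero], ha⟩

/-- An isotropic vector not orthogonal to a given one. -/
theorem exists_iso_nonperp {n : ℕ} (hn : 2 ≤ n) {v : Fin n → F} (hv : v ≠ 0) :
    ∃ w, Cfsg.hermForm n F q w w = 0 ∧ Cfsg.hermForm n F q v w ≠ 0 := by
  by_cases h : Cfsg.hermForm n F q v v = 0
  · obtain ⟨w, -, h1, -, h2⟩ := exists_partner hF (H := ⊥) (x := v) (by simpa using hv) h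
      (fun x hx => by rw [(Submodule.mem_bot F).mp hx]; simp [Cfsg.hermForm])
    exact ⟨w, h2, by rw [h1]; exact one_ne_zero⟩
  · obtain ⟨z, hz, hzz⟩ := exists_aniso hF (m := 1) (n := n) (by omega) ![v] (perpK q ![v]) (fun x hx => hx) (by
      refine Submodule.eq_top_iff'.2 fun x => Submodule.mem_sup.2
        ⟨x - (Cfsg.hermForm n F q x v / Cfsg.hermForm n F q v v) • v, fun i => ?_,
          (Cfsg.hermForm n F q x v / Cfsg.hermForm n F q v v) • v, ?_, by abel⟩
      · fin_cases i
        simp [herm_sub_left hF, herm_smul_left, h]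
      · exact Submodule.smul_mem _ _ (Submodule.subset_span ⟨0, rfl⟩))
    obtain ⟨a, ha⟩ := exists_length hF hzz (μ := -Cfsg.hermForm n F q v v)
      (by rw [← frobQ_apply hF, map_neg, frobQ_apply, herm_self_fixed hF])
    have h1 : Cfsg.hermForm n F q z v = 0 := hz 0
    have h2 : Cfsg.hermForm n F q v z = 0 := by
      rw [herm_swap hF z v, h1, zero_pow (by have := two_le_q hF; omega)]
    refine ⟨v + a • z, ?_, ?_⟩
    · rw [herm_add_left, herm_add_right hF, herm_add_right hF, ha, herm_smul_left, herm_smul_right hF, h1, h2]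
      ring
    · rw [herm_add_right hF, herm_smul_right hF, h2, mul_zero, add_zero]
      exact h

variable (X : Type*) [MulAction (G k F q) X] [Finite X]

theorem nwt_levi (l : Cfsg.SU k F q) (v : Fin k → F) :
    nwtB (Y := NSet hF k X) (pairV hF k) (psi₂ hF) (suMat l *ᵥ v) =
      nwtB (Y := NSet hF k X) (pairV hF k) (psi₂ hF) v := by
  let f : (Fin k → F) ≃+ (Fin k → F) :=
    { toFun := fun a => suMat l *ᵥ a
      invFun := fun a => suMat l⁻¹ *ᵥ a
      left_inv := fun a => su_inv_mulVec l a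
      right_inv := fun a => by
        have h := su_inv_mulVec l⁻¹ a
        rwa [inv_inv] at h
      map_add' := fun a b => Matrix.mulVec_add _ _ _ }
  have hinj : Function.Injective (nmap hF X (cz_levi (k := k) hF l)) := by
    intro O O' h
    obtain ⟨x, hx, rfl⟩ := nset_exists hF X O
    obtain ⟨y, hy, rfl⟩ := nset_exists hF X O'
    obtain ⟨z, hz⟩ := orbitRel_apply.1 (Quotient.eq''.1 (congrArg Subtype.val h))
    refine Subtype.ext (Quotient.sound' (orbitRel_apply.2 ⟨z, act_injective hF X (levi l) ?_⟩))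
    change act hF X (levi l) (z +ᵥ _) = _
    rw [vadd_eq, act_mul, cz_levi hF l z, ← act_mul]
    exact hz
  exact nwtB_map (Equiv.ofBijective _ (Finite.injective_iff_bijective.1 hinj)) f f
    (fun a O => nmap_levi_vadd hF X l a O) (fun a v => by
      change psi₂ hF (pairV hF k (suMat l *ᵥ a) (suMat l *ᵥ v)) = _
      rw [pairV_apply hF, pairV_apply hF, su_preserves]) v

/-- Every orbit has a weight which is not zero. -/
theorem exists_weight (hk : 1 ≤ k) (O : NSet hF k X) :
    ∃ v : Fin k → F, v ≠ 0 ∧ 0 < nwtB (Y := NSet hF k X) (pairV hF k) (psi₂ hF) v := by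
  set o : AOrb (M := Fin k → F) (NSet hF k X) := Quotient.mk'' O
  have h1 : 1 < Nat.card (wtB (pairV hF k) (psi₂ hF) o) :=
    lt_of_lt_of_le (Nat.one_lt_pow (by omega) (two_le_q hF)) (le_card_wt hF X o)
  haveI : Nontrivial (wtB (pairV hF k) (psi₂ hF) o) := Finite.one_lt_card_iff_nontrivial.1 h1
  obtain ⟨⟨v, hv⟩, hv0⟩ := exists_ne (0 : wtB (pairV hF k) (psi₂ hF) o)
  haveI : Nonempty {o : AOrb (M := Fin k → F) (NSet hF k X) // v ∈ wtB (pairV hF k) (psi₂ hF) o} := ⟨⟨o, hv⟩⟩
  exact ⟨v, fun e => hv0 (Subtype.ext e), Nat.card_pos⟩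

/-- A whole level of weights occurs. -/
theorem level_le_nset (hk : 3 ≤ k) (h32 : ¬ (k = 3 ∧ q = 2)) {v : Fin k → F} (hv : v ≠ 0)
    (hpos : 0 < nwtB (Y := NSet hF k X) (pairV hF k) (psi₂ hF) v) [Nonempty (NSet hF k X)] :
    Nat.card {w : Fin k → F // w ≠ 0 ∧ Cfsg.hermForm k F q w w = Cfsg.hermForm k F q v v} + 1 ≤
      Nat.card (NSet hF k X) := by
  set μ := Cfsg.hermForm k F q v v with hμ
  haveI : Nonempty (AOrb (M := Fin k → F) (NSet hF k X)) := ⟨Quotient.mk'' (Classical.arbitrary _)⟩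
  refine le_trans ?_ (card_ge_of_weights (Y := NSet hF k X) (pairV_perfect hF)
    {w | w ≠ 0 ∧ Cfsg.hermForm k F q w w = μ} (fun h => h.1 rfl) 1 fun w hw => ?_)
  · rw [one_mul]
    exact Nat.add_le_add_left Nat.card_pos _
  · obtain ⟨hw0, hwμ⟩ := hw
    by_cases h0 : μ = 0
    · obtain ⟨l, hl⟩ := exists_SU_vec hF hk hv hw0 (hμ.symm.trans h0) (hwμ.trans h0)
      rw [← hl, nwt_levi hF]
      exact hpos
    · obtain ⟨l, -, hl⟩ := conn_sphere hF (by omega) h32 h0 hμ.symm hwμ
      rw [← hl, nwt_levi hF]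
      exact hpos

/-- All non-zero real lengths have equally many vectors. -/
theorem numLen_eq_one {μ : F} (hμ : μ ≠ 0) (hμq : μ ^ q = μ) : numLen F q k μ = numLen F q k 1 := by
  obtain ⟨a, ha⟩ := exists_norm_eq hF hμq
  have ha0 : a ≠ 0 := fun e => by rw [e, zero_pow (by omega)] at ha; exact hμ ha.symm
  refine (Nat.card_congr (Equiv.subtypeEquiv (MulAction.toPerm (Units.mk0 a ha0)) fun v => ?_)).symm
  change _ ↔ Cfsg.hermForm k F q (a • v) (a • v) = μ
  rw [herm_smul_left, herm_smul_right hF, ← mul_assoc, ← pow_succ', ha]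
  exact ⟨fun h => by rw [h, mul_one], fun h => mul_left_cancel₀ hμ (h.trans (mul_one μ).symm)⟩

/-- Levels are large. -/
theorem level_lb {μ : F} (hμq : μ ^ q = μ) :
    (q : ℤ) ^ (2 * k) - (q : ℤ) ^ (k + 1) ≤
      (q : ℤ) * (Nat.card {w : Fin k → F // w ≠ 0 ∧ Cfsg.hermForm k F q w w = μ} + 1 : ℕ) := by
  have hq : (2 : ℤ) ≤ q := by exact_mod_cast two_le_q hF
  have hP : (0 : ℤ) ≤ (q : ℤ) ^ k := by positivity
  have hsgn : (-1 : ℤ) ^ k = 1 ∨ (-1 : ℤ) ^ k = -1 := neg_one_pow_eq_or ℤ k
  rw [two_mul k, pow_add, pow_succ]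
  by_cases h0 : μ = 0
  · subst h0
    have e : Nat.card {w : Fin k → F // w ≠ 0 ∧ Cfsg.hermForm k F q w w = 0} + 1 = numLen F q k 0 := by
      haveI := Fintype.ofFinite F
      rw [numLen, Nat.card_eq_fintype_card, Nat.card_eq_fintype_card, Fintype.card_subtype, Fintype.card_subtype,
        ← Finset.filter_filter, Finset.filter_comm, Finset.filter_ne' _ (0 : Fin k → F),
        Finset.card_erase_add_one]
      simp only [Finset.mem_filter, Finset.mem_univ, true_and]
      simp [Cfsg.hermForm, Set.mem_setOf_eq]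
    rw [e, numLen_zero hF k]
    rcases hsgn with h | h <;> rw [h] <;> nlinarith
  · have e : Nat.card {w : Fin k → F // w ≠ 0 ∧ Cfsg.hermForm k F q w w = μ} = numLen F q k μ :=
      Nat.card_congr (Equiv.subtypeEquivRight fun w => ⟨And.right, fun h =>
        ⟨fun e => h0 (by rw [← h, e]; simp [Cfsg.hermForm]), h⟩⟩)
    rw [e, numLen_eq_one hF h0 hμq]
    push_cast
    rw [mul_add, numLen_one hF k]
    rcases hsgn with h | h <;> rw [h] <;> nlinarith

/-- The basic bound. -/
theorem crude (hk : 3 ≤ k) (h32 : ¬ (k = 3 ∧ q = 2)) (x : X) (hx : ∃ z : Skew hF, zE (k := k) hF z • x ≠ x) :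
    (q : ℤ) ^ (2 * k) - (q : ℤ) ^ (k + 1) ≤ (Nat.card X : ℤ) := by
  haveI := exists_nset (k := k) hF X x hx (by omega)
  obtain ⟨v, hv, hpos⟩ := exists_weight (k := k) hF X (by omega) (Classical.arbitrary (NSet hF k X))
  have h1 := Nat.mul_le_mul_left q (level_le_nset hF X hk h32 hv hpos)
  have h2 := q_mul_nset_le (k := k) hF X (by omega)
  refine le_trans (level_lb hF (herm_self_fixed hF v)) ?_
  exact_mod_cast le_trans h1 h2

/-- An invariant isotropic group of vectors is trivial. -/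
theorem invariant_isotropic (hk : 3 ≤ k) (A : AddSubgroup (Fin k → F))
    (hinv : ∀ l : Cfsg.SU k F q, ∀ a ∈ A, suMat l *ᵥ a ∈ A)
    (hiso : ∀ a ∈ A, ∀ b ∈ A, psi₂ hF (pairV hF k a b) = 1) : A = ⊥ := by
  refine (AddSubgroup.eq_bot_iff_forall _).2 fun v₀ hv₀ => by_contra fun hne => ?_
  have hq := two_le_q hF
  obtain ⟨d, hd, hdS⟩ := exists_delta hF
  have move : ∀ v ∈ A, ∀ w, Cfsg.hermForm k F q w w = 0 → ∀ c : F, c + c ^ q = 0 →
      (c * Cfsg.hermForm k F q v w) • w ∈ A := fun v hv w hw c hc => by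
    have h : suMat (suTv k w c hw hc hF) *ᵥ v = v + (c * Cfsg.hermForm k F q v w) • w := utv_mulVec w c v
    have h2 := A.sub_mem (hinv (suTv k w c hw hc hF) v hv) hv
    rwa [h, add_sub_cancel_left] at h2
  -- an isotropic vector of the group
  obtain ⟨v, hvA, hv0, hvv⟩ : ∃ v ∈ A, v ≠ 0 ∧ Cfsg.hermForm k F q v v = 0 := by
    obtain ⟨w, hw, hvw⟩ := exists_iso_nonperp hF (n := k) (by omega) hne
    refine ⟨_, move v₀ hv₀ w hw d hdS, smul_ne_zero (mul_ne_zero hd hvw) fun e => ?_, ?_⟩
    · rw [e] at hvw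
      exact hvw (by simp [Cfsg.hermForm, zero_pow (show q ≠ 0 by omega)])
    · rw [herm_smul_left, herm_smul_right hF, hw, mul_zero, mul_zero]
  obtain ⟨w, -, hvw, hwv, hww⟩ := exists_partner hF (H := ⊥) (x := v) (by simpa using hv0) hvv
    (fun y hy => by rw [(Submodule.mem_bot F).mp hy]; simp [Cfsg.hermForm])
  obtain ⟨x, hx⟩ : ∃ x : F, x ^ q ≠ x := by
    by_contra h; push Not at h; exact frobQ_ne_id hF (RingHom.ext h)
  obtain ⟨z, hzv, hzw, hzz⟩ := exists_perp_length hF hk hvv hww hvw (μ := -(x + x ^ q)) (by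
    rw [← frobQ_apply hF, map_neg, map_add, frobQ_apply, frobQ_apply, pow_q_q hF, add_comm])
  have hvz : Cfsg.hermForm k F q v z = 0 := by rw [herm_swap hF z v, hzv, zero_pow (by omega)]
  have hwz : Cfsg.hermForm k F q w z = 0 := by rw [herm_swap hF z w, hzw, zero_pow (by omega)]
  set u := x • v + w + z with hu
  have huu : Cfsg.hermForm k F q u u = 0 := by
    simp only [hu, herm_add_left, herm_add_right hF, herm_smul_left, herm_smul_right hF, hvv, hww, hvw, hwv, hzv,
      hzw, hvz, hwz, hzz]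
    ring
  have hvu : Cfsg.hermForm k F q v u = 1 := by
    simp only [hu, herm_add_right hF, herm_smul_right hF, hvv, hvw, hvz]
    ring
  have hwu : Cfsg.hermForm k F q w u = x ^ q := by
    simp only [hu, herm_add_right hF, herm_smul_right hF, hwv, hww, hwz]
    ring
  have hdq : d ^ q = -d := by linear_combination (mem_skew_iff hF).1 hdS
  have hzero : (1 : F) = 0 := by
    refine psi₁_perfect hF (one_pow q) fun s hs => ?_
    rw [one_mul]
    -- the scalar whose value is `s`
    have hxx : x ^ q - x ≠ 0 := sub_ne_zero.2 hx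
    have hdd : d * d ≠ 0 := mul_ne_zero hd hd
    set t := s / ((x ^ q - x) * (d * d)) with ht
    have hsq : s ^ q = -s := by linear_combination (mem_skew_iff hF).1 hs
    have htq : t ^ q = t := by
      rw [ht, div_pow, mul_pow, mul_pow, hsq, hdq, ← frobQ_apply hF (x ^ q - x), map_sub, frobQ_apply, frobQ_apply,
        pow_q_q hF, ← neg_sub (x ^ q) x, neg_mul_neg, neg_mul, neg_div_neg_eq]
    have hct : (-(t * d)) + (-(t * d)) ^ q = 0 := by
      rw [← frobQ_apply hF (-(t * d)), map_neg, map_mul, frobQ_apply, frobQ_apply, htq, hdq]; ring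
    have h1 := hiso _ (move v hvA w hww _ hct) _ (move v hvA u huu d hdS)
    rw [pairV_apply hF, herm_smul_left, herm_smul_right hF, hvw, hvu, hwu, psi₂_apply hF] at h1
    have e : -(t * d) * 1 * ((d * 1) ^ q * x ^ q) - (-(t * d) * 1 * ((d * 1) ^ q * x ^ q)) ^ q = s := by
      rw [mul_one, mul_one, hdq, show -(t * d) * (-d * x ^ q) = t * (d * d) * x ^ q by ring, mul_pow, mul_pow,
        mul_pow, htq, hdq, pow_q_q hF, neg_mul_neg, ← mul_sub, ht, div_mul_eq_mul_div, div_mul_eq_mul_div,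
        div_eq_iff (mul_ne_zero hxx hdd)]
      ring
    rwa [e] at h1
  exact one_ne_zero hzero

/-- Orbits of the radical, as a set with the Levi complement acting. -/
def LOrb (hF : Nat.card F = q ^ 2) (k : ℕ) (X : Type*) [MulAction (G k F q) X] [Finite X] : Type _ :=
  AOrb (M := Fin k → F) (NSet hF k X)

noncomputable instance : MulAction (Cfsg.SU k F q) (LOrb hF k X) where
  smul l := Quotient.map' (nmap hF X (cz_levi hF l)) fun O O' h => by
    rw [orbitRel_apply] at h ⊢
    obtain ⟨a, rfl⟩ := h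
    exact ⟨suMat l *ᵥ a, (nmap_levi_vadd hF X l a O').symm⟩
  one_smul o := by
    induction o using Quotient.inductionOn' with
    | h O =>
      obtain ⟨x, hx, rfl⟩ := nset_exists hF X O
      refine congrArg Quotient.mk'' (Subtype.ext ?_)
      change Quotient.mk'' (toXZ hF k (levi (1 : Cfsg.SU k F q) • x)) = _
      rw [map_one, one_smul]
  mul_smul l l' o := by
    induction o using Quotient.inductionOn' with
    | h O =>
      obtain ⟨x, hx, rfl⟩ := nset_exists hF X O
      refine congrArg Quotient.mk'' (Subtype.ext ?_)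
      change Quotient.mk'' (toXZ hF k (levi (l * l') • x)) = Quotient.mk'' (toXZ hF k (levi l • levi l' • x))
      rw [map_mul, mul_smul]

/-- Many orbits, or a regular one fixed by the complement. -/
theorem dichotomy (hk : 3 ≤ k) {P : ℕ} (hP : ∀ H : Subgroup (Cfsg.SU k F q), H ≠ ⊤ → P ≤ H.index)
    (x₀ : X) (hx₀ : ∃ z : Skew hF, zE (k := k) hF z • x₀ ≠ x₀) :
    q * (q ^ k * P) ≤ Nat.card X ∨
      ∃ x : X, (∃ z : Skew hF, zE (k := k) hF z • x ≠ x) ∧
        (∀ l : Cfsg.SU k F q, ∃ a, ∃ z : Skew hF, (vE (k := k) hF a * levi l) • x = zE (k := k) hF z • x) ∧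
        ∀ a : Fin k → F, (∃ z : Skew hF, vE hF a • x = zE (k := k) hF z • x) → a = 0 := by
  haveI := exists_nset (k := k) hF X x₀ hx₀ (by omega)
  haveI : Finite (LOrb hF k X) := by unfold LOrb; infer_instance
  obtain ⟨O₀⟩ := ‹Nonempty (NSet hF k X)›
  by_cases hall : ∀ l : Cfsg.SU k F q, l • (show LOrb hF k X from Quotient.mk'' O₀) =
      (show LOrb hF k X from Quotient.mk'' O₀)
  · right
    obtain ⟨x, hx, rfl⟩ := nset_exists hF X O₀
    set O : NSet hF k X := ⟨Quotient.mk'' (toXZ hF k x), hx⟩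
    have hA : stabilizer (Fin k → F) O = ⊥ := by
      refine invariant_isotropic hF hk _ (fun l a ha => ?_) fun a ha b hb => stab_isotropic hF X O ha hb
      obtain ⟨b, hb⟩ := orbitRel_apply.1 (Quotient.eq''.1 (hall l))
      rw [← stab_vadd b O, show b +ᵥ O = nmap hF X (cz_levi hF l) O from hb, mem_stabilizer_iff,
        ← nmap_levi_vadd hF, mem_stabilizer_iff.1 ha]
    refine ⟨x, ?_, fun l => ?_, fun a ha => ?_⟩
    · by_contra hcon
      push Not at hcon
      refine one_ne_zero (psi₁_perfect hF (one_pow q) fun s hs => ?_)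
      exact (sees_mk hF X 1 _).1 hx ⟨s, hs⟩ (mem_stabilizer_iff.2 (hcon ⟨s, hs⟩))
    · obtain ⟨b, hb⟩ := orbitRel_apply.1 (Quotient.eq''.1 (hall l))
      have hb' : (-b) +ᵥ nmap hF X (cz_levi hF l) O = O := by
        rw [← show b +ᵥ O = nmap hF X (cz_levi hF l) O from hb, neg_vadd_vadd]
      obtain ⟨z, hz⟩ := orbitRel_apply.1 (Quotient.eq''.1 (congrArg Subtype.val hb'))
      exact ⟨-b, z, (mul_smul _ _ x).trans hz.symm⟩
    · obtain ⟨z, hz⟩ := ha
      have : a ∈ stabilizer (Fin k → F) O := mem_stabilizer_iff.2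
        (Subtype.ext (Quotient.sound' (orbitRel_apply.2 ⟨z, hz.symm⟩)))
      rwa [hA, AddSubgroup.mem_bot] at this
  · left
    set o : LOrb hF k X := Quotient.mk'' O₀
    have hS : MulAction.stabilizer (Cfsg.SU k F q) o ≠ ⊤ := fun e => hall fun l => by
      exact MulAction.mem_stabilizer_iff.1 (e ▸ Subgroup.mem_top l)
    have h1 : P ≤ Nat.card (LOrb hF k X) := by
      refine le_trans (hP _ hS) ?_
      rw [MulAction.index_stabilizer, ← Nat.card_coe_set_eq]
      exact Nat.card_le_card_of_injective _ Subtype.val_injective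
    haveI := Fintype.ofFinite (AOrb (M := Fin k → F) (NSet hF k X))
    have h2 : Nat.card (LOrb hF k X) * q ^ k ≤ Nat.card (NSet hF k X) := by
      rw [show Nat.card (LOrb hF k X) = Nat.card (AOrb (M := Fin k → F) (NSet hF k X)) from rfl,
        card_eq_sum_wt (Y := NSet hF k X) (pairV_perfect (k := k) hF), Nat.card_eq_fintype_card, ← Finset.card_univ,
        ← smul_eq_mul, ← Finset.sum_const]
      exact Finset.sum_le_sum fun o _ => le_card_wt hF X o
    refine le_trans (Nat.mul_le_mul_left q ?_) (q_mul_nset_le (k := k) hF X (by omega))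
    rw [mul_comm (q ^ k)]
    exact le_trans (Nat.mul_le_mul_right _ h1) h2

end CfsgLib.MinIdxPSU
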