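import Cfsg.Agent.MinIdxPSU.Bound

/-!
A lower bound for the index of a proper subgroup of the special unitary group of dimension four.
-/

set_option autoImplicit false
set_option linter.style.haveILetI false
set_option linter.unusedSectionVars false

namespace CfsgLib.MinIdxPSU

open Matrix CfsgLib.Unitary CfsgLib.Forms AddAction
open scoped Classical

variable {F : Type*} [Field F] [Finite F] {q k : ℕ} (hF : Nat.card F = q ^ 2)
include hF

/-- A group of vectors with one non-zero length has at most three quarters of that length. -/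
theorem quad_ones {n : ℕ} {a : F} (ha : a ≠ 0) (W : AddSubgroup (Fin n → F))
    (hW : ∀ v ∈ W, Cfsg.hermForm n F q v v = 0 ∨ Cfsg.hermForm n F q v v = a) :
    4 * Nat.card {v : W // Cfsg.hermForm n F q (v : Fin n → F) v = a} ≤ 3 * Nat.card W := by
  set Q : (Fin n → F) → F := fun v => Cfsg.hermForm n F q v v with hQ
  set T : (Fin n → F) → (Fin n → F) → F :=
    fun v w => Cfsg.hermForm n F q v w + Cfsg.hermForm n F q w v with hT
  have hadd : ∀ v w, Q (v + w) = Q v + Q w + T v w := fun v w => by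
    simp only [hQ, hT, herm_add_left, herm_add_right hF]; ring
  have hsub : ∀ v w, Q (v - w) = Q v + Q w - T v w := fun v w => by
    simp only [hQ, hT, herm_sub_left hF, herm_sub_right hF]; ring
  have hTadd : ∀ u v w, T u (v + w) = T u v + T u w := fun u v w => by
    simp only [hT, herm_add_left, herm_add_right hF]; ring
  change ∀ v ∈ W, Q v = 0 ∨ Q v = a at hW
  haveI := Fintype.ofFinite W
  set O := {v : W // Q (v : Fin n → F) = a}
  set Z := {v : W // ¬ Q (v : Fin n → F) = a}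
  have hsum : Nat.card O + Nat.card Z = Nat.card W := by
    rw [← Nat.card_sum, Nat.card_congr (Equiv.sumCompl fun v : W => Q (v : Fin n → F) = a)]
  change 4 * Nat.card O ≤ 3 * Nat.card W
  rcases isEmpty_or_nonempty O with hO | ⟨⟨v0, h0⟩⟩
  · rw [Nat.card_eq_zero.2 (Or.inl hO)]; simp
  suffices ∃ e : Fin 3 → W, ∀ v : W, Q (v : Fin n → F) = a → ∃ i, Q ((v + e i : W) : Fin n → F) = 0 by
    obtain ⟨e, he⟩ := this
    choose i hi using he
    have hinj : Function.Injective fun v : O =>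
        ((i v.1 v.2, ⟨v.1 + e (i v.1 v.2), by rw [hi v.1 v.2]; exact ha.symm⟩) : Fin 3 × Z) := by
      intro v w h
      obtain ⟨h1, h2⟩ := Prod.ext_iff.1 h
      dsimp only at h1 h2
      have h3 := congrArg Subtype.val h2
      dsimp only at h3
      rw [h1] at h3
      exact Subtype.ext (add_right_cancel h3)
    have h := Nat.card_le_card_of_injective _ hinj
    rw [Nat.card_prod, Nat.card_fin] at h
    omega
  by_cases h2 : (2 : F) = 0
  · by_cases hall : ∀ v : W, Q (v : Fin n → F) = a → Q ((v + v0 : W) : Fin n → F) = 0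
    · exact ⟨fun _ => v0, fun v hv => ⟨0, hall v hv⟩⟩
    push Not at hall
    obtain ⟨v1, h1, h10⟩ := hall
    have h1a := (hW _ (v1 + v0).2).resolve_left h10
    refine ⟨![v0, v1, v0 + v1], fun v hv => ?_⟩
    by_contra hcon
    push Not at hcon
    have ha0 := (hW _ (v + v0).2).resolve_left (hcon 0)
    have ha1 := (hW _ (v + v1).2).resolve_left (hcon 1)
    refine hcon 2 ?_
    simp only [Matrix.cons_val, AddSubgroup.coe_add, hadd, hTadd, hv, h0, h1] at ha0 ha1 h1a ⊢
    have hs : T (v0 : Fin n → F) v1 = T (v1 : Fin n → F) v0 := by simp only [hT]; ring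
    linear_combination ha0 + ha1 + h1a + hs
  · refine ⟨![v0, -v0, v0], fun v hv => ?_⟩
    by_contra hcon
    push Not at hcon
    have ha0 := (hW _ (v + v0).2).resolve_left (hcon 0)
    have ha1 := (hW _ (v + -v0).2).resolve_left (hcon 1)
    change Q (((v + -v0 : W)) : Fin n → F) = a at ha1
    rw [← sub_eq_add_neg, AddSubgroup.coe_sub, hsub, hv, h0] at ha1
    change Q (((v + v0 : W)) : Fin n → F) = a at ha0
    rw [AddSubgroup.coe_add, hadd, hv, h0] at ha0
    exact mul_ne_zero h2 ha (by linear_combination ha0 + ha1)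

theorem herm_conj {n : ℕ} (u v : Fin n → F) : Cfsg.hermForm n F q v u = Cfsg.hermForm n F q u v ^ q :=
  herm_swap hF u v

/-- Coordinates for a hyperbolic pair in dimension two. -/
theorem eq_pair {e f v : Fin 2 → F} (he : Cfsg.hermForm 2 F q e e = 0) (hf : Cfsg.hermForm 2 F q f f = 0)
    (hef : Cfsg.hermForm 2 F q e f ≠ 0) :
    v = (Cfsg.hermForm 2 F q v f / Cfsg.hermForm 2 F q e f) • e +
      (Cfsg.hermForm 2 F q v e / Cfsg.hermForm 2 F q f e) • f := by
  haveI := Fintype.ofFinite F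
  have hq := two_le_q hF
  have hfe : Cfsg.hermForm 2 F q f e ≠ 0 := by rw [herm_conj hF e f]; exact pow_ne_zero _ hef
  set d := v - ((Cfsg.hermForm 2 F q v f / Cfsg.hermForm 2 F q e f) • e +
    (Cfsg.hermForm 2 F q v e / Cfsg.hermForm 2 F q f e) • f) with hd
  have hde : Cfsg.hermForm 2 F q d e = 0 := by
    simp only [hd, herm_sub_left hF, herm_add_left, herm_smul_left, he, mul_zero, zero_add,
      div_mul_cancel₀ _ hfe, sub_self]
  have hdf : Cfsg.hermForm 2 F q d f = 0 := by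
    simp only [hd, herm_sub_left hF, herm_add_left, herm_smul_left, hf, mul_zero, add_zero,
      div_mul_cancel₀ _ hef, sub_self]
  have hli : LinearIndependent F ![e, f] := indep_pair (fun h => hef (by rw [h]; simp [Cfsg.hermForm]))
    fun a h => hef (by rw [← h, herm_smul_right hF, he, mul_zero])
  have htop := hli.span_eq_top_of_card_eq_finrank (by simp)
  refine sub_eq_zero.1 (uForm_nondeg hF 2 d fun u => ?_)
  change Cfsg.hermForm 2 F q u d = 0
  have hu : u ∈ Submodule.span F (Set.range ![e, f]) := by rw [htop]; trivial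
  induction hu using Submodule.span_induction with
  | mem x hx =>
    obtain ⟨i, rfl⟩ := hx
    fin_cases i
    · change Cfsg.hermForm 2 F q e d = 0
      rw [herm_conj hF d e, hde, zero_pow (by omega)]
    · change Cfsg.hermForm 2 F q f d = 0
      rw [herm_conj hF d f, hdf, zero_pow (by omega)]
  | zero => simp [Cfsg.hermForm]
  | add x y _ _ hx hy => rw [herm_add_left, hx, hy, add_zero]
  | smul c x _ hx => rw [herm_smul_left, hx, mul_zero]

/-- Vectors orthogonal to an isotropic vector in dimension two. -/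
theorem eq_smul_of_perp {e v : Fin 2 → F} (he0 : e ≠ 0) (he : Cfsg.hermForm 2 F q e e = 0)
    (hv : Cfsg.hermForm 2 F q v e = 0) : ∃ c : F, v = c • e := by
  obtain ⟨f, -, hef, -, hf⟩ := exists_partner hF (H := ⊥) (x := e) (by simpa using he0) he
    (fun w hw => by rw [(Submodule.mem_bot F).mp hw]; simp [Cfsg.hermForm])
  refine ⟨Cfsg.hermForm 2 F q v f / Cfsg.hermForm 2 F q e f, ?_⟩
  conv_lhs => rw [eq_pair hF (v := v) he hf (by rw [hef]; exact one_ne_zero), hv, zero_div, zero_smul, add_zero]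

theorem card_isoPt_two : Nat.card (IsoPt 2 F q) = q + 1 := by
  have h := card_isoPt hF 2
  have h0 := numLen_zero (F := F) hF 2
  have hq : (2 : ℤ) ≤ q := by exact_mod_cast two_le_q hF
  have hq1 : 1 ≤ q ^ 2 := Nat.one_le_pow _ _ (by have := two_le_q hF; omega)
  have h' : (Nat.card (IsoPt 2 F q) : ℤ) * ((q : ℤ) ^ 2 - 1) + 1 = (numLen F q 2 0 : ℤ) := by
    rw [← h]; push_cast [Nat.cast_sub hq1]; ring
  have h2 : ((q : ℤ) * ((q : ℤ) ^ 2 - 1)) * (Nat.card (IsoPt 2 F q) : ℤ) =
      ((q : ℤ) * ((q : ℤ) ^ 2 - 1)) * ((q : ℤ) + 1) := by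
    linear_combination (q : ℤ) * h' + h0
  exact_mod_cast mul_left_cancel₀ (mul_ne_zero (by omega) (by nlinarith)) h2

variable (X : Type*) [MulAction (G k F q) X] [Finite X]

theorem nmap_injective {g : G k F q} (hg : CZ hF g) : Function.Injective (nmap hF X hg) := by
  intro O O' h
  obtain ⟨x, hx, rfl⟩ := nset_exists hF X O
  obtain ⟨y, hy, rfl⟩ := nset_exists hF X O'
  obtain ⟨z, hz⟩ := orbitRel_apply.1 (Quotient.eq''.1 (congrArg Subtype.val h))
  refine Subtype.ext (Quotient.sound' (orbitRel_apply.2 ⟨z, act_injective hF X g ?_⟩))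
  change act hF X g (z +ᵥ _) = _
  rw [vadd_eq, act_mul, hg z, ← act_mul]
  exact hz

/-- An element normalising the radical permutes the weight groups. -/
theorem exists_transport {g : G k F q} (hg : CZ hF g) (f : (Fin k → F) ≃+ (Fin k → F))
    (hgv : ∀ a, ∃ z : Skew hF, g * vE hF a * g⁻¹ = zE hF z * vE hF (f a))
    (hf : ∀ a v, Cfsg.hermForm k F q (f a) (f v) = Cfsg.hermForm k F q a v)
    (o : AOrb (M := Fin k → F) (NSet hF k X)) :
    ∃ o' : AOrb (M := Fin k → F) (NSet hF k X),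
      ∀ v, f v ∈ wtB (pairV hF k) (psi₂ hF) o' ↔ v ∈ wtB (pairV hF k) (psi₂ hF) o := by
  have heq : ∀ (a : Fin k → F) (O : NSet hF k X), nmap hF X hg (a +ᵥ O) = f a +ᵥ nmap hF X hg O := by
    intro a O
    obtain ⟨x, hx, rfl⟩ := nset_exists hF X O
    refine Subtype.ext ?_
    change (Quotient.mk'' (toXZ hF k <| g • vE hF a • x) : ZO hF k X) =
      Quotient.mk'' (toXZ hF k <| vE hF (f a) • g • x)
    obtain ⟨z, hz⟩ := hgv a
    rw [mul_inv_eq_iff_eq_mul] at hz
    rw [← mul_smul, hz, mul_smul, mul_smul]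
    exact zE_mk hF X z _
  obtain ⟨σ, -, hσ⟩ := exists_orbit_perm (B := pairV hF k) (ψ := psi₂ hF)
    (Equiv.ofBijective _ (Finite.injective_iff_bijective.1 (nmap_injective hF X hg))) f f heq
    (fun a v => by rw [pairV_apply hF, pairV_apply hF, hf])
  exact ⟨σ o, hσ o⟩

theorem exists_transport_levi (l : Cfsg.SU k F q) (o : AOrb (M := Fin k → F) (NSet hF k X)) :
    ∃ o' : AOrb (M := Fin k → F) (NSet hF k X),
      ∀ v, v ∈ wtB (pairV hF k) (psi₂ hF) o → suMat l *ᵥ v ∈ wtB (pairV hF k) (psi₂ hF) o' := by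
  let f : (Fin k → F) ≃+ (Fin k → F) :=
    { toFun := fun a => suMat l *ᵥ a
      invFun := fun a => suMat l⁻¹ *ᵥ a
      left_inv := fun a => su_inv_mulVec l a
      right_inv := fun a => by
        have h := su_inv_mulVec l⁻¹ a
        rwa [inv_inv] at h
      map_add' := fun a b => Matrix.mulVec_add _ _ _ }
  obtain ⟨o', ho'⟩ := exists_transport hF X (cz_levi (k := k) hF l) f (levi_vE hF l)
    (fun a v => su_preserves l a v) o
  exact ⟨o', fun v hv => (ho' v).2 hv⟩

omit X in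
/-- A scalar on the last two coordinates and its inverse on the first two. -/
theorem exists_torus {lam : F} (hlam : lam * lam ^ q = 1) :
    ∃ g : G 2 F q, CZ hF g ∧ ∀ a, ∃ z : Skew hF, g * vE hF a * g⁻¹ = zE hF z * vE hF ((lam * lam) • a) := by
  have hl0 : lam ≠ 0 := fun e => by rw [e, zero_mul] at hlam; exact zero_ne_one hlam
  have hlq : lam ^ q = lam⁻¹ := eq_inv_of_mul_eq_one_right hlam
  have hliq : (lam⁻¹) ^ q = lam := by rw [inv_pow, hlq, inv_inv]
  set d : Fin (2 + 1 + 1) → F := Fin.cons lam⁻¹ (Fin.cons lam⁻¹ fun _ => lam) with hd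
  have hdd : ∀ i, d i * d i ^ q = 1 := fun i => by
    induction i using Fin.cases with
    | zero => simp [hd, hliq, inv_mul_cancel₀ hl0]
    | succ i => induction i using Fin.cases <;> simp [hd, hliq, hlam, inv_mul_cancel₀ hl0]
  have hdet : (Matrix.diagonal d).det = 1 := by
    rw [Matrix.det_diagonal, Fin.prod_univ_succ, Fin.prod_univ_succ, Fin.prod_univ_two]
    simp only [hd, Fin.cons_zero, Fin.cons_succ]
    field_simp
  have hpres : ∀ x y, Cfsg.hermForm (2 + 1 + 1) F q (Matrix.diagonal d *ᵥ x) (Matrix.diagonal d *ᵥ y) =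
      Cfsg.hermForm (2 + 1 + 1) F q x y := fun x y => by
    simp only [Cfsg.hermForm, Matrix.mulVec_diagonal, mul_pow]
    refine Finset.sum_congr rfl fun i _ => ?_
    linear_combination (x i * y i ^ q) * hdd i
  obtain ⟨g, hgy⟩ : ∃ g : G 2 F q, ∀ y, suMat g *ᵥ y = fun i => d i * y i :=
    ⟨⟨⟨_, hdet⟩, hpres⟩, fun y => funext fun i => Matrix.mulVec_diagonal d y i⟩
  have hplane : ∀ y, proj y = 0 → suMat g *ᵥ y = lam⁻¹ • y := fun y hy => by
    rw [hgy, eq_cons y, hy]
    funext i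
    induction i using Fin.cases with
    | zero => simp [hd]
    | succ i => induction i using Fin.cases <;> simp [hd]
  have hemb : ∀ a, suMat g *ᵥ emb a = emb (lam • a) := fun a => by
    rw [hgy]
    funext i
    induction i using Fin.cases with
    | zero => simp [emb]
    | succ i => induction i using Fin.cases <;> simp [emb, hd]
  have hev := hplane _ (proj_ev (k := 2) hF)
  refine ⟨g, fun z => ?_, fun a => ?_⟩
  · rw [← mul_inv_eq_iff_eq_mul]
    exact conj_zE hF hev z z (by rw [hliq, inv_mul_cancel₀ hl0, mul_one])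
  · have hs' : HeisCond q ((lam * lam) • a) (sec hF a) := by
      have h := sec_spec hF a
      unfold HeisCond at *
      rw [herm_smul_left, herm_smul_right hF, mul_pow]
      linear_combination h + (lam * lam ^ q + 1) * Cfsg.hermForm 2 F q a a * hlam
    have hconj : g * vE hF a * g⁻¹ = rad hF ((lam * lam) • a) (sec hF a) hs' := by
      rw [mul_inv_eq_iff_eq_mul]
      refine su_ext fun y => ?_
      simp only [vE, suMat_mul, ← Matrix.mulVec_mulVec, rad_apply hF, Matrix.mulVec_add, Matrix.mulVec_smul,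
        hev, hemb]
      have h1 : Cfsg.hermForm (2 + 1 + 1) F q (suMat g *ᵥ y) (ev hF) =
          lam⁻¹ * Cfsg.hermForm (2 + 1 + 1) F q y (ev hF) := by
        have h := su_preserves g y (ev hF)
        rw [hev, herm_smul_right hF, hliq] at h
        rw [← h, ← mul_assoc, inv_mul_cancel₀ hl0, one_mul]
      have h2 : Cfsg.hermForm (2 + 1 + 1) F q (suMat g *ᵥ y) (emb ((lam * lam) • a)) =
          lam⁻¹ * Cfsg.hermForm (2 + 1 + 1) F q y (emb a) := by
        rw [mul_smul, ← hemb, su_preserves, map_smul, herm_smul_right hF, hlq]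
      rw [h1, h2]
      simp only [mul_smul, map_smul]
      match_scalars <;> field_simp
    rw [hconj]
    exact rad_eq hF hs'

omit X

variable (Y : Type*) [MulAction (G 2 F q) Y] [Finite Y]

/-- The orbits of a totally singular configuration. -/
theorem singular_structure [Nonempty (NSet hF 2 Y)]
    (hsing : ∀ o : AOrb (M := Fin 2 → F) (NSet hF 2 Y), ∀ v ∈ wtB (pairV hF 2) (psi₂ hF) o,
      Cfsg.hermForm 2 F q v v = 0) :
    q + 1 ≤ Nat.card (AOrb (M := Fin 2 → F) (NSet hF 2 Y)) ∧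
      (Nat.card (AOrb (M := Fin 2 → F) (NSet hF 2 Y)) ≤ q + 1 →
        Function.Injective (fun o : AOrb (M := Fin 2 → F) (NSet hF 2 Y) => wtB (pairV hF 2) (psi₂ hF) o) ∧
          ∀ o : AOrb (M := Fin 2 → F) (NSet hF 2 Y), ∀ c : F, c ^ q = c →
            ∀ v ∈ wtB (pairV hF 2) (psi₂ hF) o, c • v ∈ wtB (pairV hF 2) (psi₂ hF) o) := by
  haveI := Fintype.ofFinite F
  have hq := two_le_q hF
  set W := fun o : AOrb (M := Fin 2 → F) (NSet hF 2 Y) => wtB (pairV hF 2) (psi₂ hF) o
  have hQ : ∀ o, ∀ v ∈ W o, Cfsg.hermForm 2 F q v v = 0 := hsing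
  have hex : ∀ o, ∃ e : Fin 2 → F, e ∈ W o ∧ e ≠ 0 := fun o => by
    have h1 : 1 < Nat.card (W o) := lt_of_lt_of_le (Nat.one_lt_pow (by omega) hq) (le_card_wt hF Y o)
    haveI : Nontrivial (W o) := Finite.one_lt_card_iff_nontrivial.1 h1
    obtain ⟨⟨e, he⟩, he0⟩ := exists_ne (0 : W o)
    exact ⟨e, he, fun h => he0 (Subtype.ext h)⟩
  choose e he he0 using hex
  by_cases hlin : ∀ o, ∀ v ∈ W o, ∀ w ∈ W o, Cfsg.hermForm 2 F q v w = 0
  · -- the weights are lines
    haveI := isPretransitive (n := 2) hF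
    set Φ : AOrb (M := Fin 2 → F) (NSet hF 2 Y) → IsoPt 2 F q :=
      fun o => pt hF (e o) (he0 o) (hQ o _ (he o))
    have hΦ : Function.Surjective Φ := fun P => by
      obtain ⟨o₀⟩ : Nonempty (AOrb (M := Fin 2 → F) (NSet hF 2 Y)) := ⟨Quotient.mk'' (Classical.arbitrary _)⟩
      obtain ⟨l, rfl⟩ := MulAction.exists_smul_eq (Cfsg.SU 2 F q) (pt hF (e o₀) (he0 o₀) (hQ o₀ _ (he o₀))) P
      obtain ⟨o', ho'⟩ := exists_transport_levi hF Y l o₀
      refine ⟨o', ?_⟩
      change pt hF _ _ _ = _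
      rw [smul_pt, pt_eq_iff]
      obtain ⟨c, hc⟩ := eq_smul_of_perp hF (he0 o') (hQ o' _ (he o')) (hlin o' _ (ho' _ (he o₀)) _ (he o'))
      refine ⟨c⁻¹, ?_⟩
      have hc0 : c ≠ 0 := fun h => su_mulVec_ne_zero l (he0 o₀) (by rw [hc, h, zero_smul])
      rw [hc, smul_smul, inv_mul_cancel₀ hc0, one_smul]
    have hcard := Nat.card_le_card_of_surjective Φ hΦ
    rw [card_isoPt_two hF] at hcard
    refine ⟨hcard, fun hle => ?_⟩
    have hbij : Function.Bijective Φ := (Nat.bijective_iff_surjective_and_card Φ).2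
      ⟨hΦ, by rw [card_isoPt_two hF]; exact le_antisymm hle hcard⟩
    refine ⟨fun o o' h => hbij.1 ?_, fun o c _ v hv => ?_⟩
    · change W o = W o' at h
      have hmem : e o ∈ W o' := h ▸ he o
      obtain ⟨a, ha⟩ := eq_smul_of_perp hF (he0 o') (hQ o' _ (he o')) (hlin o' _ hmem _ (he o'))
      change pt hF _ _ _ = pt hF _ _ _
      rw [pt_eq_iff]
      exact ⟨a, ha.symm⟩
    · have hco : ∀ w : W o, ∃ a : F, (w : Fin 2 → F) = a • e o := fun w =>
        eq_smul_of_perp hF (he0 o) (hQ o _ (he o)) (hlin o _ w.2 _ (he o))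
      choose co hco using hco
      have hco_inj : Function.Injective co := fun w w' h => Subtype.ext (by rw [hco w, hco w', h])
      haveI := Fintype.ofFinite (W o)
      have hco_surj : Function.Surjective co := by
        refine ((Nat.bijective_iff_injective_and_card co).2 ⟨hco_inj, ?_⟩).2
        refine le_antisymm (Nat.card_le_card_of_injective co hco_inj) ?_
        rw [hF]
        exact le_card_wt hF Y o
      obtain ⟨a, ha⟩ := eq_smul_of_perp hF (he0 o) (hQ o _ (he o)) (hlin o _ hv _ (he o))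
      obtain ⟨w, hw⟩ := hco_surj (c * a)
      change c • v ∈ W o
      rw [ha, smul_smul, ← hw, ← hco w]
      exact w.2
  -- the weights are subfield planes
  push Not at hlin
  obtain ⟨o, b1, hb1, b2, hb2, hd⟩ := hlin
  set d := Cfsg.hermForm 2 F q b1 b2 with hd'
  have hb11 := hQ o _ hb1
  have hb22 := hQ o _ hb2
  have hT : ∀ v ∈ W o, ∀ w ∈ W o, Cfsg.hermForm 2 F q v w + Cfsg.hermForm 2 F q w v = 0 := fun v hv w hw => by
    have h := hQ o _ (add_mem hv hw)
    rw [herm_add_left, herm_add_right hF, herm_add_right hF, hQ o _ hv, hQ o _ hw] at h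
    linear_combination h
  have hd21 : Cfsg.hermForm 2 F q b2 b1 = -d := by linear_combination hT _ hb1 _ hb2
  have hdq : d + d ^ q = 0 := by rw [← herm_conj hF b1 b2, hd21]; ring
  have hcoef : ∀ v ∈ W o, ∃ x y : F, x ^ q = x ∧ y ^ q = y ∧ v = x • b1 + y • b2 := by
    intro v hv
    refine ⟨_, _, ?_, ?_, eq_pair hF (v := v) hb11 hb22 hd⟩
    · have h := hT _ hv _ hb2
      rw [herm_conj hF v b2] at h
      rw [← hd', div_pow, div_eq_div_iff (pow_ne_zero _ hd) hd]
      linear_combination d * h - Cfsg.hermForm 2 F q v b2 * hdq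
    · have h := hT _ hv _ hb1
      rw [herm_conj hF v b1] at h
      rw [hd21, div_pow, div_eq_div_iff (pow_ne_zero _ (neg_ne_zero.2 hd)) (neg_ne_zero.2 hd),
        show (-d) ^ q = d by
          rw [← frobQ_apply hF (-d), map_neg, frobQ_apply]; linear_combination -hdq]
      linear_combination (-d) * h
  choose cx cy hx hy hv' using hcoef
  let ι : W o → Fix hF × Fix hF := fun v => (⟨cx v.1 v.2, hx _ _⟩, ⟨cy v.1 v.2, hy _ _⟩)
  have hι : Function.Injective ι := fun v w h => Subtype.ext (by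
    simp only [ι, Prod.mk.injEq] at h
    have e1 : cx v.1 v.2 = cx w.1 w.2 := congrArg Subtype.val h.1
    have e2 : cy v.1 v.2 = cy w.1 w.2 := congrArg Subtype.val h.2
    rw [hv' v.1 v.2, hv' w.1 w.2, e1, e2])
  have hq2 : q ^ 2 ≤ Nat.card (W o) := le_card_wt hF Y o
  have hle := Nat.card_le_card_of_injective ι hι
  rw [Nat.card_prod, (card_fix_skew hF).1, ← pow_two] at hle
  have hsurj : Function.Surjective ι := by
    haveI := Fintype.ofFinite (W o)
    haveI := Fintype.ofFinite (Fix hF × Fix hF)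
    refine ((Fintype.bijective_iff_injective_and_card ι).2 ⟨hι, ?_⟩).2
    rw [← Nat.card_eq_fintype_card, ← Nat.card_eq_fintype_card, Nat.card_prod, (card_fix_skew hF).1, ← pow_two]
    exact le_antisymm hle hq2
  have hfull : ∀ c : F, c ^ q = c → c • b1 ∈ W o := fun c hc => by
    obtain ⟨⟨v, hv⟩, hvc⟩ := hsurj (⟨c, hc⟩, 0)
    simp only [ι, Prod.mk.injEq, Subtype.ext_iff, ZeroMemClass.coe_zero] at hvc
    have h := hv' v hv
    rw [hvc.1, hvc.2, zero_smul, add_zero] at h
    rwa [← h]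
  -- the stabiliser is the weight group
  have hA : stabilizer (Fin 2 → F) o.out = W o := by
    refine AddSubgroup.eq_of_le_of_card_ge (fun a ha b hb => stab_isotropic hF Y o.out hb ha) ?_
    have h1 := (stabilizer (Fin 2 → F) o.out).card_mul_index
    rw [← card_annB (pairV_perfect (k := 2) hF), Nat.card_fun, Nat.card_fin, hF] at h1
    change _ * Nat.card (W o) = _ at h1
    have h2 : Nat.card (W o) = q ^ 2 := le_antisymm hle hq2
    rw [h2] at h1 ⊢
    exact le_of_eq (Nat.eq_of_mul_eq_mul_right (by positivity) (h1.trans (pow_two _))).symm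
  -- the characteristic is two
  have h2 : (2 : F) = 0 := by
    by_contra h2
    refine one_ne_zero (psi₁_perfect hF (c := (1 : F)) (one_pow q) fun z hz => ?_)
    set c := z / (2 * d)
    have hz' : z + z ^ q = 0 := hz
    have hzq : z ^ q = -z := by linear_combination hz'
    have hcq : c ^ q = c := by
      rw [div_pow, mul_pow, hzq, show d ^ q = -d by linear_combination hdq,
        show (2 : F) ^ q = 2 by rw [← frobQ_apply hF, map_ofNat]]
      simp only [c]
      field_simp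
    have h1 : c • b1 ∈ stabilizer (Fin 2 → F) o.out := hA ▸ hfull c hcq
    have h3 : b2 ∈ stabilizer (Fin 2 → F) o.out := hA ▸ hb2
    have h := stab_isotropic hF Y o.out h1 h3
    rw [pairV_apply hF, psi₂_apply hF, herm_smul_left, mul_pow, hcq, show d ^ q = -d by linear_combination hdq,
      show c * d - c * -d = z by simp only [c]; field_simp; ring] at h
    rw [one_mul]
    exact h
  have hqe : Even q := by
    by_contra hodd
    rw [Nat.not_even_iff_odd] at hodd
    obtain ⟨r, hr⟩ := hodd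
    have h := FiniteField.cast_card_eq_zero F
    rw [← Nat.card_eq_fintype_card, hF, hr] at h
    push_cast at h
    rw [h2] at h
    simp at h
  obtain ⟨r, hr⟩ := hqe
  have htr : ∀ μ : {x : F // x ^ (q + 1) = 1}, ∃ o' : AOrb (M := Fin 2 → F) (NSet hF 2 Y),
      ∀ v, μ.1 • v ∈ W o' ↔ v ∈ W o := by
    rintro ⟨μ, hμ⟩
    set lam := μ ^ (r + 1)
    have hl : lam * lam ^ q = 1 := by
      rw [← pow_succ' lam q, ← pow_mul, mul_comm, pow_mul, hμ, one_pow]
    have hll : lam * lam = μ := by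
      rw [← pow_add, show r + 1 + (r + 1) = q + 1 + 1 by omega, pow_succ, hμ, one_mul]
    have hμ0 : μ ≠ 0 := fun e => by rw [e, zero_pow (by omega)] at hμ; exact zero_ne_one hμ
    obtain ⟨g, hg, hgv⟩ := exists_torus hF hl
    rw [hll] at hgv
    exact exists_transport hF Y hg (DistribMulAction.toAddEquiv (Fin 2 → F) (Units.mk0 μ hμ0)) hgv
      (fun a v => by
        change Cfsg.hermForm 2 F q (μ • a) (μ • v) = _
        rw [herm_smul_left, herm_smul_right hF, ← mul_assoc, ← pow_succ', hμ, one_mul]) o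
  choose o' ho' using htr
  have hkey : ∀ μ μ' : {x : F // x ^ (q + 1) = 1}, W (o' μ) = W (o' μ') → μ = μ' := fun μ μ' h => Subtype.ext (by
    have hμ0 : μ.1 ≠ 0 := fun e => by
      have := μ.2; rw [e, zero_pow (by omega)] at this; exact zero_ne_one this
    set ν := μ'.1 / μ.1
    have hνb : ν • b1 ∈ W o := (ho' μ _).1 (by
      rw [smul_smul, mul_div_cancel₀ _ hμ0, show W (o' μ) = W (o' μ') from h]
      exact (ho' μ' b1).2 hb1)
    have hνq : ν ^ q = ν := by
      have h' := hT _ hνb _ hb2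
      rw [herm_smul_left, herm_smul_right hF, ← hd', hd21] at h'
      exact (sub_eq_zero.1 ((mul_eq_zero.1 (show (ν - ν ^ q) * d = 0 by linear_combination h')).resolve_right hd)).symm
    have hν1 : ν ^ (q + 1) = 1 := by rw [div_pow, μ.2, μ'.2, div_one]
    rw [pow_succ, hνq] at hν1
    have hν : (ν - 1) * (ν - 1) = 0 := by linear_combination hν1 + (1 - ν) * h2
    have := sub_eq_zero.1 (mul_self_eq_zero.1 hν)
    rw [div_eq_one_iff_eq hμ0] at this
    exact this.symm)
  have ho'inj : Function.Injective o' := fun μ μ' h => hkey μ μ' (by rw [h])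
  have hcard := Nat.card_le_card_of_injective o' ho'inj
  rw [card_norm_fiber hF (μ := (1 : F)) one_ne_zero (one_pow q)] at hcard
  refine ⟨hcard, fun hle => ?_⟩
  have hbij : Function.Bijective o' := (Nat.bijective_iff_injective_and_card o').2
    ⟨ho'inj, by rw [card_norm_fiber hF (μ := (1 : F)) one_ne_zero (one_pow q)]; exact le_antisymm hcard hle⟩
  refine ⟨fun o₁ o₂ h => ?_, fun o₁ c hc v hv => ?_⟩
  · obtain ⟨μ, rfl⟩ := hbij.2 o₁
    obtain ⟨μ', rfl⟩ := hbij.2 o₂
    exact congrArg o' (hkey μ μ' h)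
  obtain ⟨μ, rfl⟩ := hbij.2 o₁
  have hμ0 : μ.1 ≠ 0 := fun h0 => by
    have := μ.2; rw [h0, zero_pow (by omega)] at this; exact zero_ne_one this
  have hv1 : v = μ.1 • (μ.1⁻¹ • v) := by rw [smul_smul, mul_inv_cancel₀ hμ0, one_smul]
  have hu : μ.1⁻¹ • v ∈ W o := (ho' μ _).1 (hv1 ▸ hv)
  obtain ⟨⟨w, hw⟩, hwc⟩ := hsurj (⟨c * cx _ hu, by
    change (_ * _) ^ q = _
    rw [mul_pow, hc, hx]⟩, ⟨c * cy _ hu, by
    change (_ * _) ^ q = _
    rw [mul_pow, hc, hy]⟩)
  simp only [ι, Prod.mk.injEq, Subtype.ext_iff] at hwc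
  have hcu : c • (μ.1⁻¹ • v) = w := by
    conv_lhs => rw [hv' _ hu, smul_add, smul_smul, smul_smul]
    conv_rhs => rw [hv' w hw, hwc.1, hwc.2]
  change c • v ∈ W (o' μ)
  rw [show c • v = μ.1 • (c • (μ.1⁻¹ • v)) by rw [smul_comm μ.1 c, smul_smul μ.1, mul_inv_cancel₀ hμ0, one_smul], hcu]
  exact (ho' μ w).2 hw

/-- The number of orbits of a totally singular configuration. -/
theorem orbits_of_singular [Nonempty (NSet hF 2 Y)]
    (hsing : ∀ o : AOrb (M := Fin 2 → F) (NSet hF 2 Y), ∀ v ∈ wtB (pairV hF 2) (psi₂ hF) o,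
      Cfsg.hermForm 2 F q v v = 0) :
    q + 1 ≤ Nat.card (AOrb (M := Fin 2 → F) (NSet hF 2 Y)) :=
  (singular_structure hF Y hsing).1

theorem sphere_card {μ : F} (hμ : μ ≠ 0) (hμq : μ ^ q = μ) :
    (numLen F q 2 μ : ℤ) = (q : ℤ) ^ 3 - q := by
  rw [numLen_eq_one (k := 2) hF hμ hμq]
  have h := numLen_one (F := F) hF 2
  refine mul_left_cancel₀ (show (q : ℤ) ≠ 0 by have := two_le_q hF; omega) ?_
  rw [h]; ring

/-- The number of orbits seeing the character. -/
theorem nset_bound (hq : 3 ≤ q) [Nonempty (NSet hF 2 Y)] : q ^ 3 + q + 1 ≤ Nat.card (NSet hF 2 Y) := by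
  haveI := Fintype.ofFinite F
  haveI := Fintype.ofFinite (AOrb (M := Fin 2 → F) (NSet hF 2 Y))
  haveI : Nonempty (AOrb (M := Fin 2 → F) (NSet hF 2 Y)) := ⟨Quotient.mk'' (Classical.arbitrary _)⟩
  set nwt := fun v : Fin 2 → F => nwtB (Y := NSet hF 2 Y) (pairV hF 2) (psi₂ hF) v
  have hlevel : ∀ v w : Fin 2 → F, Cfsg.hermForm 2 F q v v ≠ 0 →
      Cfsg.hermForm 2 F q w w = Cfsg.hermForm 2 F q v v → 0 < nwt v → 0 < nwt w := by
    intro v w h0 hw hv
    obtain ⟨l, -, hl⟩ := conn_sphere hF le_rfl (fun h => by omega) h0 rfl hw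
    simp only [nwt, ← hl, nwt_levi hF]
    exact hv
  have hpos : ∀ o, ∀ v ∈ wtB (pairV hF 2) (psi₂ hF) (o : AOrb (M := Fin 2 → F) (NSet hF 2 Y)), 0 < nwt v :=
    fun o v hv => by
      haveI : Nonempty {o : AOrb (M := Fin 2 → F) (NSet hF 2 Y) // v ∈ wtB (pairV hF 2) (psi₂ hF) o} := ⟨⟨o, hv⟩⟩
      exact Nat.card_pos
  have hsum := card_eq_sum_wt (Y := NSet hF 2 Y) (pairV_perfect (k := 2) hF)
  by_cases hA : ∃ v, 0 < nwt v ∧ Cfsg.hermForm 2 F q v v ≠ 0
  swap
  · push Not at hA
    have h1 := orbits_of_singular hF Y fun o v hv => hA v (hpos o v hv)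
    have h2 : Nat.card (AOrb (M := Fin 2 → F) (NSet hF 2 Y)) * q ^ 2 ≤ Nat.card (NSet hF 2 Y) := by
      rw [hsum, Nat.card_eq_fintype_card, ← Finset.card_univ, ← smul_eq_mul, ← Finset.sum_const]
      exact Finset.sum_le_sum fun o _ => le_card_wt hF Y o
    have h3 := (Nat.mul_le_mul_right (q ^ 2) h1).trans h2
    nlinarith
  obtain ⟨v₁, hv₁, ha⟩ := hA
  set a := Cfsg.hermForm 2 F q v₁ v₁ with ha'
  have haq : a ^ q = a := herm_self_fixed hF v₁
  by_cases hB : ∀ v, 0 < nwt v → Cfsg.hermForm 2 F q v v ≠ 0 → Cfsg.hermForm 2 F q v v = a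
  · -- a single non-zero length
    have hle : ∀ o : AOrb (M := Fin 2 → F) (NSet hF 2 Y),
        4 * Nat.card {v : wtB (pairV hF 2) (psi₂ hF) o // Cfsg.hermForm 2 F q (v : Fin 2 → F) v = a} ≤
          3 * Nat.card (wtB (pairV hF 2) (psi₂ hF) o) :=
      fun o => quad_ones hF ha _ fun v hv => or_iff_not_imp_left.2 (hB v (hpos o v hv))
    have hex : ∀ v : {v : Fin 2 → F // Cfsg.hermForm 2 F q v v = a},
        ∃ o : AOrb (M := Fin 2 → F) (NSet hF 2 Y), v.1 ∈ wtB (pairV hF 2) (psi₂ hF) o := fun v => by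
      obtain ⟨⟨o, ho⟩⟩ := (Nat.card_pos_iff.1 (hlevel v₁ v.1 ha v.2 hv₁)).1
      exact ⟨o, ho⟩
    choose og hog using hex
    have hS : numLen F q 2 a ≤ ∑ o : AOrb (M := Fin 2 → F) (NSet hF 2 Y),
        Nat.card {v : wtB (pairV hF 2) (psi₂ hF) o // Cfsg.hermForm 2 F q (v : Fin 2 → F) v = a} := by
      rw [← Nat.card_sigma]
      refine Nat.card_le_card_of_injective (fun v => ⟨og v, ⟨v.1, hog v⟩, v.2⟩) fun v w h => Subtype.ext ?_
      exact congrArg (fun p : Σ o : AOrb (M := Fin 2 → F) (NSet hF 2 Y),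
        {v : wtB (pairV hF 2) (psi₂ hF) o // Cfsg.hermForm 2 F q (v : Fin 2 → F) v = a} => (p.2.1 : Fin 2 → F)) h
    have h4 : 4 * numLen F q 2 a ≤ 3 * Nat.card (NSet hF 2 Y) := by
      refine (Nat.mul_le_mul_left 4 hS).trans ?_
      rw [hsum, Finset.mul_sum, Finset.mul_sum]
      exact Finset.sum_le_sum fun o _ => hle o
    have h5 : (4 : ℤ) * ((q : ℤ) ^ 3 - q) ≤ 3 * (Nat.card (NSet hF 2 Y) : ℤ) := by
      rw [← sphere_card hF ha haq]; exact_mod_cast h4
    have hq' : (3 : ℤ) ≤ q := by exact_mod_cast hq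
    have : (q : ℤ) ^ 3 + q + 1 ≤ (Nat.card (NSet hF 2 Y) : ℤ) := by nlinarith
    exact_mod_cast this
  · -- two non-zero lengths
    push Not at hB
    obtain ⟨v₂, hv₂, hb, hab⟩ := hB
    set b := Cfsg.hermForm 2 F q v₂ v₂ with hb'
    have hbq : b ^ q = b := herm_self_fixed hF v₂
    have h := card_ge_of_weights (Y := NSet hF 2 Y) (pairV_perfect (k := 2) hF)
      ({v | Cfsg.hermForm 2 F q v v = a} ∪ {v | Cfsg.hermForm 2 F q v v = b})
      (by simp only [Set.mem_union, Set.mem_setOf_eq]; simp [Cfsg.hermForm]; exact ⟨Ne.symm ha, Ne.symm hb⟩) 1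
      (fun w hw => hw.elim (fun hw => hlevel v₁ w ha hw hv₁) (fun hw => hlevel v₂ w hb hw hv₂))
    rw [Nat.card_coe_set_eq, Set.ncard_union_eq (Set.disjoint_left.2 fun v h1 h2 => hab (h2.symm.trans h1)),
      ← Nat.card_coe_set_eq, ← Nat.card_coe_set_eq, one_mul] at h
    change numLen F q 2 a + numLen F q 2 b + _ ≤ _ at h
    have h1 : 0 < Nat.card (AOrb (M := Fin 2 → F) (NSet hF 2 Y)) := Nat.card_pos
    have h2 : ((q : ℤ) ^ 3 - q) + ((q : ℤ) ^ 3 - q) + 1 ≤ (Nat.card (NSet hF 2 Y) : ℤ) := by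
      nth_rewrite 1 [← sphere_card hF ha haq]
      rw [← sphere_card hF hb hbq]
      exact_mod_cast (by omega : numLen F q 2 a + numLen F q 2 b + 1 ≤ Nat.card (NSet hF 2 Y))
    have hq' : (3 : ℤ) ≤ q := by exact_mod_cast hq
    have : (q : ℤ) ^ 3 + q + 1 ≤ (Nat.card (NSet hF 2 Y) : ℤ) := by nlinarith
    exact_mod_cast this

omit Y in
/-- The bound in dimension four. -/
theorem four_bound (hq : 3 ≤ q) (H : Subgroup (Cfsg.SU 4 F q)) (hH : H ≠ ⊤) : q ^ 4 + q ^ 2 + q ≤ H.index := by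
  obtain ⟨x₀, hx₀⟩ := exists_moved hF (k := 2) (by omega) (fun h => by omega) (H := H) hH
  haveI := exists_nset (k := 2) hF (G 2 F q ⧸ H) x₀ hx₀ (by omega)
  have h1 := nset_bound hF (G 2 F q ⧸ H) hq
  have h2 := q_mul_nset_le (k := 2) hF (G 2 F q ⧸ H) (by omega)
  rw [Subgroup.index_eq_card]
  calc q ^ 4 + q ^ 2 + q = q * (q ^ 3 + q + 1) := by ring
    _ ≤ q * Nat.card (NSet hF 2 (G 2 F q ⧸ H)) := Nat.mul_le_mul_left q h1
    _ ≤ _ := h2

end CfsgLib.MinIdxPSU
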