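import Cfsg.Agent.MinIdxPSU.Count

/-!
A real scalar torus of the radical, and its action on orbits which are regular for the centre.
-/

set_option autoImplicit false
set_option linter.style.haveILetI false
set_option linter.unusedSectionVars false

namespace CfsgLib.MinIdxPSU

open Matrix CfsgLib.Unitary CfsgLib.Forms AddAction
open scoped Classical

variable {F : Type*} [Field F] [Finite F] {q k : ℕ} (hF : Nat.card F = q ^ 2)
include hF

/-- A real scalar on the radical, centralising the complement. -/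
theorem exists_scale_real {s : F} (hs0 : s ≠ 0) (hs : s ^ q = s) :
    ∃ t : G k F q, (∀ z w : Skew hF, (w : F) = s * s * (z : F) → t * zE hF z = zE hF w * t) ∧
      (∀ a, ∃ z : Skew hF, t * vE hF a * t⁻¹ = zE hF z * vE hF (s • a)) ∧
      ∀ l : Cfsg.SU k F q, t * levi l = levi l * t := by
  obtain ⟨d, hd, hdS⟩ := exists_delta hF
  have hdq : d ^ q = -d := by linear_combination (mem_skew_iff hF).1 hdS
  have hs1 : (s - 1) ^ q = s - 1 := by rw [← frobQ_apply hF, map_sub, frobQ_apply, hs, map_one]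
  set cy : F := (s - 1) / d
  set cx : F := -(d / s)
  set cz : F := -(s * cy)
  have hcy : cy + cy ^ q = 0 := by rw [div_pow, hs1, hdq, div_neg, add_neg_cancel]
  have hcx : cx + cx ^ q = 0 := by
    rw [show cx = -d / s from (neg_div s d).symm, div_pow, hs, ← frobQ_apply hF (-d), map_neg, frobQ_apply, hdq,
      neg_neg, neg_div, neg_add_cancel]
  have hcz : cz + cz ^ q = 0 := by
    rw [show cz = -s * cy by simp [cz], mul_pow, ← frobQ_apply hF (-s), map_neg, frobQ_apply, hs]
    linear_combination (-s) * hcy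
  let Fy := suTv (k + 1 + 1) (fv hF) cy (herm_ff hF) hcy hF
  let Fz := suTv (k + 1 + 1) (fv hF) cz (herm_ff hF) hcz hF
  let Ex := zE (k := k) hF ⟨cx, hcx⟩
  let Ed := zE (k := k) hF ⟨d, hdS⟩
  have hFc : ∀ (c : F) (hc : c + c ^ q = 0) (y : Fin (k + 1 + 1) → F),
      suMat (suTv (k + 1 + 1) (fv hF) c (herm_ff hF) hc hF) *ᵥ y =
        y + (c * Cfsg.hermForm (k + 1 + 1) F q y (fv hF)) • fv hF := fun c hc y => utv_mulVec _ _ _
  set t := Ed * Fy * Ex * Fz with ht
  have hap : ∀ y, suMat t *ᵥ y = suMat Ed *ᵥ (suMat Fy *ᵥ (suMat Ex *ᵥ (suMat Fz *ᵥ y))) := fun y => by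
    simp only [ht, suMat_mul, ← Matrix.mulVec_mulVec]
  have hev : suMat t *ᵥ ev hF = s • ev hF := by
    rw [hap]
    simp only [Fy, Fz, Ex, Ed, zE_apply hF, hFc, herm_add_left, herm_smul_left, herm_ee hF, herm_ff hF,
      herm_ef hF, herm_fe hF, mul_zero, mul_one, add_zero, zero_add]
    match_scalars <;> simp only [cx, cz, cy] <;> field_simp <;> ring
  have hemb : ∀ a, suMat t *ᵥ emb a = emb a := fun a => by
    rw [hap]
    simp only [Fy, Fz, Ex, Ed, zE_apply hF, hFc, herm_add_left, herm_smul_left, herm_ee hF, herm_ff hF,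
      herm_ef hF, herm_fe hF, herm_emb_ev hF, herm_emb_fv hF, mul_zero, zero_smul, add_zero]
  refine ⟨t, fun z w hw => ?_, fun a => ?_, fun l => ?_⟩
  · rw [← mul_inv_eq_iff_eq_mul]
    exact conj_zE hF hev z w (by rw [hw, hs]; ring)
  · have hs' : HeisCond q (s • a) (s * s * sec hF a) := by
      have h := sec_spec hF a
      unfold HeisCond at *
      rw [herm_smul_left, herm_smul_right hF, mul_pow, mul_pow, hs]
      linear_combination (s * s) * h
    have hconj : t * vE hF a * t⁻¹ = rad hF (s • a) (s * s * sec hF a) hs' := by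
      rw [mul_inv_eq_iff_eq_mul]
      refine su_ext fun y => ?_
      simp only [vE, suMat_mul, ← Matrix.mulVec_mulVec, rad_apply hF, Matrix.mulVec_add, Matrix.mulVec_smul,
        hev, hemb]
      have h1 : Cfsg.hermForm (k + 1 + 1) F q (suMat t *ᵥ y) (ev hF) =
          s⁻¹ * Cfsg.hermForm (k + 1 + 1) F q y (ev hF) := by
        have h := su_preserves t y (ev hF)
        rw [hev, herm_smul_right hF, hs] at h
        rw [← h, ← mul_assoc, inv_mul_cancel₀ hs0, one_mul]
      have h2 : Cfsg.hermForm (k + 1 + 1) F q (suMat t *ᵥ y) (emb (s • a)) =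
          s * Cfsg.hermForm (k + 1 + 1) F q y (emb a) := by
        rw [map_smul, herm_smul_right hF, hs, ← hemb a, su_preserves, hemb a]
      rw [h1, h2]
      simp only [map_smul]
      match_scalars <;> field_simp
    rw [hconj]
    exact rad_eq hF hs'
  · have hl : ∀ (c : F) (hc : c + c ^ q = 0),
        suTv (k + 1 + 1) (fv hF) c (herm_ff hF) hc hF * levi l = levi l * suTv (k + 1 + 1) (fv hF) c (herm_ff hF) hc hF := by
      intro c hc
      refine su_ext fun y => ?_
      simp only [suMat_mul, ← Matrix.mulVec_mulVec, hFc, Matrix.mulVec_add, Matrix.mulVec_smul,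
        levi_fix l (proj_fv hF)]
      congr 3
      conv_lhs => rw [← levi_fix l (proj_fv hF), su_preserves]
    have he := cz_levi (k := k) hF l
    change Ed * Fy * Ex * Fz * levi l = levi l * (Ed * Fy * Ex * Fz)
    simp only [Fy, Fz, Ex, Ed, mul_assoc, hl]
    simp only [← mul_assoc]
    rw [mul_assoc _ (zE hF _) (levi l), ← he, ← mul_assoc, mul_assoc _ (suTv _ _ _ _ _ _) (levi l), hl, ← mul_assoc,
      ← he]

variable (X : Type*) [MulAction (G k F q) X]

/-- The centre acts regularly at the point. -/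
def FreeZ (x : X) : Prop := ∀ z : Skew hF, zE (k := k) hF z • x = x → z = 0

/-- Everything seeing the basic character is regular for the centre. -/
def AllFree : Prop := ∀ x : X, Sees (k := k) hF X 1 (Quotient.mk'' (toXZ hF k x)) → FreeZ (k := k) hF X x

theorem sees_of_free {x : X} (h : FreeZ (k := k) hF X x) (c : F) : Sees (k := k) hF X c (Quotient.mk'' (toXZ hF k x)) := by
  rw [sees_mk hF]
  intro z hz
  rw [h z (mem_stabilizer_iff.1 hz)]
  simp

variable [Finite X]

/-- With few orbits not seeing the basic character, those seeing it are regular for the centre. -/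
theorem allFree_of_small (hk : 1 ≤ k) (h : Nat.card (ZO hF k X) < Nat.card (NSet hF k X) + q ^ k) :
    AllFree (k := k) hF X := by
  intro x hx w hw
  by_contra hw0
  have hw0' : (w : F) ≠ 0 := fun e => hw0 (Subtype.ext e)
  obtain ⟨d, hdS, hψ⟩ := (exists_psi₁ hF).choose_spec
  have hc : (d / (w : F)) ^ q = d / (w : F) := by
    rw [div_pow, show d ^ q = -d by linear_combination (mem_skew_iff hF).1 hdS,
      show (w : F) ^ q = -(w : F) by linear_combination (mem_skew_iff hF).1 w.2, neg_div_neg_eq]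
  set c : Fix hF := ⟨d / (w : F), hc⟩
  have hc0 : (c : F) ≠ 0 := by
    intro e
    apply hψ
    change d / (w : F) = 0 at e
    rw [div_eq_zero_iff, or_iff_left hw0'] at e
    rw [e, AddChar.map_zero_eq_one]
  set O₀ : NSet hF k X := ⟨_, hx⟩
  have hno : ∀ P : AddAction.orbit (Fin k → F) O₀, ¬ c ∈ wtB (pairZ hF) (psi₁ hF) (P.1.1 : ZO hF k X) := by
    rintro ⟨P, a, rfl⟩ hP
    change c ∈ wtB (pairZ hF) (psi₁ hF) ((a +ᵥ O₀ : NSet hF k X).1) at hP
    rw [vadd_mk hF] at hP
    have hmem : w ∈ stabilizer (Skew hF) (toXZ hF k (vE hF a • x)) := by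
      rw [mem_stabilizer_iff]
      change zE (k := k) hF w • (vE hF a • x) = vE hF a • x
      rw [← mul_smul, zE_comm_vE hF, mul_smul, hw]
    rw [wtB, stab_out] at hP
    have h1 := hP w hmem
    rw [pairZ_apply hF] at h1
    change psi₁ hF (d / (w : F) * (w : F)) = 1 at h1
    rw [div_mul_cancel₀ _ hw0'] at h1
    exact hψ h1
  have hsub : Nat.card (AddAction.orbit (Fin k → F) O₀) ≤
      Nat.card {O : ZO hF k X // ¬ c ∈ wtB (pairZ hF) (psi₁ hF) O} :=
    Nat.card_le_card_of_injective (fun P => ⟨P.1.1, hno P⟩) fun P Q h' => by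
      have h2 := congrArg Subtype.val h'
      exact Subtype.ext (Subtype.ext h2)
  have horb : q ^ k ≤ Nat.card (AddAction.orbit (Fin k → F) O₀) := by
    rw [card_orbit_wt (pairV_perfect hF)]
    have := le_card_wt hF X (Quotient.mk'' O₀)
    rwa [wtB, stab_out] at this
  have h1 := nset_le_nwt hF X hk hc0
  have h2 : Nat.card (ZO hF k X) = nwtB (Y := XZ hF k X) (pairZ hF) (psi₁ hF) c +
      Nat.card {O : ZO hF k X // ¬ c ∈ wtB (pairZ hF) (psi₁ hF) O} := by
    rw [nwtB, ← Nat.card_sum]
    exact (Nat.card_congr (Equiv.sumCompl _)).symm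
  omega

omit [Finite X] in
theorem scale_back {s : F} (hs0 : s ≠ 0) (hs : s ^ q = s) {t : G k F q}
    (ht : ∀ z w : Skew hF, (w : F) = s * s * (z : F) → t * zE hF z = zE hF w * t) (z : Skew hF) :
    ∃ z' : Skew hF, (z : F) = s * s * (z' : F) ∧ t * zE hF z' = zE hF z * t := by
  have hm : (z : F) / (s * s) ∈ Skew hF := by
    rw [mem_skew_iff hF, div_pow, mul_pow, hs, ← add_div, (mem_skew_iff hF).1 z.2, zero_div]
  have he : (z : F) = s * s * ((z : F) / (s * s)) := by field_simp
  exact ⟨⟨_, hm⟩, he, ht _ _ he⟩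

/-- The torus permutes the orbits seeing the basic character. -/
theorem exists_scale_perm (hfree : AllFree (k := k) hF X) {s : F} (hs0 : s ≠ 0) (hs : s ^ q = s) :
    ∃ (t : G k F q) (π : NSet hF k X ≃ NSet hF k X),
      (∀ z w : Skew hF, (w : F) = s * s * (z : F) → t * zE hF z = zE hF w * t) ∧
      (∀ l : Cfsg.SU k F q, t * levi l = levi l * t) ∧
      (∀ (x : X) (hx : Sees hF X 1 (Quotient.mk'' (toXZ hF k x))),
        (π ⟨_, hx⟩).1 = Quotient.mk'' (toXZ hF k (t • x))) ∧
      ∀ (a : Fin k → F) (O : NSet hF k X), π (a +ᵥ O) = (s • a) +ᵥ π O := by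
  obtain ⟨t, htz, htv, htl⟩ := exists_scale_real (k := k) hF hs0 hs
  let f : ZO hF k X → ZO hF k X := Quotient.map' (act hF X t) fun x y hxy => by
    rw [orbitRel_apply] at hxy ⊢
    obtain ⟨z, rfl⟩ := hxy
    have hm : s * s * (z : F) ∈ Skew hF := by
      rw [mem_skew_iff hF, mul_pow, mul_pow, hs]
      linear_combination (s * s) * (mem_skew_iff hF).1 z.2
    refine ⟨⟨_, hm⟩, ?_⟩
    change _ +ᵥ _ = act hF X t (z +ᵥ y)
    rw [vadd_eq, vadd_eq, act_mul, act_mul, htz z ⟨_, hm⟩ rfl]
  have hfree' : ∀ x : X, Sees (k := k) hF X 1 (Quotient.mk'' (toXZ hF k x)) → FreeZ (k := k) hF X (t • x) := by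
    intro x hx z hz
    obtain ⟨z', he, hz'⟩ := scale_back hF hs0 hs htz z
    rw [← mul_smul, ← hz', mul_smul] at hz
    have h0 := hfree x hx z' (MulAction.injective t hz)
    exact Subtype.ext (by rw [he, h0]; simp)
  have hsee : ∀ O : NSet hF k X, Sees hF X 1 (f O.1) := by
    intro O
    obtain ⟨x, hx, rfl⟩ := nset_exists hF X O
    exact sees_of_free hF X (hfree' x hx) 1
  let g : NSet hF k X → NSet hF k X := fun O => ⟨f O.1, hsee O⟩
  have hg : Function.Injective g := by
    intro O O' h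
    obtain ⟨x, hx, rfl⟩ := nset_exists hF X O
    obtain ⟨y, hy, rfl⟩ := nset_exists hF X O'
    obtain ⟨z, hz⟩ := orbitRel_apply.1 (Quotient.eq''.1 (congrArg Subtype.val h))
    obtain ⟨z', -, hz'⟩ := scale_back hF hs0 hs htz z
    refine Subtype.ext (Quotient.sound' (orbitRel_apply.2 ⟨z', act_injective hF X t ?_⟩))
    change act hF X t (z' +ᵥ _) = _
    rw [vadd_eq, act_mul, hz', ← act_mul]
    exact hz
  refine ⟨t, Equiv.ofBijective g (Finite.injective_iff_bijective.1 hg), htz, htl, fun x hx => rfl, fun a O => ?_⟩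
  obtain ⟨x, hx, rfl⟩ := nset_exists hF X O
  refine Subtype.ext ?_
  change (Quotient.mk'' (toXZ hF k (t • vE hF a • x)) : ZO hF k X) =
    Quotient.mk'' (toXZ hF k (vE hF (s • a) • t • x))
  obtain ⟨z, hz⟩ := htv a
  rw [mul_inv_eq_iff_eq_mul] at hz
  rw [← mul_smul, hz, mul_smul, mul_smul]
  exact zE_mk hF X z _

end CfsgLib.MinIdxPSU
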