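import Cfsg.Agent.MinIdxPSU.Four
import Cfsg.Agent.MinIdxPSU.Scale

/-!
In dimension four a smallest totally singular configuration of orbits forces fixed points of transvection groups.
-/

set_option autoImplicit false
set_option linter.style.haveILetI false
set_option linter.unusedSectionVars false

namespace CfsgLib.MinIdxPSU

open Matrix CfsgLib.Unitary CfsgLib.Forms AddAction
open scoped Classical

variable {F : Type*} [Field F] [Finite F] {q : ℕ} (hF : Nat.card F = q ^ 2)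
include hF

variable (Y : Type*) [MulAction (G 2 F q) Y] [Finite Y]

/-- The scalar on the weights. -/
theorem scale_orbit_perm (hfree : AllFree (k := 2) hF Y) {s : F} (hs0 : s ≠ 0) (hs : s ^ q = s) :
    ∃ (t : G 2 F q) (π : NSet hF 2 Y ≃ NSet hF 2 Y) (σ : AOrb (M := Fin 2 → F) (NSet hF 2 Y) ≃
        AOrb (M := Fin 2 → F) (NSet hF 2 Y)),
      (∀ z w : Skew hF, (w : F) = s * s * (z : F) → t * zE hF z = zE hF w * t) ∧
      (∀ l : Cfsg.SU 2 F q, t * levi l = levi l * t) ∧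
      (∀ (x : Y) (hx : Sees hF Y 1 (Quotient.mk'' (toXZ hF 2 x))),
        (π ⟨_, hx⟩).1 = Quotient.mk'' (toXZ hF 2 (t • x))) ∧
      (∀ (a : Fin 2 → F) (O : NSet hF 2 Y), π (a +ᵥ O) = (s • a) +ᵥ π O) ∧
      (∀ O, σ (Quotient.mk'' O) = Quotient.mk'' (π O)) ∧
      ∀ o v, s⁻¹ • v ∈ wtB (pairV hF 2) (psi₂ hF) (σ o) ↔ v ∈ wtB (pairV hF 2) (psi₂ hF) o := by
  obtain ⟨t, π, htz, htl, hπ, hπa⟩ := exists_scale_perm hF Y hfree hs0 hs
  obtain ⟨σ, hσ, hσw⟩ := exists_orbit_perm (B := pairV hF 2) (ψ := psi₂ hF) π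
    (DistribMulAction.toAddEquiv (Fin 2 → F) (Units.mk0 s hs0))
    (DistribMulAction.toAddEquiv (Fin 2 → F) (Units.mk0 s⁻¹ (inv_ne_zero hs0))) hπa fun a v => by
      rw [pairV_apply hF, pairV_apply hF]
      change psi₂ hF (Cfsg.hermForm 2 F q (s • a) (s⁻¹ • v)) = _
      rw [herm_smul_left, herm_smul_right hF, inv_pow, hs, mul_inv_cancel_left₀ hs0]
  exact ⟨t, π, σ, htz, htl, hπ, hπa, hσ, hσw⟩

theorem wt_scale_pos (hfree : AllFree (k := 2) hF Y) {s : F} (hs0 : s ≠ 0) (hs : s ^ q = s) (v : Fin 2 → F)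
    (hv : 0 < nwtB (Y := NSet hF 2 Y) (pairV hF 2) (psi₂ hF) v) :
    0 < nwtB (Y := NSet hF 2 Y) (pairV hF 2) (psi₂ hF) (s⁻¹ • v) := by
  obtain ⟨t, π, σ, -, -, -, -, -, hσw⟩ := scale_orbit_perm hF Y hfree hs0 hs
  rw [nwtB, Nat.card_pos_iff] at hv
  obtain ⟨⟨⟨o, ho⟩⟩, -⟩ := hv
  haveI : Nonempty {o : AOrb (M := Fin 2 → F) (NSet hF 2 Y) // s⁻¹ • v ∈ wtB (pairV hF 2) (psi₂ hF) o} :=
    ⟨⟨σ o, (hσw o v).2 ho⟩⟩
  exact Nat.card_pos

/-- The transvection group of the complement at a weight vector fixes a whole orbit of the centre. -/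
theorem exists_fixed_orbit [Nonempty (NSet hF 2 Y)] (hfree : AllFree (k := 2) hF Y)
    (hsing : ∀ o : AOrb (M := Fin 2 → F) (NSet hF 2 Y), ∀ v ∈ wtB (pairV hF 2) (psi₂ hF) o,
      Cfsg.hermForm 2 F q v v = 0)
    (hcard : Nat.card (AOrb (M := Fin 2 → F) (NSet hF 2 Y)) ≤ q + 1)
    {s : F} (hs0 : s ≠ 0) (hs : s ^ q = s) (hs2 : s * s ≠ 1) :
    ∃ (w : Fin 2 → F) (hw : Cfsg.hermForm 2 F q w w = 0), w ≠ 0 ∧ ∃ y : Y, FreeZ (k := 2) hF Y y ∧
      ∀ (c : F) (hc : c + c ^ q = 0) (z : Skew hF),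
        levi (suTv 2 w c hw hc hF) • zE (k := 2) hF z • y = zE (k := 2) hF z • y := by
  have hq := two_le_q hF
  obtain ⟨-, hstr⟩ := singular_structure hF Y hsing
  obtain ⟨hinj, hstab⟩ := hstr hcard
  obtain ⟨t, π, σ, htz, htl, hπ, hπa, hσ, hσw⟩ := scale_orbit_perm hF Y hfree hs0 hs
  have hs1 : s ≠ 1 := fun e => hs2 (by rw [e, one_mul])
  have hσid : ∀ o, σ o = o := fun o => hinj (AddSubgroup.ext fun v => by
    constructor
    · intro hv
      have h := (hσw o (s • v)).1 (by rwa [inv_smul_smul₀ hs0])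
      have h' := hstab o s⁻¹ (by rw [inv_pow, hs]) _ h
      rwa [inv_smul_smul₀ hs0] at h'
    · intro hv
      have h := (hσw o (s • v)).2 (hstab o s hs v hv)
      rwa [inv_smul_smul₀ hs0] at h)
  obtain ⟨O₀⟩ : Nonempty (NSet hF 2 Y) := inferInstance
  set o : AOrb (M := Fin 2 → F) (NSet hF 2 Y) := Quotient.mk'' O₀
  obtain ⟨w, hwo, hw0⟩ : ∃ w : Fin 2 → F, w ∈ wtB (pairV hF 2) (psi₂ hF) o ∧ w ≠ 0 := by
    have h1 : 1 < Nat.card (wtB (pairV hF 2) (psi₂ hF) o) :=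
      lt_of_lt_of_le (Nat.one_lt_pow (by omega) hq) (le_card_wt hF Y o)
    haveI : Nontrivial (wtB (pairV hF 2) (psi₂ hF) o) := Finite.one_lt_card_iff_nontrivial.1 h1
    obtain ⟨⟨e, he⟩, he0⟩ := exists_ne (0 : wtB (pairV hF 2) (psi₂ hF) o)
    exact ⟨e, he, fun h => he0 (Subtype.ext h)⟩
  have hww := hsing o w hwo
  -- the fixed point of the torus on the orbit
  obtain ⟨a, ha⟩ : ∃ a : Fin 2 → F, a +ᵥ O₀ = π O₀ := by
    have h := (hσ O₀).symm.trans (hσid o)
    exact orbitRel_apply.1 (Quotient.eq''.1 h)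
  have hs1' : s - 1 ≠ 0 := sub_ne_zero.2 hs1
  set b := -((s - 1)⁻¹ • a) with hb
  have hfix : π (b +ᵥ O₀) = b +ᵥ O₀ := by
    rw [hπa, ← ha, vadd_vadd]
    congr 1
    have h : (s - 1) • b = -a := by rw [hb, smul_neg, smul_inv_smul₀ hs1']
    rw [sub_smul, one_smul] at h
    linear_combination (norm := module) h
  set O₁ := b +ᵥ O₀
  have hO₁ : (Quotient.mk'' O₁ : AOrb (M := Fin 2 → F) (NSet hF 2 Y)) = o :=
    Quotient.sound' (orbitRel_apply.2 ⟨b, rfl⟩)
  obtain ⟨x, hx, hxO⟩ := nset_exists hF Y O₁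
  have hfx : FreeZ (k := 2) hF Y x := hfree x hx
  obtain ⟨z₁, hz₁⟩ : ∃ z₁ : Skew hF, zE (k := 2) hF z₁ • x = t • x := by
    have h := congrArg Subtype.val hfix
    rw [hxO, hπ x hx] at h
    exact orbitRel_apply.1 (Quotient.eq''.1 h)
  have hm : -((z₁ : F) / (s * s - 1)) ∈ Skew hF := by
    refine (Skew hF).neg_mem ?_
    rw [mem_skew_iff hF, div_pow, ← frobQ_apply hF (s * s - 1), map_sub, map_mul, map_one, frobQ_apply, hs,
      ← add_div, (mem_skew_iff hF).1 z₁.2, zero_div]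
  set z₂ : Skew hF := ⟨_, hm⟩
  have hm' : ∀ z : Skew hF, s * s * (z : F) ∈ Skew hF := fun z => by
    rw [mem_skew_iff hF, mul_pow, mul_pow, hs]
    linear_combination (s * s) * (mem_skew_iff hF).1 z.2
  set y := zE (k := 2) hF z₂ • x with hy
  have hty : t • y = y := by
    rw [hy, ← mul_smul, htz z₂ ⟨_, hm' z₂⟩ rfl, mul_smul, ← hz₁, ← mul_smul, ← zE_add]
    congr 2
    refine Subtype.ext ?_
    have h2 : s * s - 1 ≠ 0 := sub_ne_zero.2 hs2
    change s * s * -((z₁ : F) / (s * s - 1)) + (z₁ : F) = -((z₁ : F) / (s * s - 1))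
    linear_combination -(div_mul_cancel₀ (z₁ : F) h2)
  have hfy : FreeZ (k := 2) hF Y y := fun z hz => by
    refine hfx z (MulAction.injective (zE (k := 2) hF z₂) ?_)
    change zE (k := 2) hF z₂ • zE (k := 2) hF z • x = zE (k := 2) hF z₂ • x
    rw [← mul_smul, ← zE_add, add_comm z₂ z, zE_add, mul_smul]
    exact hz
  refine ⟨w, hww, hw0, y, hfy, fun c hc z => ?_⟩
  set τ := suTv 2 w c hww hc hF with hτ
  -- the transvection fixes the orbit
  let f : (Fin 2 → F) ≃+ (Fin 2 → F) :=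
    { toFun := fun a => suMat τ *ᵥ a
      invFun := fun a => suMat τ⁻¹ *ᵥ a
      left_inv := fun a => su_inv_mulVec τ a
      right_inv := fun a => by
        have h := su_inv_mulVec τ⁻¹ a
        rwa [inv_inv] at h
      map_add' := fun a b => Matrix.mulVec_add _ _ _ }
  let πl : NSet hF 2 Y ≃ NSet hF 2 Y :=
    Equiv.ofBijective _ (Finite.injective_iff_bijective.1 (nmap_injective hF Y (cz_levi (k := 2) hF τ)))
  obtain ⟨σl, hσl, hσlw⟩ := exists_orbit_perm (B := pairV hF 2) (ψ := psi₂ hF) πl f f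
    (fun a O => nmap_levi_vadd hF Y τ a O) (fun a v => by
      rw [pairV_apply hF, pairV_apply hF]
      exact congrArg (psi₂ hF) (su_preserves τ a v))
  have hWfix : ∀ v ∈ wtB (pairV hF 2) (psi₂ hF) o, f v ∈ wtB (pairV hF 2) (psi₂ hF) o := by
    intro v hv
    change suMat τ *ᵥ v ∈ _
    rw [show suMat τ *ᵥ v = v + (c * Cfsg.hermForm 2 F q v w) • w from utv_mulVec _ _ _]
    refine add_mem hv (hstab o _ ?_ w hwo)
    have h := hsing o _ (add_mem hv hwo)
    rw [herm_add_left, herm_add_right hF, herm_add_right hF, hsing o v hv, hww, herm_conj hF v w] at h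
    rw [mul_pow]
    linear_combination Cfsg.hermForm 2 F q v w ^ q * hc - c * h
  have hσlo : σl o = o := by
    refine hinj ?_
    haveI := Fintype.ofFinite (wtB (pairV hF 2) (psi₂ hF) o)
    ext v
    constructor
    · intro hv
      have hv' : f.symm v ∈ wtB (pairV hF 2) (psi₂ hF) o := by
        have := (hσlw o (f.symm v)).1 (by rwa [AddEquiv.apply_symm_apply])
        exact this
      have := hWfix _ hv'
      rwa [AddEquiv.apply_symm_apply] at this
    · intro hv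
      have hsur : Function.Surjective (fun u : wtB (pairV hF 2) (psi₂ hF) o =>
          (⟨f u.1, hWfix _ u.2⟩ : wtB (pairV hF 2) (psi₂ hF) o)) :=
        Finite.injective_iff_surjective.1 fun u u' e => Subtype.ext (f.injective (congrArg Subtype.val e))
      obtain ⟨⟨u, hu⟩, hu'⟩ := hsur ⟨v, hv⟩
      rw [show v = f u from (congrArg Subtype.val hu').symm]
      exact (hσlw o u).2 hu
  obtain ⟨u, hu⟩ : ∃ u : Fin 2 → F, u +ᵥ O₁ = πl O₁ := by
    have h : (Quotient.mk'' (πl O₁) : AOrb (M := Fin 2 → F) (NSet hF 2 Y)) = Quotient.mk'' O₁ := by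
      rw [← hσl, hO₁, hσlo]
    exact orbitRel_apply.1 (Quotient.eq''.1 h)
  have hyO : (Quotient.mk'' (toXZ hF 2 y) : ZO hF 2 Y) = O₁.1 := by
    rw [hxO]; exact zE_mk hF Y z₂ x
  have hcomm : π (πl O₁) = πl O₁ := by
    have e1 : (πl O₁).1 = Quotient.mk'' (toXZ hF 2 (levi τ • x)) := by
      rw [hxO]; rfl
    have hx' : Sees hF Y 1 (Quotient.mk'' (toXZ hF 2 (levi τ • x))) := e1 ▸ (πl O₁).2
    rw [show πl O₁ = (⟨_, hx'⟩ : NSet hF 2 Y) from Subtype.ext e1]
    refine Subtype.ext ?_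
    rw [hπ _ hx']
    change (Quotient.mk'' (toXZ hF 2 (t • levi τ • x)) : ZO hF 2 Y) = Quotient.mk'' (toXZ hF 2 (levi τ • x))
    rw [← mul_smul, htl, mul_smul, ← hz₁, ← mul_smul, (cz_levi (k := 2) hF τ) z₁, mul_smul]
    exact zE_mk hF Y z₁ _
  have hu1 : u +ᵥ O₁ = O₁ := by
    rw [← hu, hπa, hfix] at hcomm
    have hmem : (s - 1) • u ∈ stabilizer (Fin 2 → F) O₁ := by
      rw [mem_stabilizer_iff]
      have : (-u) +ᵥ ((s • u) +ᵥ O₁) = (-u) +ᵥ (u +ᵥ O₁) := by rw [hcomm]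
      rw [neg_vadd_vadd, vadd_vadd] at this
      rw [sub_smul, one_smul, sub_eq_neg_add]
      exact this
    rw [← mem_stabilizer_iff]
    have hst : stabilizer (Fin 2 → F) O₁ = annB (pairV hF 2) (psi₂ hF) (wtB (pairV hF 2) (psi₂ hF) o) := by
      refine AddSubgroup.eq_of_le_of_card_ge (fun a ha v hv => ?_) ?_
      · rw [← hO₁, wtB, stab_out] at hv
        have h := hv a ha
        rw [pairV_apply hF, psi₂_apply hF] at h
        rw [pairV_apply hF, herm_conj hF a v, psi₂_apply hF, pow_q_q hF, ← neg_sub, AddChar.map_neg_eq_inv, h,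
          inv_one]
      · rw [card_annB (pairV_perfect hF)]
        have h1 := (wtB (pairV hF 2) (psi₂ hF) o).card_mul_index
        have h2 := (stabilizer (Fin 2 → F) O₁).card_mul_index
        have h3 : Nat.card (wtB (pairV hF 2) (psi₂ hF) o) = (stabilizer (Fin 2 → F) O₁).index := by
          rw [← hO₁, wtB, stab_out, card_annB (pairV_perfect hF)]
        rw [h3] at h1
        have hpos : 0 < (stabilizer (Fin 2 → F) O₁).index :=
          Nat.pos_of_ne_zero AddSubgroup.index_ne_zero_of_finite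
        exact le_of_eq (Nat.eq_of_mul_eq_mul_left hpos (h1.trans (h2.symm.trans (mul_comm _ _))))
    rw [hst] at hmem ⊢
    intro v hv
    have h := hmem ((s - 1)⁻¹ • v) (hstab o _ (by
      rw [inv_pow, ← frobQ_apply hF (s - 1), map_sub, map_one, frobQ_apply, hs]) v hv)
    rw [pairV_apply hF] at h ⊢
    rw [herm_smul_left, herm_smul_right hF] at h
    rwa [← frobQ_apply hF (s - 1), map_sub, map_one, frobQ_apply, hs, ← mul_assoc, inv_mul_cancel₀ hs1', one_mul] at h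
  rw [hu1] at hu
  obtain ⟨z₃, hz₃⟩ : ∃ z₃ : Skew hF, zE (k := 2) hF z₃ • y = levi τ • y := by
    have h : (Quotient.mk'' (toXZ hF 2 (levi τ • y)) : ZO hF 2 Y) = Quotient.mk'' (toXZ hF 2 y) := by
      rw [hyO]
      conv_rhs => rw [hu]
      change cmap hF Y (cz_levi (k := 2) hF τ) (Quotient.mk'' (toXZ hF 2 y)) = _
      rw [hyO]; rfl
    exact orbitRel_apply.1 (Quotient.eq''.1 h)
  have hz0 : z₃ = 0 := by
    have h : zE (k := 2) hF ⟨_, hm' z₃⟩ • y = zE (k := 2) hF z₃ • y := by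
      conv_rhs => rw [hz₃, ← hty, ← mul_smul, ← htl, mul_smul, ← hz₃, ← mul_smul, htz z₃ ⟨_, hm' z₃⟩ rfl, mul_smul, hty]
    have h' : zE (k := 2) hF ((⟨_, hm' z₃⟩ : Skew hF) - z₃) • y = y := by
      rw [sub_eq_neg_add, zE_add, mul_smul, h, ← mul_smul, ← zE_add, neg_add_cancel, zE_zero, one_smul]
    have h0 := congrArg Subtype.val (hfy _ h')
    change s * s * (z₃ : F) - z₃ = 0 at h0
    exact Subtype.ext ((mul_eq_zero.1 (show (s * s - 1) * (z₃ : F) = 0 by linear_combination h0)).resolve_left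
      (sub_ne_zero.2 hs2))
  rw [hz0, zE_zero, one_smul] at hz₃
  rw [← mul_smul, (cz_levi (k := 2) hF τ) z, mul_smul, ← hz₃]

/-- Such a configuration leaves at least `q` further orbits of the centre. -/
theorem orbits_extra [Nonempty (NSet hF 2 Y)] (hfree : AllFree (k := 2) hF Y)
    (hsing : ∀ o : AOrb (M := Fin 2 → F) (NSet hF 2 Y), ∀ v ∈ wtB (pairV hF 2) (psi₂ hF) o,
      Cfsg.hermForm 2 F q v v = 0)
    (hcard : Nat.card (AOrb (M := Fin 2 → F) (NSet hF 2 Y)) ≤ q + 1)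
    {s : F} (hs0 : s ≠ 0) (hs : s ^ q = s) (hs2 : s * s ≠ 1) :
    Nat.card (NSet hF 2 Y) + q ≤ Nat.card (ZO hF 2 Y) := by
  obtain ⟨w, hw, hw0, y, hfy, hfix⟩ := exists_fixed_orbit hF Y hfree hsing hcard hs0 hs hs2
  obtain ⟨g, hg⟩ := exists_SU_vec hF (n := 2 + 1 + 1) (by norm_num) (ev_ne_zero hF)
    (show emb (k := 2) w ≠ 0 from fun e => hw0 (emb_injective (by rw [e]; funext i; induction i using Fin.cases with
      | zero => rfl
      | succ i => induction i using Fin.cases <;> rfl)))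
    (herm_ee hF) (by rw [herm_emb hF, hw])
  have hconj : ∀ z : Skew hF, g * zE hF z = levi (suTv 2 w (z : F) hw z.2 hF) * g := by
    intro z
    refine su_ext fun v => ?_
    simp only [suMat_mul, ← Matrix.mulVec_mulVec, zE_apply hF, Matrix.mulVec_add, Matrix.mulVec_smul, hg]
    rw [levi_apply]
    have h1 : Cfsg.hermForm (2 + 1 + 1) F q v (ev hF) = Cfsg.hermForm 2 F q (proj (suMat g *ᵥ v)) w := by
      rw [← herm_emb_right hF, ← hg, su_preserves]
    rw [show suMat (suTv 2 w (z : F) hw z.2 hF) *ᵥ proj (suMat g *ᵥ v) =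
      proj (suMat g *ᵥ v) + ((z : F) * Cfsg.hermForm 2 F q (proj (suMat g *ᵥ v)) w) • w from utv_mulVec _ _ _, h1]
    generalize suMat g *ᵥ v = u
    funext i
    induction i using Fin.cases with
    | zero => simp [emb]
    | succ i =>
      induction i using Fin.cases with
      | zero => simp [emb]
      | succ i => simp [emb, proj]; rfl
  have hpt : ∀ z z' : Skew hF, zE (k := 2) hF z • (g⁻¹ • zE (k := 2) hF z' • y) = g⁻¹ • zE (k := 2) hF z' • y := by
    intro z z'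
    rw [← mul_smul, show zE hF z * g⁻¹ = g⁻¹ * levi (suTv 2 w (z : F) hw z.2 hF) by
      rw [eq_inv_mul_iff_mul_eq, ← mul_assoc, hconj, mul_assoc, mul_inv_cancel, mul_one], mul_smul, hfix (z : F) z.2 z']
  let ι : NSet hF 2 Y ⊕ Skew hF → ZO hF 2 Y :=
    Sum.elim Subtype.val fun z' => Quotient.mk'' (toXZ hF 2 (g⁻¹ • zE (k := 2) hF z' • y))
  obtain ⟨d, hd, hdS⟩ := exists_delta hF
  have hnot : ∀ z' : Skew hF, ¬ Sees hF Y 1 (Quotient.mk'' (toXZ hF 2 (g⁻¹ • zE (k := 2) hF z' • y))) := by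
    intro z' h
    have := hfree _ h ⟨d, hdS⟩ (hpt _ z')
    exact hd (congrArg Subtype.val this)
  have hι : Function.Injective ι := by
    rintro (O | z) (O' | z') h <;> simp only [ι, Sum.elim_inl, Sum.elim_inr] at h
    · exact congrArg Sum.inl (Subtype.ext h)
    · exact absurd (h ▸ O.2) (hnot z')
    · exact absurd (h ▸ O'.2) (hnot z)
    · obtain ⟨z₀, hz₀⟩ := orbitRel_apply.1 (Quotient.eq''.1 h)
      change zE (k := 2) hF z₀ • (g⁻¹ • zE (k := 2) hF z' • y) = g⁻¹ • zE (k := 2) hF z • y at hz₀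
      rw [hpt] at hz₀
      have h' := MulAction.injective g⁻¹ hz₀
      have h'' : zE (k := 2) hF (-z + z') • y = y := by
        rw [zE_add, mul_smul, h', ← mul_smul, ← zE_add, neg_add_cancel, zE_zero, one_smul]
      exact congrArg Sum.inr (neg_add_eq_zero.1 (hfy _ h''))
  have h := Nat.card_le_card_of_injective ι hι
  rwa [Nat.card_sum, (card_fix_skew hF).2] at h

end CfsgLib.MinIdxPSU
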