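import Cfsg.Agent.MinIdxPSU.FourFix
import Cfsg.Agent.MinIdxPSU.Conclude

/-!
The least index of a proper subgroup of the special unitary group of dimension four.
-/

set_option autoImplicit false
set_option linter.style.haveILetI false
set_option linter.unusedSectionVars false

namespace CfsgLib.MinIdxPSU

open Matrix CfsgLib.Unitary CfsgLib.Forms AddAction
open scoped Classical

variable {F : Type*} [Field F] [Finite F] {q : ℕ} (hF : Nat.card F = q ^ 2)
include hF

/-- Over the prime field of three elements, a single length fills at most two thirds. -/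
theorem quad_ones_three (h3 : q = 3) {n : ℕ} {a : F} (ha : a ≠ 0) (W : AddSubgroup (Fin n → F))
    (hW : ∀ v ∈ W, Cfsg.hermForm n F q v v = 0 ∨ Cfsg.hermForm n F q v v = a) :
    3 * Nat.card {v : W // Cfsg.hermForm n F q (v : Fin n → F) v = a} ≤ 2 * Nat.card W := by
  haveI := Fintype.ofFinite W
  have hthree : (3 : F) = 0 := by
    haveI := Fintype.ofFinite F
    have h := FiniteField.cast_card_eq_zero F
    rw [← Nat.card_eq_fintype_card, hF, h3] at h
    have h9 : (9 : F) = 0 := by exact_mod_cast h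
    exact mul_self_eq_zero.1 (show (3 : F) * 3 = 0 by linear_combination h9)
  set Q : (Fin n → F) → F := fun v => Cfsg.hermForm n F q v v with hQ
  set T : (Fin n → F) → (Fin n → F) → F :=
    fun v w => Cfsg.hermForm n F q v w + Cfsg.hermForm n F q w v with hT
  have hadd : ∀ v w, Q (v + w) = Q v + Q w + T v w := fun v w => by
    simp only [hQ, hT, herm_add_left, herm_add_right hF]; ring
  have hsub : ∀ v w, Q (v - w) = Q v + Q w - T v w := fun v w => by
    simp only [hQ, hT, herm_sub_left hF, herm_sub_right hF]; ring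
  change ∀ v ∈ W, Q v = 0 ∨ Q v = a at hW
  set O := {v : W // Q (v : Fin n → F) = a}
  set Z := {v : W // ¬ Q (v : Fin n → F) = a}
  have hsum : Nat.card O + Nat.card Z = Nat.card W := by
    rw [← Nat.card_sum, Nat.card_congr (Equiv.sumCompl fun v : W => Q (v : Fin n → F) = a)]
  change 3 * Nat.card O ≤ 2 * Nat.card W
  rcases isEmpty_or_nonempty O with hO | ⟨⟨v0, h0⟩⟩
  · rw [Nat.card_eq_zero.2 (Or.inl hO)]; simp
  have key : ∀ v : W, Q (v : Fin n → F) = a → ∃ i : Fin 2, Q ((v + ![v0, -v0] i : W) : Fin n → F) = 0 := by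
    intro v hv
    rcases hW _ (W.add_mem v.2 v0.2) with h1 | h1
    · exact ⟨0, h1⟩
    rcases hW _ (W.sub_mem v.2 v0.2) with h2 | h2
    · exact ⟨1, by simpa [sub_eq_add_neg] using h2⟩
    · exfalso
      rw [hadd, hv, h0] at h1
      rw [hsub, hv, h0] at h2
      exact ha (by linear_combination a * hthree - h1 - h2)
  choose i hi using key
  have hinj : Function.Injective fun v : O =>
      ((i v.1 v.2, ⟨v.1 + ![v0, -v0] (i v.1 v.2), by rw [hi v.1 v.2]; exact ha.symm⟩) : Fin 2 × Z) := by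
    intro v w h
    obtain ⟨h1, h2⟩ := Prod.ext_iff.1 h
    dsimp only at h1 h2
    have h4 := congrArg Subtype.val h2
    dsimp only at h4
    rw [h1] at h4
    exact Subtype.ext (add_right_cancel h4)
  have h := Nat.card_le_card_of_injective _ hinj
  rw [Nat.card_prod, Nat.card_fin] at h
  omega

variable (Y : Type*) [MulAction (G 2 F q) Y] [Finite Y]

/-- The three shapes of a configuration of orbits. -/
theorem nset_cases (hq : 3 ≤ q) [Nonempty (NSet hF 2 Y)] :
    ((∀ o : AOrb (M := Fin 2 → F) (NSet hF 2 Y), ∀ v ∈ wtB (pairV hF 2) (psi₂ hF) o,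
        Cfsg.hermForm 2 F q v v = 0) ∧
      Nat.card (AOrb (M := Fin 2 → F) (NSet hF 2 Y)) * q ^ 2 ≤ Nat.card (NSet hF 2 Y) ∧
      q + 1 ≤ Nat.card (AOrb (M := Fin 2 → F) (NSet hF 2 Y))) ∨
    (q ^ 3 + q ^ 2 + 2 ≤ Nat.card (NSet hF 2 Y)) ∨
    ∃ a : F, a ≠ 0 ∧ (∃ v, 0 < nwtB (Y := NSet hF 2 Y) (pairV hF 2) (psi₂ hF) v ∧ Cfsg.hermForm 2 F q v v = a) ∧
      (∀ v, 0 < nwtB (Y := NSet hF 2 Y) (pairV hF 2) (psi₂ hF) v → Cfsg.hermForm 2 F q v v ≠ 0 →
        Cfsg.hermForm 2 F q v v = a) ∧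
      4 * ((q : ℤ) ^ 3 - q) ≤ 3 * (Nat.card (NSet hF 2 Y) : ℤ) ∧
      (q = 3 → 3 * ((q : ℤ) ^ 3 - q) ≤ 2 * (Nat.card (NSet hF 2 Y) : ℤ)) := by
  haveI := Fintype.ofFinite F
  haveI := Fintype.ofFinite (AOrb (M := Fin 2 → F) (NSet hF 2 Y))
  haveI : Nonempty (AOrb (M := Fin 2 → F) (NSet hF 2 Y)) := ⟨Quotient.mk'' (Classical.arbitrary _)⟩
  set nwt := fun v : Fin 2 → F => nwtB (Y := NSet hF 2 Y) (pairV hF 2) (psi₂ hF) v
  have hlevel : ∀ v w : Fin 2 → F, Cfsg.hermForm 2 F q v v ≠ 0 →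
      Cfsg.hermForm 2 F q w w = Cfsg.hermForm 2 F q v v → 0 < nwt v → 0 < nwt w := by
    intro v w h0 hw hv
    obtain ⟨l, -, hl⟩ := conn_sphere hF le_rfl (fun h => by omega) h0 rfl hw
    simp only [nwt, ← hl, nwt_levi hF]
    exact hv
  have hpos : ∀ o, ∀ v ∈ wtB (pairV hF 2) (psi₂ hF) (o : AOrb (M := Fin 2 → F) (NSet hF 2 Y)), 0 < nwt v :=
    fun o v hv => by
      haveI : Nonempty {o : AOrb (M := Fin 2 → F) (NSet hF 2 Y) // v ∈ wtB (pairV hF 2) (psi₂ hF) o} := ⟨⟨o, hv⟩⟩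
      exact Nat.card_pos
  have hsum := card_eq_sum_wt (Y := NSet hF 2 Y) (pairV_perfect (k := 2) hF)
  by_cases hA : ∃ v, 0 < nwt v ∧ Cfsg.hermForm 2 F q v v ≠ 0
  swap
  · push Not at hA
    have hsing := fun o v hv => hA v (hpos o v hv)
    refine Or.inl ⟨hsing, ?_, orbits_of_singular hF Y hsing⟩
    rw [hsum, Nat.card_eq_fintype_card, ← Finset.card_univ, ← smul_eq_mul, ← Finset.sum_const]
    exact Finset.sum_le_sum fun o _ => le_card_wt hF Y o
  obtain ⟨v₁, hv₁, ha⟩ := hA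
  set a := Cfsg.hermForm 2 F q v₁ v₁ with ha'
  have haq : a ^ q = a := herm_self_fixed hF v₁
  right
  by_cases hB : ∀ v, 0 < nwt v → Cfsg.hermForm 2 F q v v ≠ 0 → Cfsg.hermForm 2 F q v v = a
  · right
    refine ⟨a, ha, ⟨v₁, hv₁, rfl⟩, hB, ?_⟩
    have hex : ∀ v : {v : Fin 2 → F // Cfsg.hermForm 2 F q v v = a},
        ∃ o : AOrb (M := Fin 2 → F) (NSet hF 2 Y), v.1 ∈ wtB (pairV hF 2) (psi₂ hF) o := fun v => by
      obtain ⟨⟨o, ho⟩⟩ := (Nat.card_pos_iff.1 (hlevel v₁ v.1 ha v.2 hv₁)).1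
      exact ⟨o, ho⟩
    choose og hog using hex
    have hS : numLen F q 2 a ≤ ∑ o : AOrb (M := Fin 2 → F) (NSet hF 2 Y),
        Nat.card {v : wtB (pairV hF 2) (psi₂ hF) o // Cfsg.hermForm 2 F q (v : Fin 2 → F) v = a} := by
      rw [← Nat.card_sigma]
      refine Nat.card_le_card_of_injective (fun v => ⟨og v, ⟨v.1, hog v⟩, v.2⟩) fun v w h => Subtype.ext ?_
      exact congrArg (fun p : Σ o : AOrb (M := Fin 2 → F) (NSet hF 2 Y),
        {v : wtB (pairV hF 2) (psi₂ hF) o // Cfsg.hermForm 2 F q (v : Fin 2 → F) v = a} => (p.2.1 : Fin 2 → F)) h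
    have hor : ∀ o : AOrb (M := Fin 2 → F) (NSet hF 2 Y), ∀ v ∈ wtB (pairV hF 2) (psi₂ hF) o,
        Cfsg.hermForm 2 F q v v = 0 ∨ Cfsg.hermForm 2 F q v v = a :=
      fun o v hv => or_iff_not_imp_left.2 (hB v (hpos o v hv))
    have bound : ∀ c d : ℕ, (∀ o : AOrb (M := Fin 2 → F) (NSet hF 2 Y),
        c * Nat.card {v : wtB (pairV hF 2) (psi₂ hF) o // Cfsg.hermForm 2 F q (v : Fin 2 → F) v = a} ≤
          d * Nat.card (wtB (pairV hF 2) (psi₂ hF) o)) →
        (c : ℤ) * ((q : ℤ) ^ 3 - q) ≤ (d : ℤ) * (Nat.card (NSet hF 2 Y) : ℤ) := by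
      intro c d hle
      have h4 : c * numLen F q 2 a ≤ d * Nat.card (NSet hF 2 Y) := by
        refine (Nat.mul_le_mul_left c hS).trans ?_
        rw [hsum, Finset.mul_sum, Finset.mul_sum]
        exact Finset.sum_le_sum fun o _ => hle o
      rw [← sphere_card hF ha haq]
      exact_mod_cast h4
    exact ⟨bound 4 3 fun o => quad_ones hF ha _ (hor o),
      fun h3' => bound 3 2 fun o => quad_ones_three hF h3' ha _ (hor o)⟩
  · left
    push Not at hB
    obtain ⟨v₂, hv₂, hb, hab⟩ := hB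
    set b := Cfsg.hermForm 2 F q v₂ v₂ with hb'
    have hbq : b ^ q = b := herm_self_fixed hF v₂
    have h := card_ge_of_weights (Y := NSet hF 2 Y) (pairV_perfect (k := 2) hF)
      ({v | Cfsg.hermForm 2 F q v v = a} ∪ {v | Cfsg.hermForm 2 F q v v = b})
      (by simp only [Set.mem_union, Set.mem_setOf_eq]; simp [Cfsg.hermForm]; exact ⟨Ne.symm ha, Ne.symm hb⟩) 1
      (fun w hw => hw.elim (fun hw => hlevel v₁ w ha hw hv₁) (fun hw => hlevel v₂ w hb hw hv₂))
    rw [Nat.card_coe_set_eq, Set.ncard_union_eq (Set.disjoint_left.2 fun v h1 h2 => hab (h2.symm.trans h1)),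
      ← Nat.card_coe_set_eq, ← Nat.card_coe_set_eq, one_mul] at h
    change numLen F q 2 a + numLen F q 2 b + _ ≤ _ at h
    have h1 : 0 < Nat.card (AOrb (M := Fin 2 → F) (NSet hF 2 Y)) := Nat.card_pos
    have h2 : ((q : ℤ) ^ 3 - q) + ((q : ℤ) ^ 3 - q) + 1 ≤ (Nat.card (NSet hF 2 Y) : ℤ) := by
      nth_rewrite 1 [← sphere_card hF ha haq]
      rw [← sphere_card hF hb hbq]
      exact_mod_cast (by omega : numLen F q 2 a + numLen F q 2 b + 1 ≤ Nat.card (NSet hF 2 Y))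
    have hq' : (3 : ℤ) ≤ q := by exact_mod_cast hq
    have : (q : ℤ) ^ 3 + q ^ 2 + 2 ≤ (Nat.card (NSet hF 2 Y) : ℤ) := by nlinarith
    exact_mod_cast this

/-- The orbits seeing the basic character are at least as many as for the action on lines. -/
theorem nset_lb (hq : 3 ≤ q) [Nonempty (NSet hF 2 Y)] : q ^ 3 + q ^ 2 ≤ Nat.card (NSet hF 2 Y) := by
  rcases nset_cases hF Y hq with ⟨-, h, h'⟩ | h | ⟨a, -, -, -, h4, h3⟩
  · have := (Nat.mul_le_mul_right (q ^ 2) h').trans h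
    linarith
  · omega
  · rcases Nat.lt_or_ge q 4 with hq4 | hq4
    · have h := h3 (by omega)
      have e : q = 3 := by omega
      subst e
      push_cast at h
      have : (36 : ℤ) ≤ (Nat.card (NSet hF 2 Y) : ℤ) := by linarith
      exact_mod_cast this
    · have hq' : (4 : ℤ) ≤ q := by exact_mod_cast hq4
      have : (q : ℤ) ^ 3 + q ^ 2 ≤ (Nat.card (NSet hF 2 Y) : ℤ) := by nlinarith
      exact_mod_cast this

omit hF in
theorem coprime_arith {q g : ℕ} (hg : g = q ^ 3 + q ^ 2 + 1) (hq : 2 ≤ q)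
    (h : g ∣ q ^ 5 * ((q + 1) * ((q ^ 2 - 1) * ((q ^ 3 + 1) * (q ^ 4 - 1))))) : False := by
  obtain ⟨r, rfl⟩ : ∃ r, q = r + 1 := ⟨q - 1, by omega⟩
  have e1 : (r + 1) ^ 2 - 1 = r * (r + 2) := by
    rw [Nat.sub_eq_iff_eq_add (Nat.one_le_pow _ _ (by omega))]; ring
  have e2 : (r + 1) ^ 4 - 1 = r * ((r + 2) * ((r + 1) ^ 2 + 1)) := by
    rw [Nat.sub_eq_iff_eq_add (Nat.one_le_pow _ _ (by omega))]; ring
  rw [e1, e2] at h
  have key : ∀ {a b : ℕ} (x : ℕ), g = a * x + 1 → g ∣ a * b → g ∣ b := fun {a b} x hx hd =>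
    (Nat.Coprime.dvd_of_dvd_mul_left (Nat.coprime_of_dvd' fun k _ hk1 hk2 => by
      rw [hx] at hk1
      exact (Nat.dvd_add_right (hk2.mul_right x)).1 hk1) hd)
  have c0 : g = (r + 1) * ((r + 1) ^ 2 + (r + 1)) + 1 := by rw [hg]; ring
  have c1 : g = (r + 2) * (r + 1) ^ 2 + 1 := by rw [hg]; ring
  have p0 : ∀ n b : ℕ, g ∣ (r + 1) ^ n * b → g ∣ b := by
    intro n
    induction n with
    | zero => intro b hb; simpa using hb
    | succ n ih => intro b hb; exact ih b (key _ c0 (by rwa [pow_succ', mul_assoc] at hb))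
  have hc : ∀ a : ℕ, (∀ k, k ∣ g → k ∣ a → k ∣ (r + 1) ^ 2) → Nat.Coprime g a := by
    intro a ha
    refine Nat.coprime_of_dvd' fun k _ hk1 hk2 => ?_
    have := ha k hk1 hk2
    have h2 : k ∣ (r + 1) ^ 2 * ((r + 1) + 1) + 1 := by
      have : g = (r + 1) ^ 2 * ((r + 1) + 1) + 1 := by rw [hg]; ring
      rwa [← this]
    exact (Nat.dvd_add_right (this.mul_right _)).1 h2
  have h3c : Nat.Coprime g ((r + 1) ^ 3 + 1) := hc _ fun k hk1 hk2 => by
    have : g = ((r + 1) ^ 3 + 1) + (r + 1) ^ 2 := by rw [hg]; ring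
    rw [this] at hk1
    exact (Nat.dvd_add_right hk2).1 hk1
  have h4c : Nat.Coprime g ((r + 1) ^ 2 + 1) := hc _ fun k hk1 hk2 => by
    have : g + (r + 1) = ((r + 1) ^ 2 + 1) * (r + 2) := by rw [hg]; ring
    have h' : k ∣ g + (r + 1) := this ▸ hk2.mul_right _
    exact (((Nat.dvd_add_right hk1).1 h').trans (dvd_pow_self _ two_ne_zero))
  have h' := p0 5 _ h
  rw [show r + 1 + 1 = r + 2 by ring] at h'
  have h5 := key _ c1 h'
  rw [show r * (r + 2) * (((r + 1) ^ 3 + 1) * (r * ((r + 2) * ((r + 1) ^ 2 + 1)))) =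
    (r + 2) * ((r + 2) * (((r + 1) ^ 3 + 1) * (((r + 1) ^ 2 + 1) * (r * r)))) by ring] at h5
  have h6 := h4c.dvd_of_dvd_mul_left (h3c.dvd_of_dvd_mul_left (key _ c1 (key _ c1 h5)))
  have h7 := Nat.le_of_dvd (Nat.mul_pos (by omega) (by omega)) h6
  rw [hg] at h7
  nlinarith

theorem card_GU_four : Nat.card (Cfsg.GU 4 F q) =
    q ^ 6 * ((q + 1) * ((q ^ 2 - 1) * ((q ^ 3 + 1) * (q ^ 4 - 1)))) := by
  rw [card_GU hF 4]
  simp only [Finset.prod_range_succ, Finset.prod_range_zero, show ¬ Even 3 by decide, show ¬ Even 1 by decide,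
    show Even 0 by decide, show Even 2 by decide, if_true, if_false]
  norm_num
  ring_nf
  tauto

omit Y in
/-- The bound in dimension four over fields with at least sixteen elements. -/
theorem four_sharp (hq : 4 ≤ q) (H : Subgroup (Cfsg.SU 4 F q)) (hH : H ≠ ⊤) :
    (q + 1) * (q ^ 3 + 1) ≤ H.index := by
  obtain ⟨x₀, hx₀⟩ := exists_moved hF (k := 2) (by omega) (fun h => by omega) (H := H) hH
  haveI := exists_nset (k := 2) hF (G 2 F q ⧸ H) x₀ hx₀ (by omega)
  set X := G 2 F q ⧸ H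
  by_contra hlt
  push Not at hlt
  rw [Subgroup.index_eq_card] at hlt
  change Nat.card X < _ at hlt
  have hX : Nat.card X ≤ q ^ 4 + q ^ 3 + q := by
    have : (q + 1) * (q ^ 3 + 1) = q ^ 4 + q ^ 3 + q + 1 := by ring
    omega
  have hN := nset_lb hF X (by omega)
  have hO := orbits_add_le hF X (k := 2) (by omega)
  obtain ⟨p, hp⟩ : ∃ p, q = p + 1 := ⟨q - 1, by omega⟩
  have hfree : AllFree (k := 2) hF X := by
    refine allFree_of_small hF X (by omega) ?_
    subst hp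
    simp only [Nat.add_sub_cancel] at hO
    nlinarith
  haveI := Fintype.ofFinite F
  obtain ⟨s, hs, hs0, hs2⟩ : ∃ s : F, s ^ q = s ∧ s ≠ 0 ∧ s * s ≠ 1 := by
    by_contra hcon
    push Not at hcon
    have hsub : ∀ c : Fix hF, (c : F) ∈ ({0, 1, -1} : Finset F) := fun c => by
      by_cases hc : (c : F) = 0
      · simp [hc]
      · rcases mul_self_eq_one_iff.1 (hcon c c.2 hc) with h | h <;> simp [h]
    have h := Nat.card_le_card_of_injective (fun c : Fix hF => (⟨(c : F), hsub c⟩ : ({0, 1, -1} : Finset F)))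
      fun a b h => Subtype.ext (congrArg (fun x : ({0, 1, -1} : Finset F) => (x : F)) h)
    rw [(card_fix_skew hF).1, Nat.card_eq_fintype_card, Fintype.card_coe] at h
    have : ({0, 1, -1} : Finset F).card ≤ 3 := Finset.card_le_three
    omega
  have hqN := q_mul_nset_le hF X (k := 2) (by omega)
  have hbig : ¬ q ^ 3 + q ^ 2 + 1 ≤ Nat.card (NSet hF 2 X) ∨ Nat.card (NSet hF 2 X) < q ^ 3 + q ^ 2 + 2 := by
    by_contra hc
    push Not at hc
    have := (Nat.mul_le_mul_left q hc.2).trans hqN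
    nlinarith
  rcases nset_cases hF X (by omega) with ⟨hsing, hm, -⟩ | h | ⟨a, ha, ⟨v, hv, hva⟩, hB, h4, -⟩
  · have hcard : Nat.card (AOrb (M := Fin 2 → F) (NSet hF 2 X)) ≤ q + 1 := by
      by_contra hc
      push Not at hc
      have h1 := (Nat.mul_le_mul_right (q ^ 2) (Nat.succ_le_of_lt hc)).trans hm
      have := (Nat.mul_le_mul_left q h1).trans hqN
      nlinarith
    have he := orbits_extra hF X hfree hsing hcard hs0 hs hs2
    have hlow : q ^ 4 + q ^ 3 + q ≤ Nat.card X := by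
      subst hp
      simp only [Nat.add_sub_cancel] at hO
      have := Nat.mul_le_mul_left p hN
      nlinarith
    have hdvd : H.index ∣ Nat.card (Cfsg.GU 4 F q) :=
      (Subgroup.index_dvd_card H).trans ⟨q + 1, by rw [← card_SU_mul hF (n := 4) (by omega), mul_comm]⟩
    rw [Subgroup.index_eq_card, show Nat.card X = q ^ 4 + q ^ 3 + q by omega, card_GU_four hF,
      show q ^ 4 + q ^ 3 + q = q * (q ^ 3 + q ^ 2 + 1) by ring, pow_succ' q 5, mul_assoc] at hdvd
    exact coprime_arith rfl (by omega) (Nat.dvd_of_mul_dvd_mul_left (by omega) hdvd)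
  · omega
  · rcases Nat.lt_or_ge q 5 with hq5 | hq5
    · -- a second length appears
      have hv' := wt_scale_pos hF X hfree hs0 hs v hv
      have hlen : Cfsg.hermForm 2 F q (s⁻¹ • v) (s⁻¹ • v) = s⁻¹ * s⁻¹ * a := by
        rw [herm_smul_left, herm_smul_right hF, hva, inv_pow, hs]; ring
      have h1 := hB _ hv' (by
        rw [hlen]; exact mul_ne_zero (mul_ne_zero (inv_ne_zero hs0) (inv_ne_zero hs0)) ha)
      rw [hlen] at h1
      apply hs2
      have h2 : s⁻¹ * s⁻¹ = 1 := mul_right_cancel₀ ha (by rw [h1, one_mul])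
      rwa [← mul_inv, inv_eq_one] at h2
    · have hq' : (5 : ℤ) ≤ q := by exact_mod_cast hq5
      have : (q : ℤ) ^ 3 + q ^ 2 + 2 ≤ (Nat.card (NSet hF 2 X) : ℤ) := by nlinarith
      have h : q ^ 3 + q ^ 2 + 2 ≤ Nat.card (NSet hF 2 X) := by exact_mod_cast this
      omega

omit Y in
/-- The bound short of sharp over the field with nine elements. -/
theorem four_three (hq : q = 3) (H : Subgroup (Cfsg.SU 4 F q)) (hH : H ≠ ⊤) : 108 ≤ H.index := by
  obtain ⟨x₀, hx₀⟩ := exists_moved hF (k := 2) (by omega) (fun h => by omega) (H := H) hH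
  haveI := exists_nset (k := 2) hF (G 2 F q ⧸ H) x₀ hx₀ (by omega)
  rw [Subgroup.index_eq_card]
  refine le_trans ?_ ((Nat.mul_le_mul_left q (nset_lb hF (G 2 F q ⧸ H) (by omega))).trans
    (q_mul_nset_le hF _ (k := 2) (by omega)))
  subst hq
  norm_num

end CfsgLib.MinIdxPSU
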