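import Cfsg.Agent.MinIdxPSU.Bound
import Cfsg.Agent.MinIdxPSU.FourSharp
import Cfsg.Agent.Unitary.Isotropic

/-!
The stabiliser of a totally isotropic line in the projective special unitary group of dimension four.
-/

set_option autoImplicit false
set_option linter.style.haveILetI false
set_option linter.unusedSectionVars false

namespace CfsgLib.MinIdxPSU

open Matrix CfsgLib.Unitary CfsgLib.Forms
open scoped Classical

variable {F : Type*} [Field F] [Finite F] {q : ℕ} (hF : Nat.card F = q ^ 2)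
include hF

theorem exists_isoLine : Nonempty (IsoSub q 4 2 F) := by
  haveI := Fintype.ofFinite F
  have h1 := congrArg (Nat.cast : ℕ → ℤ) (card_isoSub hF (n := 4) (k := 2))
  have h2 := numTuple_eq (F := F) hF (n := 4) (k := 2) (by norm_num)
  by_contra hne
  rw [not_nonempty_iff] at hne
  rw [Nat.card_of_isEmpty, Nat.cast_mul, Nat.cast_zero, zero_mul] at h1
  rw [← h1] at h2
  have hz : (2 : ℤ) ≤ q := by exact_mod_cast two_le_q hF
  norm_num [guz, Finset.prod_range_succ] at h2
  have hp : ∀ k : ℕ, 0 < k → (1 : ℤ) < (q : ℤ) ^ k := fun k hk => one_lt_pow₀ (by omega) hk.ne'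
  have := hp 2 (by omega)
  have := hp 3 (by omega)
  have := hp 4 (by omega)
  simp only [mul_eq_zero, pow_eq_zero_iff', sub_eq_zero] at h2
  omega

/-- The stabiliser of a totally isotropic line has index `(q + 1) * (q ^ 3 + 1)`. -/
theorem exists_line_index :
    ∃ H : Subgroup (Cfsg.PSU 4 F q), H.index = (q + 1) * (q ^ 3 + 1) := by
  obtain ⟨W⟩ := exists_isoLine hF
  have hq := two_le_q hF
  set S := (Cfsg.stabilizing (Cfsg.slToMat 4 F) (W.1 : Set (Fin 4 → F))).subgroupOf (Cfsg.SU 4 F q)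
  set π := QuotientGroup.mk' (Subgroup.center (Cfsg.SU 4 F q))
  refine ⟨S.map π, ?_⟩
  rw [Subgroup.index_map_eq S (QuotientGroup.mk'_surjective _) ?_]
  · have hc := card_stab_SU hF (n := 4) (k := 2) (by norm_num) (by norm_num) W
    change (q + 1) * Nat.card S = _ at hc
    norm_num [Fin.prod_univ_two] at hc
    have hm := S.card_mul_index
    have hs := card_SU_mul hF (n := 4) (by norm_num)
    rw [card_GU_four hF] at hs
    obtain ⟨r, rfl⟩ : ∃ r, q = r + 1 := ⟨q - 1, by omega⟩
    have e2 : (r + 1) ^ 2 - 1 = r * (r + 2) := by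
      rw [Nat.sub_eq_iff_eq_add (Nat.one_le_pow _ _ (by omega))]; ring
    have e4 : (r + 1) ^ 4 - 1 = r * (r + 2) * ((r + 1) ^ 2 + 1) := by
      rw [Nat.sub_eq_iff_eq_add (Nat.one_le_pow _ _ (by omega))]; ring
    have e5 : ((r + 1) ^ 2) ^ 2 - (r + 1) ^ 2 = (r + 1) ^ 2 * (r * (r + 2)) := by
      rw [Nat.sub_eq_iff_eq_add (Nat.le_self_pow two_ne_zero _)]; ring
    have e6 : ((r + 1) ^ 2) ^ 2 - 1 = r * (r + 2) * ((r + 1) ^ 2 + 1) := by rw [← pow_mul]; exact e4
    simp only [e2, e4, e5, e6] at hc hs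
    have hr : 0 < r := by omega
    refine Nat.eq_of_mul_eq_mul_left
      (show 0 < (r + 1) ^ 6 * (r * (r + 2)) * (r * (r + 2) * ((r + 1) ^ 2 + 1)) by positivity) ?_
    linear_combination (r + 1 + 1) * hm + hs - S.index * hc
  · rw [QuotientGroup.ker_mk']
    intro z hz
    obtain ⟨c, hc⟩ := (mem_center_SU_iff (F := F) (q := q) hF (by norm_num)).1 hz
    rw [Subgroup.mem_subgroupOf]
    intro v
    have hv : Cfsg.slToMat 4 F z.1 *ᵥ v = c • v := by
      change (z.1.1 : Matrix (Fin 4) (Fin 4) F) *ᵥ v = _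
      rw [hc, Matrix.smul_mulVec, Matrix.one_mulVec]
    rw [hv]
    have hc0 : c ≠ 0 := fun e => by
      have := congrArg Matrix.det hc
      rw [e, zero_smul, Matrix.det_zero] at this
      · exact one_ne_zero (z.1.2.symm.trans this)
    exact (W.1.smul_mem_iff hc0).symm

end CfsgLib.MinIdxPSU
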