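import Cfsg.Agent.MinIdxPSU.FourSharp
import Cfsg.Agent.U43Seven.Basic
import Mathlib.GroupTheory.Transfer
import Mathlib.GroupTheory.Sylow
import Mathlib.Tactic.IntervalCases

/-!
The projective special unitary group of dimension four over nine elements has no subgroup of index below 112.
-/

set_option autoImplicit false
set_option linter.style.haveILetI false
set_option linter.unusedSectionVars false

namespace CfsgLib.MinIdxPSU

open CfsgLib.Unitary
open scoped Classical

/-- A conjugate equal to a power up to a central element of exponent prime to seven. -/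
theorem eq_of_center_defect {G : Type*} [Group G] {A B z : G} (hA : A ^ 7 = 1) (hB : B ^ 7 = 1)
    (hz : z ∈ Subgroup.center G) (hz4 : z ^ 4 = 1) (h : A = B * z) : A = B := by
  have hc : Commute B z := Subgroup.mem_center_iff.1 hz B
  have h7 : z ^ 7 = 1 := by rw [h, hc.mul_pow, hB, one_mul] at hA; exact hA
  have : z = 1 := by
    have h8 : z ^ 8 = 1 := by rw [show 8 = 4 * 2 by rfl, pow_mul, hz4, one_pow]
    rwa [pow_succ, h7, one_mul] at h8
  rw [h, this, mul_one]

theorem pow_seven_five : ∀ r : ZMod 5, r ^ 7 = 1 → r = 1 := by decide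

variable {F : Type*} [Field F] [Finite F] (hF : Nat.card F = 3 ^ 2)
include hF

theorem card_psu43 : Nat.card (Cfsg.PSU 4 F 3) = 3265920 := by
  have h := CfsgLib.Unitary.card_PSU_mul (F := F) (q := 3) hF (n := 4) (by norm_num)
  rw [card_GU_four hF] at h
  norm_num at h
  omega

/-- Elements of order seven: centraliser and conjugate powers. -/
theorem seven_facts (x : Cfsg.PSU 4 F 3) (hx : x ^ 7 = 1) (hx1 : x ≠ 1) :
    Nat.card (Subgroup.centralizer ({x} : Set (Cfsg.PSU 4 F 3))) ≤ 7 ∧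
      ∀ k : ℕ, ∀ g : Cfsg.PSU 4 F 3, g * x * g⁻¹ = x ^ k → k % 7 ∈ ({1, 2, 4} : Finset ℕ) := by
  haveI := Fintype.ofFinite F
  set Z := Subgroup.center (Cfsg.SU 4 F 3)
  set π := QuotientGroup.mk' Z
  have hs : Function.Surjective π := QuotientGroup.mk'_surjective Z
  have hZ : Nat.card Z = 4 := by rw [card_center_SU hF (n := 4) (by norm_num)]; rfl
  have hz4 : ∀ z ∈ Z, z ^ 4 = 1 := fun z hz => by
    have h := pow_card_eq_one' (x := (⟨z, hz⟩ : Z))
    rw [hZ] at h
    exact congrArg Subtype.val h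
  obtain ⟨B', hB'⟩ := hs x
  set B := B' ^ 8 with hBdef
  have hBx : π B = x := by rw [hBdef, map_pow, hB', pow_succ, hx, one_mul]
  have hB7 : B ^ 7 = 1 := by
    have h1 : B' ^ 7 ∈ Z := (QuotientGroup.eq_one_iff _).1 (show π (B' ^ 7) = 1 by rw [map_pow, hB', hx])
    rw [hBdef, ← pow_mul, show 8 * 7 = 7 * 4 * 2 by rfl, pow_mul, pow_mul, hz4 _ h1, one_pow]
  have hBne : B ≠ 1 := fun e => hx1 (by rw [← hBx, e, map_one])
  have hlift : ∀ (k : ℕ) (g : Cfsg.SU 4 F 3), π g * x * (π g)⁻¹ = x ^ k → g * B * g⁻¹ = B ^ k := by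
    intro k g h
    have h1 : (B ^ k)⁻¹ * (g * B * g⁻¹) ∈ Z := (QuotientGroup.eq_one_iff _).1
      (show π ((B ^ k)⁻¹ * (g * B * g⁻¹)) = 1 by
        simp only [map_mul, map_inv, map_pow, hBx, h, inv_mul_cancel])
    exact eq_of_center_defect (by rw [conj_pow, hB7, mul_one, mul_inv_cancel])
      (by rw [← pow_mul, mul_comm, pow_mul, hB7, one_pow]) h1 (hz4 _ h1) (by rw [mul_inv_cancel_left])
  constructor
  · have hle : (Subgroup.centralizer ({x} : Set (Cfsg.PSU 4 F 3))).comap π ≤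
        Subgroup.centralizer ({B} : Set (Cfsg.SU 4 F 3)) := by
      intro g hg
      rw [Subgroup.mem_comap, Subgroup.mem_centralizer_singleton_iff] at hg
      rw [Subgroup.mem_centralizer_singleton_iff]
      have := hlift 1 g (by rw [pow_one, hg, mul_inv_cancel_right])
      rw [pow_one, mul_inv_eq_iff_eq_mul] at this
      exact this
    have h28 := CfsgLib.U43Seven.card_centralizer_le hF B hB7 hBne
    have h1 := Nat.card_le_card_of_injective _ (Subgroup.inclusion_injective hle)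
    have h2 : Nat.card ((Subgroup.centralizer ({x} : Set (Cfsg.PSU 4 F 3))).comap π) =
        Nat.card (Subgroup.centralizer ({x} : Set (Cfsg.PSU 4 F 3))) * 4 := by
      have e1 := ((Subgroup.centralizer ({x} : Set (Cfsg.PSU 4 F 3))).comap π).card_mul_index
      have e2 := (Subgroup.centralizer ({x} : Set (Cfsg.PSU 4 F 3))).card_mul_index
      rw [Subgroup.index_comap_of_surjective _ hs,
        show Nat.card (Cfsg.SU 4 F 3) = Nat.card (Cfsg.PSU 4 F 3) * 4 by
          rw [Subgroup.card_eq_card_quotient_mul_card_subgroup Z, hZ], ← e2,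
        mul_right_comm] at e1
      exact Nat.eq_of_mul_eq_mul_right (Nat.pos_of_ne_zero Subgroup.index_ne_zero_of_finite) e1
    omega
  · intro k g h
    obtain ⟨g, rfl⟩ := hs g
    exact (CfsgLib.U43Seven.conj_square hF B hB7 hBne).2 k (isConj_iff.2 ⟨g, hlift k g h⟩)

theorem no_index_108 (H : Subgroup (Cfsg.PSU 4 F 3)) (hidx : H.index = 108) : False := by
  haveI : Fact (Nat.Prime 7) := ⟨by norm_num⟩
  haveI : Fact (Nat.Prime 5) := ⟨by norm_num⟩
  have hH : Nat.card H = 30240 := by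
    have := H.card_mul_index
    rw [card_psu43 hF, hidx] at this
    omega
  obtain ⟨x, hx⟩ := exists_prime_orderOf_dvd_card' (G := H) 7 (by rw [hH]; norm_num)
  obtain ⟨P⟩ : Nonempty (Sylow 7 H) := inferInstance
  have hP : Nat.card P = 7 := by
    rw [P.card_eq_multiplicity, hH, show (30240 : ℕ) = 7 * 4320 by rfl,
      Nat.factorization_mul (by norm_num) (by norm_num), Finsupp.add_apply,
      Nat.Prime.factorization_self (by norm_num), Nat.factorization_eq_zero_of_not_dvd (by norm_num)]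
    rfl
  obtain ⟨y, hy⟩ := (isCyclic_of_prime_card hP).exists_generator
  have hy7 : (y.1.1 : Cfsg.PSU 4 F 3) ^ 7 = 1 := by
    have h := pow_card_eq_one' (x := y)
    rw [hP] at h
    exact congrArg (fun z : ↥(P : Subgroup H) => (z.1.1 : Cfsg.PSU 4 F 3)) h
  have hy1 : (y.1.1 : Cfsg.PSU 4 F 3) ≠ 1 := by
    intro e
    have : ∀ z : (P : Subgroup H), z = 1 := fun z => by
      obtain ⟨k, rfl⟩ := Subgroup.mem_zpowers_iff.1 (hy z)
      rw [show y = 1 from Subtype.ext (Subtype.ext e), one_zpow]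
    have h1 : Nat.card P = 1 := Nat.card_eq_one_iff_exists.2 ⟨1, this⟩
    omega
  obtain ⟨hC, hpow⟩ := seven_facts hF _ hy7 hy1
  set x₀ : Cfsg.PSU 4 F 3 := y.1.1
  have hpowmem : ∀ z : (P : Subgroup H), ∃ k : ℕ, (z.1.1 : Cfsg.PSU 4 F 3) = x₀ ^ k := fun z => by
    obtain ⟨k, -, hk⟩ := (mem_zpowers_iff_mem_range_orderOf.1 (hy z) |> Finset.mem_image.1)
    exact ⟨k, congrArg (fun w : ↥(P : Subgroup H) => (w.1.1 : Cfsg.PSU 4 F 3)) hk.symm⟩
  set N := Subgroup.normalizer ((P : Subgroup H) : Set H)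
  have hconj : ∀ g : N, ∃ k : ℕ, (g.1.1 : Cfsg.PSU 4 F 3) * x₀ * (g.1.1)⁻¹ = x₀ ^ k := fun g => by
    obtain ⟨k, hk⟩ := hpowmem ⟨g.1 * y.1 * g.1⁻¹, (Subgroup.mem_normalizer_iff.1 g.2 y.1).1 y.2⟩
    exact ⟨k, hk⟩
  choose kk hkk using hconj
  have hN21 : Nat.card N ≤ 21 := by
    let f : N → ({1, 2, 4} : Finset ℕ) := fun g => ⟨kk g % 7, hpow (kk g) g.1.1 (hkk g)⟩
    have hfib : ∀ c, Nat.card {g : N // f g = c} ≤ 7 := by
      intro c
      rcases isEmpty_or_nonempty {g : N // f g = c} with he | ⟨⟨g₀, hg₀⟩⟩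
      · simp
      refine le_trans (Nat.card_le_card_of_injective (fun g : {g : N // f g = c} =>
        (⟨g₀.1.1⁻¹ * g.1.1.1, ?_⟩ : Subgroup.centralizer ({x₀} : Set (Cfsg.PSU 4 F 3)))) ?_) hC
      · rw [Subgroup.mem_centralizer_singleton_iff]
        have hk : kk g.1 % 7 = kk g₀ % 7 := congrArg Subtype.val (g.2.trans hg₀.symm)
        have e : (g.1.1.1 : Cfsg.PSU 4 F 3) * x₀ * (g.1.1.1)⁻¹ = g₀.1.1 * x₀ * (g₀.1.1)⁻¹ := by
          rw [hkk, hkk, pow_eq_pow_mod (kk g.1) hy7, pow_eq_pow_mod (kk g₀) hy7, hk]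
        rw [mul_inv_eq_iff_eq_mul] at e
        rw [mul_assoc, e]
        group
      · intro a b h
        have := congrArg Subtype.val h
        exact Subtype.ext (Subtype.ext (Subtype.ext (mul_left_cancel this)))
    haveI := Fintype.ofFinite N
    rw [Nat.card_congr (Equiv.sigmaFiberEquiv f).symm, Nat.card_sigma]
    refine (Finset.sum_le_sum fun c _ => hfib c).trans ?_
    rw [Finset.sum_const, smul_eq_mul, Finset.card_univ, Fintype.card_coe]
    exact le_of_eq rfl
  have h7N : 7 ∣ Nat.card N := hP ▸ Subgroup.card_dvd_of_le Subgroup.le_normalizer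
  have hn7 : Nat.card (Sylow 7 H) * Nat.card N = 30240 := by
    rw [show Nat.card (Sylow 7 H) = N.index from P.card_eq_index_normalizer, mul_comm, Subgroup.card_mul_index, hH]
  have hmod : Nat.card (Sylow 7 H) % 7 = 1 := by
    have := card_sylow_modEq_one 7 H
    simpa [Nat.ModEq] using this
  have hN7 : Nat.card N = 7 := by
    obtain ⟨m, hm⟩ := h7N
    rw [hm] at hn7 hN21 ⊢
    have hm3 : m ≤ 3 := by omega
    interval_cases m <;> omega
  have hNP : N = (P : Subgroup H) :=
    (Subgroup.eq_of_le_of_card_ge Subgroup.le_normalizer (by rw [hN7, hP])).symm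
  have hle : Subgroup.normalizer ((P : Subgroup H) : Set H) ≤ Subgroup.centralizer (P : Set H) := by
    change N ≤ _
    rw [hNP]
    intro a ha b hb
    haveI := isCyclic_of_prime_card hP
    exact congrArg Subtype.val ((IsCyclic.commutative (α := (P : Subgroup H))).is_comm.comm (⟨b, hb⟩ : (P : Subgroup H)) ⟨a, ha⟩)
  set K := (MonoidHom.transferSylow P hle).ker
  have hcompl := MonoidHom.ker_transferSylow_isComplement' P hle
  have hK : Nat.card K = 4320 := by
    have := hcompl.card_mul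
    rw [hP, hH] at this
    change Nat.card K * 7 = 30240 at this
    omega
  obtain ⟨Q⟩ : Nonempty (Sylow 5 K) := inferInstance
  have hQ : Nat.card Q = 5 := by
    rw [Q.card_eq_multiplicity, hK, show (4320 : ℕ) = 5 * 864 by rfl,
      Nat.factorization_mul (by norm_num) (by norm_num), Finsupp.add_apply,
      Nat.Prime.factorization_self (by norm_num), Nat.factorization_eq_zero_of_not_dvd (by norm_num)]
    rfl
  set M := Subgroup.normalizer (((Q : Subgroup K).map K.subtype : Subgroup H) : Set H)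
  have hsup : M ⊔ K = ⊤ := Sylow.normalizer_sup_eq_top Q
  have h7M : 7 ∣ Nat.card M := by
    have hKi : K.index = 7 := by
      have h := K.card_mul_index
      rw [hK, hH] at h
      omega
    have h := K.relIndex_dvd_card M
    rwa [← Subgroup.relIndex_sup_right (K := K) (H := M), hsup, Subgroup.relIndex_top_right, hKi] at h
  obtain ⟨m, hm⟩ := exists_prime_orderOf_dvd_card' (G := M) 7 h7M
  set Q' : Subgroup H := (Q : Subgroup K).map K.subtype
  have hQ' : Nat.card Q' = 5 := by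
    rw [← hQ]; exact (Nat.card_congr (Subgroup.equivMapOfInjective _ _ K.subtype_injective).toEquiv).symm
  obtain ⟨a, ha⟩ := exists_prime_orderOf_dvd_card' (G := Q') 5 (by rw [hQ'])
  obtain ⟨j, -, hj⟩ := mem_zpowers_iff_mem_range_orderOf.1
    (show (⟨m.1 * a.1 * m.1⁻¹, (Subgroup.mem_normalizer_iff.1 m.2 a.1).1 a.2⟩ : Q') ∈ Subgroup.zpowers a by
      haveI : Fact (Nat.Prime (Nat.card Q')) := ⟨by rw [hQ']; norm_num⟩
      rw [zpowers_eq_top_of_prime_card rfl (fun e => by rw [e, orderOf_one] at ha; omega)]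
      trivial) |> Finset.mem_image.1
  set a₀ : Cfsg.PSU 4 F 3 := a.1.1
  set m₀ : Cfsg.PSU 4 F 3 := m.1.1
  have ha0 : orderOf a₀ = 5 := by
    rw [← ha, ← Subgroup.orderOf_coe a, ← Subgroup.orderOf_coe a.1]
  have hm0 : orderOf m₀ = 7 := by
    rw [← hm, ← Subgroup.orderOf_coe m, ← Subgroup.orderOf_coe m.1]
  have hja : m₀ * a₀ * m₀⁻¹ = a₀ ^ j := (congrArg (fun w : Q' => (w.1.1 : Cfsg.PSU 4 F 3)) hj).symm
  have hiter : ∀ i : ℕ, m₀ ^ i * a₀ * (m₀ ^ i)⁻¹ = a₀ ^ (j ^ i) := by
    intro i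
    induction i with
    | zero => simp
    | succ i ih =>
      rw [pow_succ', mul_inv_rev, show m₀ * m₀ ^ i * a₀ * ((m₀ ^ i)⁻¹ * m₀⁻¹) =
        m₀ * (m₀ ^ i * a₀ * (m₀ ^ i)⁻¹) * m₀⁻¹ by group, ih, ← conj_pow, hja, ← pow_mul, pow_succ']
  have hj7 : (j : ZMod 5) ^ 7 = 1 := by
    have h := hiter 7
    rw [show m₀ ^ 7 = 1 by rw [← hm0, pow_orderOf_eq_one], one_mul, inv_one, mul_one] at h
    have h' : j ^ 7 ≡ 1 [MOD 5] := by
      rw [← ha0, ← pow_eq_pow_iff_modEq, pow_one]
      exact h.symm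
    have := (ZMod.natCast_eq_natCast_iff _ _ _).2 h'
    push_cast at this
    exact this
  have hj1 : (j : ZMod 5) = 1 := by
    exact pow_seven_five _ hj7
  have hcomm : m₀ * a₀ * m₀⁻¹ = a₀ := by
    rw [hja]
    conv_rhs => rw [← pow_one a₀]
    rw [pow_eq_pow_iff_modEq, ha0]
    exact (ZMod.natCast_eq_natCast_iff _ _ _).1 (by push_cast; exact hj1)
  obtain ⟨hC', -⟩ := seven_facts hF m₀ (by rw [← hm0, pow_orderOf_eq_one])
    (fun e => by rw [e, orderOf_one] at hm0; omega)
  have h5 : 5 ∣ Nat.card (Subgroup.centralizer ({m₀} : Set (Cfsg.PSU 4 F 3))) := by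
    have hmem : a₀ ∈ Subgroup.centralizer ({m₀} : Set (Cfsg.PSU 4 F 3)) := by
      rw [Subgroup.mem_centralizer_singleton_iff]
      exact (mul_inv_eq_iff_eq_mul.1 hcomm).symm
    have h := orderOf_dvd_natCard (⟨a₀, hmem⟩ : Subgroup.centralizer ({m₀} : Set (Cfsg.PSU 4 F 3)))
    rwa [Subgroup.orderOf_mk, ha0] at h
  have h7 : 7 ∣ Nat.card (Subgroup.centralizer ({m₀} : Set (Cfsg.PSU 4 F 3))) := by
    have h := orderOf_dvd_natCard
      (⟨m₀, Subgroup.mem_centralizer_singleton_iff.2 rfl⟩ : Subgroup.centralizer ({m₀} : Set (Cfsg.PSU 4 F 3)))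
    rwa [Subgroup.orderOf_mk, hm0] at h
  have h35 := Nat.le_of_dvd Nat.card_pos (Nat.Coprime.mul_dvd_of_dvd_of_dvd (by norm_num) h5 h7)
  omega

/-- The bound over nine elements. -/
theorem psu_four_three (H : Subgroup (Cfsg.PSU 4 F 3)) (hH : H ≠ ⊤) : 112 ≤ H.index := by
  by_contra hlt
  push Not at hlt
  have h108 := psu_bound hF (n := 4) (fun K hK => four_three hF rfl K hK) hH
  have hd : H.index ∣ 3265920 := card_psu43 hF ▸ Subgroup.index_dvd_card H
  rcases Nat.lt_or_ge 108 H.index with h | h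
  · generalize H.index = n at *
    interval_cases n <;> norm_num at hd
  · exact no_index_108 hF H (le_antisymm h h108)

end CfsgLib.MinIdxPSU
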