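import Cfsg.Agent.MinIdxPSp.FourFive
import Mathlib.LinearAlgebra.Charpoly.Basic

/-!
Elements of order five in the symplectic group of dimension four over the field with three elements.
-/

set_option autoImplicit false
set_option linter.style.haveILetI false
set_option linter.unusedSectionVars false

namespace CfsgLib.MinIdxPSU.SpThree

open Matrix CfsgLib.Symp Polynomial
open scoped Classical

variable {F : Type*} [Field F] [Finite F]

local notation "V" => Fin 2 ⊕ Fin 2 → F
local notation "Sp" => Matrix.symplecticGroup (Fin 2) F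

/-- The linear map of an element. -/
def linOf : Matrix.symplecticGroup (Fin 2) F →* Module.End F (Fin 2 ⊕ Fin 2 → F) where
  toFun g :=
    { toFun := fun v => g • v
      map_add' := smul_add g
      map_smul' := fun c v => smul_comm g c v }
  map_one' := LinearMap.ext fun v => one_smul Sp v
  map_mul' := fun g h => LinearMap.ext fun v => mul_smul g h v

theorem linOf_apply (g : Sp) (v : V) : linOf g v = g • v := rfl

theorem linOf_injective : Function.Injective (linOf (F := F)) := fun _ _ h =>
  symp_ext fun v => LinearMap.congr_fun h v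

theorem finrank_four : Module.finrank F (Fin 2 ⊕ Fin 2 → F) = 4 := by
  rw [Module.finrank_fintype_fun_eq_card]; simp

theorem charP_three (h3 : Nat.card F = 3) : CharP F 3 := by
  haveI := Fintype.ofFinite F
  haveI : Fact (Nat.Prime 3) := ⟨Nat.prime_three⟩
  exact charP_of_card_eq_prime (by rw [← h3, Nat.card_eq_fintype_card])

theorem card_Sp_three (h3 : Nat.card F = 3) : Nat.card (Matrix.symplecticGroup (Fin 2) F) = 51840 := by
  rw [card_Sp, h3, Finset.prod_range_succ, Finset.prod_range_one]; norm_num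

variable {g : Matrix.symplecticGroup (Fin 2) F}

theorem invariant_cases (h3 : Nat.card F = 3) (hg : g ^ 5 = 1) (hg1 : g ≠ 1)
    (U : Submodule F (Fin 2 ⊕ Fin 2 → F)) (hU : ∀ v ∈ U, g • v ∈ U) : U = ⊥ ∨ U = ⊤ := by
  have hp : Nat.Prime 5 := by norm_num
  have hcard : ∀ U : Submodule F V, ∃ j ≤ 4, (U : Set V).ncard = 3 ^ j ∧ (j = 0 → U = ⊥) ∧ (j = 4 → U = ⊤) := by
    intro U
    refine ⟨Module.finrank F U, finrank_four (F := F) ▸ U.finrank_le, ?_,
      Submodule.finrank_eq_zero.1, fun e => Submodule.eq_top_of_finrank_eq (by rw [e, finrank_four])⟩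
    rw [← Nat.card_coe_set_eq, ← h3]
    exact Module.natCard_eq_pow_finrank
  let Fix : Submodule F V :=
    { carrier := {v | g • v = v}
      zero_mem' := smul_zero g
      add_mem' := fun {a b} (ha : g • a = a) (hb : g • b = b) => by
        change g • (a + b) = a + b; rw [smul_add, ha, hb]
      smul_mem' := fun c a (ha : g • a = a) => by change g • c • a = c • a; rw [smul_comm, ha] }
  have hfix : ∀ v : V, g • v = v → v = 0 := by
    have h := CfsgLib.MinIdxPSp.fix_count hp hg (Set.univ : Set V) fun v _ => Set.mem_univ _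
    rw [Set.ncard_univ, Nat.card_fun, Nat.card_sum, Nat.card_fin, h3] at h
    have e : {v ∈ (Set.univ : Set V) | g • v = v} = (Fix : Set V) := by ext v; simp [Fix]
    obtain ⟨j, hj, hc, h0, ht⟩ := hcard Fix
    rw [e, hc] at h
    interval_cases j
    · intro v hv
      exact (Submodule.eq_bot_iff _).1 (h0 rfl) v hv
    · exact absurd h (by decide)
    · exact absurd h (by decide)
    · exact absurd h (by decide)
    · exfalso
      refine hg1 (symp_ext fun v => ?_)
      rw [one_smul]
      exact (ht rfl ▸ Submodule.mem_top : v ∈ Fix)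
  have h := CfsgLib.MinIdxPSp.fix_count hp hg (U : Set V) hU
  have e : {v ∈ (U : Set V) | g • v = v} = {0} := by
    ext v
    exact ⟨fun hv => hfix v hv.2, fun hv => by rw [hv]; exact ⟨U.zero_mem, smul_zero g⟩⟩
  obtain ⟨j, hj, hc, h0, ht⟩ := hcard U
  rw [e, Set.ncard_singleton, hc] at h
  interval_cases j
  · exact Or.inl (h0 rfl)
  · exact absurd h (by decide)
  · exact absurd h (by decide)
  · exact absurd h (by decide)
  · exact Or.inr (ht rfl)

theorem commute_zero_or_inj (h3 : Nat.card F = 3) (hg : g ^ 5 = 1) (hg1 : g ≠ 1)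
    {ψ : Module.End F (Fin 2 ⊕ Fin 2 → F)} (hψ : ψ * linOf g = linOf g * ψ) : ψ = 0 ∨ Function.Injective ψ := by
  have hinv : ∀ v ∈ LinearMap.ker ψ, g • v ∈ LinearMap.ker ψ := fun v hv => by
    rw [LinearMap.mem_ker] at hv ⊢
    have := LinearMap.congr_fun hψ v
    simp only [Module.End.mul_apply, linOf_apply, hv, smul_zero] at this
    exact this
  rcases invariant_cases h3 hg hg1 _ hinv with e | e
  · exact Or.inr (LinearMap.ker_eq_bot.1 e)
  · exact Or.inl (LinearMap.ker_eq_top.1 e)

theorem form_aeval (h3 : Nat.card F = 3) (hg : g ^ 5 = 1) (p : F[X]) (x y : V) :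
    form (aeval (linOf g) p x) y = form x (aeval (linOf g) (p ^ 9) y) := by
  haveI := charP_three h3
  haveI : Fact (Nat.Prime 3) := ⟨Nat.prime_three⟩
  induction p using Polynomial.induction_on generalizing x y with
  | C a =>
    have ha : a ^ 9 = a := by
      haveI := Fintype.ofFinite F
      have h2 : a ^ 3 = a := by
        have h1 := FiniteField.pow_card a
        rwa [← Nat.card_eq_fintype_card, h3] at h1
      rw [show (9 : ℕ) = 3 * 3 from rfl, pow_mul, h2, h2]
    rw [← C_pow, ha, aeval_C, Module.algebraMap_end_apply, Module.algebraMap_end_apply, form_smul_left,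
      form_smul_right]
  | add p q hp hq =>
    rw [show (p + q) ^ 9 = p ^ 9 + q ^ 9 from add_pow_char_pow (p := 3) (n := 2) p q, map_add, map_add,
      LinearMap.add_apply, LinearMap.add_apply, form_add_left, form_add_right, hp, hq]
  | monomial n a ih =>
    have hinv : g ^ 9 = g⁻¹ :=
      eq_inv_of_mul_eq_one_left (by rw [← pow_succ, show 9 + 1 = 5 * 2 by rfl, pow_mul, hg, one_pow])
    rw [pow_succ X n, ← mul_assoc, mul_pow, map_mul, Module.End.mul_apply, ih, aeval_X, linOf_apply,
      map_mul (aeval (linOf g)) _ (X ^ 9), map_pow (aeval (linOf g)) X, aeval_X, ← map_pow, hinv]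
    rw [show ∀ z : V, form (g • x) z = form x (g⁻¹ • z) from fun z => by
      rw [← form_smul_smul g⁻¹ (g • x) z, inv_smul_smul]]
    have hc := LinearMap.congr_fun (show aeval (linOf g) ((C a * X ^ n) ^ 9) * linOf g⁻¹ =
      linOf g⁻¹ * aeval (linOf g) ((C a * X ^ n) ^ 9) by
        rw [← hinv, map_pow linOf, show linOf g ^ 9 = aeval (linOf g) (X ^ 9 : F[X]) by rw [map_pow, aeval_X],
          ← map_mul, ← map_mul, mul_comm]) y
    simp only [Module.End.mul_apply, linOf_apply] at hc ⊢
    rw [hc]

theorem aeval_comm (p : F[X]) : aeval (linOf g) p * linOf g = linOf g * aeval (linOf g) p := by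
  have h := map_mul (aeval (linOf g)) p X
  rw [aeval_X] at h
  rw [← h, mul_comm, map_mul, aeval_X]

theorem exists_poly (h3 : Nat.card F = 3) (hg : g ^ 5 = 1) (hg1 : g ≠ 1)
    {h : Matrix.symplecticGroup (Fin 2) F} (hh : h * g = g * h) :
    ∃ p : F[X], linOf h = aeval (linOf g) p := by
  obtain ⟨v, hv⟩ : ∃ v : V, v ≠ 0 := ⟨Pi.single (Sum.inl 0) 1, Pi.single_ne_zero_iff.mpr one_ne_zero⟩
  let U : Submodule F V := LinearMap.range ((LinearMap.applyₗ v).comp (aeval (R := F) (linOf g)).toLinearMap)
  have hUtop : U = ⊤ := by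
    refine (invariant_cases h3 hg hg1 U ?_).resolve_left fun e => hv ?_
    · rintro _ ⟨p, rfl⟩
      exact ⟨X * p, by simp [linOf_apply]⟩
    · exact (Submodule.eq_bot_iff _).1 e v ⟨1, by simp⟩
  obtain ⟨p, hp⟩ : linOf h v ∈ U := hUtop ▸ Submodule.mem_top
  simp only [LinearMap.comp_apply, AlgHom.toLinearMap_apply, LinearMap.applyₗ_apply_apply] at hp
  refine ⟨p, sub_eq_zero.1 ((commute_zero_or_inj h3 hg hg1 (ψ := linOf h - aeval (linOf g) p) ?_).resolve_right
    fun hinj => hv (hinj (by simp [hp])))⟩
  rw [sub_mul, mul_sub, ← map_mul, hh, map_mul, aeval_comm]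

theorem commute_pow (h3 : Nat.card F = 3) (hg : g ^ 5 = 1) (hg1 : g ≠ 1)
    {h : Matrix.symplecticGroup (Fin 2) F} (hh : h * g = g * h) : h ^ 10 = 1 := by
  obtain ⟨p, heq⟩ := exists_poly h3 hg hg1 hh
  refine linOf_injective ?_
  rw [map_pow, map_one, heq]
  refine LinearMap.ext fun y => ?_
  rw [Module.End.one_apply, ← sub_eq_zero]
  refine eq_zero_of_form_eq_zero fun x => ?_
  rw [← map_pow, pow_succ, map_mul, Module.End.mul_apply]
  have key : ∀ z : V, form z (aeval (linOf g) (p ^ 9) (aeval (linOf g) p y) - y) = 0 := fun z => by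
    rw [form_sub_right, ← form_aeval h3 hg, ← heq, linOf_apply, linOf_apply, form_smul_smul, sub_self]
  exact key x

/-- An element of order five commutes with at most ten elements. -/
theorem card_centralizer_le (h3 : Nat.card F = 3) (hg : g ^ 5 = 1) (hg1 : g ≠ 1) :
    Nat.card (Subgroup.centralizer ({g} : Set (Matrix.symplecticGroup (Fin 2) F))) ≤ 10 := by
  let K : Subalgebra F (Module.End F V) := (aeval (linOf g)).range
  letI : CommRing K :=
    { (inferInstance : Ring K) with
      mul_comm := by
        rintro ⟨_, a, rfl⟩ ⟨_, b, rfl⟩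
        exact Subtype.ext (show aeval (linOf g) a * aeval (linOf g) b = _ by
          rw [← map_mul, mul_comm, map_mul]; rfl) }
  haveI : NoZeroDivisors K := ⟨fun {a b} hab => by
    obtain ⟨_, p, rfl⟩ := a
    rcases commute_zero_or_inj h3 hg hg1 (ψ := aeval (linOf g) p) (aeval_comm p) with e | e
    · exact Or.inl (Subtype.ext e)
    · refine Or.inr (Subtype.ext (LinearMap.ext fun v => e ?_))
      have := LinearMap.congr_fun (congrArg Subtype.val hab) v
      simpa using this⟩
  haveI : Nontrivial K := ⟨⟨0, 1, fun e => by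
    obtain ⟨v, hv⟩ : ∃ v : V, v ≠ 0 := ⟨Pi.single (Sum.inl 0) 1, Pi.single_ne_zero_iff.mpr one_ne_zero⟩
    exact hv (LinearMap.congr_fun (congrArg Subtype.val e) v).symm⟩⟩
  haveI : IsDomain K := NoZeroDivisors.to_isDomain K
  set C := Subgroup.centralizer ({g} : Set Sp)
  have hmem : ∀ c : C, linOf (c : Sp) ∈ K := fun c => by
    obtain ⟨p, hp⟩ := exists_poly h3 hg hg1 (h := (c : Sp)) (Subgroup.mem_centralizer_singleton_iff.1 c.2)
    exact ⟨p, hp.symm⟩
  have hroot : ∀ c : C, (⟨linOf (c : Sp), hmem c⟩ : K) ∈ (Polynomial.nthRoots 10 (1 : K)).toFinset := fun c => by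
    rw [Multiset.mem_toFinset, Polynomial.mem_nthRoots (by norm_num)]
    refine Subtype.ext ?_
    change linOf (c : Sp) ^ 10 = 1
    rw [← map_pow, commute_pow h3 hg hg1 (Subgroup.mem_centralizer_singleton_iff.1 c.2), map_one]
  refine le_trans (Nat.card_le_card_of_injective
    (fun c : C => (⟨⟨linOf (c : Sp), hmem c⟩, hroot c⟩ : (Polynomial.nthRoots 10 (1 : K)).toFinset)) ?_) ?_
  · intro a b h
    exact Subtype.ext (linOf_injective (congrArg Subtype.val (congrArg Subtype.val h)))
  · rw [Nat.card_eq_fintype_card, Fintype.card_coe]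
    exact (Multiset.toFinset_card_le _).trans (Polynomial.card_nthRoots _ _)

end CfsgLib.MinIdxPSU.SpThree
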