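import Cfsg.Agent.MinIdxPSp.Centred
import Cfsg.Agent.MinIdxPSU.SpThreeFive
import Cfsg.Prelude.Def_Classical
import Mathlib.GroupTheory.Transfer
import Mathlib.GroupTheory.Sylow
import Mathlib.GroupTheory.IndexNormal
import Mathlib.Tactic.IntervalCases

/-!
The symplectic group of dimension four over three elements has no proper subgroup of index below 27.
-/

set_option autoImplicit false
set_option linter.style.haveILetI false
set_option linter.unusedSectionVars false

namespace CfsgLib.MinIdxPSU.SpThree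

open Matrix CfsgLib.Symp CfsgLib.MinIdxPSp
open scoped Classical Pointwise

/-- A subgroup of order at least 27 of a group of order 81 contains the commutators. -/
theorem commutator_mem_of_large {G : Type*} [Group G] [Finite G] {P Q : Subgroup G} (hQP : Q ≤ P)
    (hP : Nat.card P = 81) (hQ : 27 ≤ Nat.card Q) {x y : G} (hx : x ∈ P) (hy : y ∈ P) :
    x * y * x⁻¹ * y⁻¹ ∈ Q := by
  haveI : Fact (Nat.Prime 3) := ⟨Nat.prime_three⟩
  set R := Q.subgroupOf P
  have hR : Nat.card R = Nat.card Q := Nat.card_congr (Subgroup.subgroupOfEquivOfLe hQP).toEquiv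
  have hmul := R.card_mul_index
  rw [hR, hP] at hmul
  have hi : R.index = 1 ∨ R.index = 3 := by
    have hd : R.index ∣ 3 ^ 4 := ⟨Nat.card Q, by rw [mul_comm, hmul]; norm_num⟩
    obtain ⟨i, hi, he⟩ := (Nat.dvd_prime_pow Nat.prime_three).1 hd
    have : R.index ≤ 3 := by nlinarith
    rw [he] at this ⊢
    interval_cases i <;> simp_all
  suffices h : (⟨x, hx⟩ * ⟨y, hy⟩ * (⟨x, hx⟩ : P)⁻¹ * (⟨y, hy⟩ : P)⁻¹ : P) ∈ R from h
  rcases hi with h | h
  · rw [Subgroup.index_eq_one.1 h]; trivial
  · haveI : R.Normal := Subgroup.normal_of_index_eq_minFac_card (by rw [h, hP]; norm_num)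
    haveI : IsCyclic (P ⧸ R) := isCyclic_of_prime_card (p := 3) (by rw [← Subgroup.index_eq_card, h])
    rw [← QuotientGroup.eq_one_iff]
    simp only [QuotientGroup.mk_mul, QuotientGroup.mk_inv]
    rw [(IsCyclic.isMulCommutative (α := P ⧸ R)).is_comm.comm ((⟨x, hx⟩ : P) : P ⧸ R)]
    group

/-- An element of prime order five normalising a group of order nine centralises a non-trivial element of it. -/
theorem exists_commuting_nine {G : Type*} [Group G] [Finite G] {g : G} (hg : g ^ 5 = 1) (R : Subgroup G)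
    (hR : Nat.card R = 9) (hn : ∀ r ∈ R, g * r * g⁻¹ ∈ R) : ∃ r ∈ R, r ≠ 1 ∧ g * r = r * g := by
  have hsmul : ∀ y : G, MulAut.conj g • y = g * y * g⁻¹ := fun y => rfl
  have h := fix_count (α := G) (by norm_num : Nat.Prime 5) (g := MulAut.conj g) (by rw [← map_pow, hg, map_one])
    (R : Set G) fun y hy => by rw [hsmul]; exact hn y hy
  rw [show (R : Set G).ncard = 9 by rw [← hR, ← Nat.card_coe_set_eq]; rfl] at h
  by_contra hc
  push Not at hc
  have h1 : {y ∈ (R : Set G) | MulAut.conj g • y = y}.ncard ≤ 1 :=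
    (Set.ncard_le_ncard (t := {1}) fun y hy => by
      by_contra hy1
      exact hc y hy.1 hy1 (by
        have := hy.2
        rw [hsmul, mul_inv_eq_iff_eq_mul] at this
        exact this)).trans (le_of_eq (Set.ncard_singleton _))
  unfold Nat.ModEq at h
  omega

variable {F : Type*} [Field F] [Finite F] (h3 : Nat.card F = 3)

local notation "V" => Fin 2 ⊕ Fin 2 → F
local notation "Sp" => Matrix.symplecticGroup (Fin 2) F

/-- The root group of a vector. -/
def heis (v : V) : Set Sp := {g | ∃ a c, form v a = 0 ∧ g = sh v a * tv v c}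

theorem heis_mul {v : V} {g g' : Sp} (hg : g ∈ heis v) (hg' : g' ∈ heis v) : g * g' ∈ heis v := by
  obtain ⟨a, c, ha, rfl⟩ := hg
  obtain ⟨a', c', ha', rfl⟩ := hg'
  refine ⟨a + a', form a' a + (c + c'), by rw [form_add_right, ha, ha', add_zero], ?_⟩
  have h1 : Commute (tv v c) (sh v a') := sh_tv_comm ha' c
  have hs : form v (a + a') = 0 := by rw [form_add_right, ha, ha', add_zero]
  calc sh v a * tv v c * (sh v a' * tv v c') = sh v a * sh v a' * (tv v c * tv v c') := by
        rw [mul_assoc, ← mul_assoc (tv v c), h1.eq]; group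
    _ = tv v (form a' a) * sh v (a + a') * tv v (c + c') := by rw [sh_mul ha ha', tv_add]
    _ = sh v (a + a') * tv v (form a' a + (c + c')) := by
        rw [(sh_tv_comm hs _).eq, mul_assoc, tv_add]

include h3

theorem three_zero : (3 : F) = 0 := by
  haveI := charP_three h3
  exact_mod_cast CharP.cast_eq_zero F 3

theorem heis_cube {v : V} {g : Sp} (hg : g ∈ heis v) : g ^ 3 = 1 := by
  obtain ⟨a, c, ha, rfl⟩ := hg
  have h2 : form v (a + a) = 0 := by rw [form_add_right, ha, add_zero]
  rw [(sh_tv_comm ha c).symm.mul_pow, pow_succ, pow_two, sh_mul ha ha, form_self, tv_zero, one_mul, sh_mul h2 ha,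
    show form a (a + a) = 0 by rw [form_add_right, form_self, add_zero], tv_zero, one_mul,
    show a + a + a = (3 : F) • a by module, three_zero h3, zero_smul, sh_zero, one_mul, pow_succ, pow_two, tv_add,
    tv_add, show c + c + c = (3 : F) * c by ring, three_zero h3, zero_mul, tv_zero]

/-- A subgroup of order divisible by 27 contains a transvection group. -/
theorem exists_centre (H : Subgroup Sp) (h27 : 27 ∣ Nat.card H) : ∃ v : V, v ≠ 0 ∧ v ∈ Cen H := by
  haveI : Fact (Nat.Prime 3) := ⟨Nat.prime_three⟩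
  haveI : Finite Sp := Subtype.finite
  set v : V := Pi.single (Sum.inl 0) 1
  set a : V := Pi.single (Sum.inl 1) 1
  set a' : V := Pi.single (Sum.inr 1) 1
  have hv0 : v ≠ 0 := Pi.single_ne_zero_iff.mpr one_ne_zero
  have hva : form v a = 0 := by simp [v, a, form_single_inl]
  have hva' : form v a' = 0 := by simp [v, a', form_single_inl]
  have haa : form a a' = -1 := by simp [a, a', form_single_inl]
  have haa' : form a' a = 1 := by rw [form_swap, haa, neg_neg]
  let U : Subgroup Sp :=
    { carrier := heis v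
      one_mem' := ⟨0, 0, form_zero_right v, by rw [sh_zero, tv_zero, one_mul]⟩
      mul_mem' := fun hg hg' => heis_mul hg hg'
      inv_mem' := fun {g} hg => by
        have h := heis_mul hg hg
        rw [← pow_two] at h
        rwa [inv_eq_of_mul_eq_one_right (b := g ^ 2) (by rw [← pow_succ']; exact heis_cube h3 hg)] }
  have hUp : IsPGroup 3 U := fun g => ⟨1, Subtype.ext (by simpa using heis_cube h3 g.2)⟩
  obtain ⟨P₁, hP₁⟩ := hUp.exists_le_sylow
  obtain ⟨Q₀⟩ : Nonempty (Sylow 3 H) := inferInstance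
  set Q : Subgroup Sp := (Q₀ : Subgroup H).map H.subtype
  have hQc : Nat.card Q = Nat.card Q₀ :=
    (Nat.card_congr (Subgroup.equivMapOfInjective _ _ H.subtype_injective).toEquiv).symm
  have h27Q : 27 ≤ Nat.card Q := by
    rw [hQc]
    exact Nat.le_of_dvd Nat.card_pos (by
      have := Q₀.pow_dvd_card_of_pow_dvd_card (n := 3) h27
      exact this)
  obtain ⟨P, hP⟩ := (Q₀.2.map H.subtype).exists_le_sylow
  obtain ⟨x, hx⟩ := MulAction.exists_smul_eq Sp P₁ P
  have hP81 : Nat.card (P : Subgroup Sp) = 81 := by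
    rw [P.card_eq_multiplicity, card_Sp_three h3, show (51840 : ℕ) = 3 ^ 4 * 640 by rfl,
      Nat.factorization_mul (by norm_num) (by norm_num), Finsupp.add_apply,
      Nat.Prime.factorization_pow Nat.prime_three, Finsupp.single_eq_same,
      Nat.factorization_eq_zero_of_not_dvd (by norm_num : ¬ 3 ∣ 640)]
    rfl
  have hconj : ∀ u ∈ (U : Subgroup Sp), x * u * x⁻¹ ∈ (P : Subgroup Sp) := fun u hu => by
    rw [← hx, Sylow.coe_subgroup_smul]
    exact Subgroup.smul_mem_pointwise_smul u (MulAut.conj x) _ (hP₁ hu)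
  have ha : sh v a ∈ U := ⟨a, 0, hva, by rw [tv_zero, mul_one]⟩
  have ha' : sh v a' ∈ U := ⟨a', 0, hva', by rw [tv_zero, mul_one]⟩
  have hm := commutator_mem_of_large (Q := Q) hP hP81 h27Q (hconj _ ha) (hconj _ ha')
  have e : sh v a * sh v a' * (sh v a)⁻¹ * (sh v a')⁻¹ = tv v 2 := by
    have hs : form v (a' + a) = 0 := by rw [form_add_right, hva, hva', add_zero]
    rw [show sh v a * sh v a' * (sh v a)⁻¹ * (sh v a')⁻¹ =
        sh v a * sh v a' * (sh v a' * sh v a)⁻¹ by group, sh_mul hva hva', sh_mul hva' hva, haa, haa',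
      show a + a' = a' + a by abel, _root_.mul_inv_rev, mul_assoc, mul_inv_cancel_left, tv_inv, tv_add]
    norm_num
  have e' : x * sh v a * x⁻¹ * (x * sh v a' * x⁻¹) * (x * sh v a * x⁻¹)⁻¹ * (x * sh v a' * x⁻¹)⁻¹ =
      tv (x • v) 2 := by
    rw [← tv_conj, ← e]; group
  rw [e'] at hm
  obtain ⟨y, -, hy⟩ := Subgroup.mem_map.1 hm
  have h2H : tv (x • v) (2 : F) ∈ H := hy ▸ y.2
  refine ⟨x • v, fun h => hv0 (by rw [← inv_smul_smul x v, h, smul_zero]), fun c => ?_⟩
  haveI := charP_three h3
  haveI : Fact (Nat.Prime 3) := ⟨Nat.prime_three⟩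
  haveI := Fintype.ofFinite F
  obtain ⟨n, hn⟩ : ∃ n : ℕ, (n : F) * 2 = c := by
    have hb : Function.Bijective (ZMod.castHom (dvd_refl 3) F) := by
      rw [Fintype.bijective_iff_injective_and_card, ZMod.card, ← Nat.card_eq_fintype_card, h3]
      exact ⟨RingHom.injective _, rfl⟩
    obtain ⟨z, hz⟩ := hb.2 (2 * c)
    refine ⟨z.val, ?_⟩
    rw [ZMod.natCast_val, ← ZMod.castHom_apply (h := dvd_refl 3), hz]
    linear_combination c * three_zero h3
  have hp : ∀ k : ℕ, tv (x • v) ((k : F) * 2) ∈ H := fun k => by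
    induction k with
    | zero => rw [Nat.cast_zero, zero_mul, tv_zero]; exact one_mem H
    | succ k ih => rw [Nat.cast_succ, add_mul, one_mul, ← tv_add]; exact mul_mem ih h2H
  exact hn ▸ hp n

theorem not_small (H : Subgroup Sp) (hH : H ≠ ⊤) (hidx : H.index < 27) (hc : Subgroup.center Sp ≤ H) :
    False := by
  haveI : Finite Sp := Subtype.finite
  haveI : Fact (Nat.Prime 5) := ⟨by norm_num⟩
  haveI : Fact (Nat.Prime 3) := ⟨Nat.prime_three⟩
  haveI : Fact (Nat.Prime 2) := ⟨Nat.prime_two⟩
  have hmul := H.card_mul_index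
  rw [card_Sp_three h3] at hmul
  have h27 : ¬ 27 ∣ Nat.card H := fun h => by
    obtain ⟨v, hv0, hv⟩ := exists_centre h3 H h
    have hb := centred_bound (by omega) hH hv0 hv
    rw [Nat.card_fun, Nat.card_sum, Nat.card_fin, h3] at hb
    norm_num at hb
    omega
  have hcases : Nat.card H = 2880 ∨ Nat.card H = 5760 := by
    generalize H.index = k at hmul hidx
    interval_cases k <;> omega
  obtain ⟨P⟩ : Nonempty (Sylow 5 H) := inferInstance
  have hP : Nat.card (P : Subgroup H) = 5 := by
    rcases hcases with e | e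
    · rw [P.card_eq_multiplicity, e, show (2880 : ℕ) = 5 * 576 by rfl,
        Nat.factorization_mul (by norm_num) (by norm_num), Finsupp.add_apply,
        Nat.Prime.factorization_self (by norm_num), Nat.factorization_eq_zero_of_not_dvd (by norm_num)]
      rfl
    · rw [P.card_eq_multiplicity, e, show (5760 : ℕ) = 5 * 1152 by rfl,
        Nat.factorization_mul (by norm_num) (by norm_num), Finsupp.add_apply,
        Nat.Prime.factorization_self (by norm_num), Nat.factorization_eq_zero_of_not_dvd (by norm_num)]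
      rfl
  haveI : IsCyclic (P : Subgroup H) := isCyclic_of_prime_card hP
  obtain ⟨y, hy⟩ := IsCyclic.exists_generator (α := (P : Subgroup H))
  set g : H := y.1
  have hg5 : g ^ 5 = 1 := by
    have h := pow_card_eq_one' (x := y)
    rw [hP] at h
    exact congrArg Subtype.val h
  have hg1 : g ≠ 1 := by
    intro e
    have : ∀ z : (P : Subgroup H), z = 1 := fun z => by
      obtain ⟨k, rfl⟩ := Subgroup.mem_zpowers_iff.1 (hy z)
      rw [show y = 1 from Subtype.ext e, _root_.one_zpow]
    have h1 : Nat.card (P : Subgroup H) = 1 := Nat.card_eq_one_iff_exists.2 ⟨1, this⟩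
    omega
  have hgS5 : (g : Sp) ^ 5 = 1 := by
    simpa using congrArg Subtype.val hg5
  have hgS1 : (g : Sp) ≠ 1 := fun e => hg1 (Subtype.ext e)
  set N := Subgroup.normalizer ((P : Subgroup H) : Set H) with hNdef
  set C := Subgroup.centralizer ((P : Subgroup H) : Set H) with hCdef
  have hCg : C = Subgroup.centralizer ({g} : Set H) := by
    refine le_antisymm (Subgroup.centralizer_le (by simp [g])) fun c hc => ?_
    rw [Subgroup.mem_centralizer_singleton_iff] at hc
    rw [hCdef, Subgroup.mem_centralizer_iff]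
    intro p hp
    obtain ⟨k, hk⟩ := Subgroup.mem_zpowers_iff.1 (hy ⟨p, hp⟩)
    rw [show p = g ^ k from (congrArg Subtype.val hk).symm.trans (by simp [g])]
    exact (Commute.zpow_left (show Commute g c from hc.symm) k).eq
  obtain ⟨z, hz⟩ := exists_prime_orderOf_dvd_card' (G := Subgroup.center Sp) 2 (by
    rw [card_center, h3]; norm_num)
  have hC : Nat.card C = 10 := by
    rw [hCg]
    have hle : Nat.card (Subgroup.centralizer ({g} : Set H)) ≤ 10 := by
      refine le_trans (Nat.card_le_card_of_injective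
        (fun c => (⟨((c : H) : Sp), ?_⟩ : Subgroup.centralizer ({(g : Sp)} : Set Sp))) ?_)
        (card_centralizer_le h3 hgS5 hgS1)
      · rw [Subgroup.mem_centralizer_singleton_iff]
        exact congrArg Subtype.val (Subgroup.mem_centralizer_singleton_iff.1 c.2)
      · intro a b h
        exact Subtype.ext (Subtype.ext (congrArg Subtype.val h :))
    set zH : H := ⟨(z : Sp), hc z.2⟩
    have hzC : zH ∈ Subgroup.centralizer ({g} : Set H) := by
      rw [Subgroup.mem_centralizer_singleton_iff]
      exact Subtype.ext (Subgroup.mem_center_iff.1 z.2 (g : Sp)).symm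
    have h2 : 2 ∣ Nat.card (Subgroup.centralizer ({g} : Set H)) := by
      have h := orderOf_dvd_natCard (⟨zH, hzC⟩ : Subgroup.centralizer ({g} : Set H))
      rwa [Subgroup.orderOf_mk, ← Subgroup.orderOf_coe zH, show ((zH : H) : Sp) = (z : Sp) from rfl,
        Subgroup.orderOf_coe, hz] at h
    have h5 : 5 ∣ Nat.card (Subgroup.centralizer ({g} : Set H)) := by
      have h := orderOf_dvd_natCard
        (⟨g, Subgroup.mem_centralizer_singleton_iff.2 rfl⟩ : Subgroup.centralizer ({g} : Set H))
      rwa [Subgroup.orderOf_mk, orderOf_eq_prime hg5 hg1] at h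
    have h10 := Nat.Coprime.mul_dvd_of_dvd_of_dvd (by norm_num) h2 h5
    exact le_antisymm hle (Nat.le_of_dvd Nat.card_pos h10)
  have hCN : C ≤ N := by
    intro c hc
    rw [hNdef, Subgroup.mem_normalizer_iff]
    rw [hCdef, Subgroup.mem_centralizer_iff] at hc
    intro p
    constructor
    · intro hp; rw [← hc p hp, mul_inv_cancel_right]; exact hp
    · intro hp
      have := hc _ hp
      rw [show c * p * c⁻¹ * c = c * p by group] at this
      rwa [← mul_left_cancel this] at hp
  have hj : (C.subgroupOf N).index ∣ 4 := by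
    rw [hNdef, hCdef, ← Subgroup.normalizerMonoidHom_ker, Subgroup.index_ker]
    refine (Subgroup.card_subgroup_dvd_card _).trans ?_
    rw [IsCyclic.card_mulAut, hP]
    decide
  have hNc : Nat.card N = 10 * (C.subgroupOf N).index := by
    rw [← (C.subgroupOf N).card_mul_index, Nat.card_congr (Subgroup.subgroupOfEquivOfLe hCN).toEquiv, hC]
  have hn5 : Nat.card (Sylow 5 H) * Nat.card N = Nat.card H := by
    rw [show Nat.card (Sylow 5 H) = N.index from P.card_eq_index_normalizer, mul_comm, Subgroup.card_mul_index]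
  have hmod : Nat.card (Sylow 5 H) % 5 = 1 := by simpa [Nat.ModEq] using card_sylow_modEq_one 5 H
  obtain ⟨hcard, hj1⟩ : Nat.card H = 5760 ∧ (C.subgroupOf N).index = 1 := by
    rw [hNc] at hn5
    generalize (C.subgroupOf N).index = j at hj hn5
    have hj4 : j ≤ 4 := Nat.le_of_dvd (by norm_num) hj
    rcases hcases with e | e <;> rw [e] at hn5 ⊢ <;> interval_cases j <;> omega
  have hNC : N ≤ C := Subgroup.subgroupOf_eq_top.1 (Subgroup.index_eq_one.1 hj1)
  set K := (MonoidHom.transferSylow P hNC).ker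
  have hK : Nat.card K = 1152 := by
    have h1 := (MonoidHom.ker_transferSylow_isComplement' P hNC).card_mul_card
    rw [hP, hcard] at h1
    change Nat.card K * 5 = 5760 at h1
    omega
  haveI : K.Normal := MonoidHom.normal_ker _
  let σ : H →* MulAut K := MulAut.conjNormal
  obtain ⟨Q₀⟩ : Nonempty (Sylow 3 K) := inferInstance
  have hn3 : Nat.card (Sylow 3 K) % 5 ≠ 0 := by
    have h2 := Q₀.card_dvd_index
    have h3' := (Q₀ : Subgroup K).index_dvd_card
    rw [hK] at h3'
    have h := h2.trans h3'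
    intro h5
    exact absurd ((Nat.dvd_of_mod_eq_zero h5).trans h) (by norm_num)
  letI : MulAction H (Sylow 3 K) := MulAction.compHom _ σ
  have hfix := fix_count (α := Sylow 3 K) (by norm_num : Nat.Prime 5) hg5 Set.univ fun y _ => Set.mem_univ _
  obtain ⟨Q, -, hQ⟩ : {Q ∈ (Set.univ : Set (Sylow 3 K)) | g • Q = Q}.Nonempty := by
    refine Set.nonempty_of_ncard_ne_zero fun e => hn3 ?_
    rw [e, Set.ncard_univ] at hfix
    exact hfix.symm
  have hQc : Nat.card Q = 9 := by
    rw [Q.card_eq_multiplicity, hK, show (1152 : ℕ) = 3 ^ 2 * 128 by rfl,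
      Nat.factorization_mul (by norm_num) (by norm_num), Finsupp.add_apply,
      Nat.Prime.factorization_pow Nat.prime_three, Finsupp.single_eq_same,
      Nat.factorization_eq_zero_of_not_dvd (by norm_num : ¬ 3 ∣ 128)]
    rfl
  set R : Subgroup H := (Q : Subgroup K).map K.subtype
  have hR : Nat.card R = 9 := by
    rw [← hQc]; exact (Nat.card_congr (Subgroup.equivMapOfInjective _ _ K.subtype_injective).toEquiv).symm
  obtain ⟨r, hr, hr1, hcomm⟩ := exists_commuting_nine hg5 R hR fun r hr => by
    obtain ⟨k, hk, rfl⟩ := Subgroup.mem_map.1 hr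
    refine Subgroup.mem_map.2 ⟨σ g k, ?_, rfl⟩
    have h1 : σ g k ∈ ((σ g • Q : Sylow 3 K) : Subgroup K) := Subgroup.smul_mem_pointwise_smul k (σ g) _ hk
    rwa [show σ g • Q = Q from hQ] at h1
  apply hr1
  have h10 := commute_pow h3 hgS5 hgS1 (h := (r : Sp)) (congrArg Subtype.val hcomm.symm :)
  have h9 : r ^ 9 = 1 := by
    have h := pow_card_eq_one' (x := (⟨r, hr⟩ : R))
    rw [hR] at h
    exact congrArg Subtype.val h
  have h10' : r ^ 10 = 1 := Subtype.ext (by simpa using h10)
  rwa [pow_succ, h9, one_mul] at h10'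

/-- Every proper subgroup of the projective group has index at least 27. -/
theorem psp_bound (H : Subgroup (Cfsg.PSp 2 F)) (hH : H ≠ ⊤) : 27 ≤ H.index := by
  by_contra hlt
  push Not at hlt
  set π := QuotientGroup.mk' (Subgroup.center Sp)
  have hs : Function.Surjective π := QuotientGroup.mk'_surjective _
  refine not_small h3 (H.comap π)
    (fun e => hH (Subgroup.comap_injective hs (e.trans (Subgroup.comap_top _).symm)))
    (by rwa [Subgroup.index_comap_of_surjective _ hs]) fun z hz => ?_
  rw [Subgroup.mem_comap, show π z = 1 from (QuotientGroup.eq_one_iff _).2 hz]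
  exact one_mem H

end CfsgLib.MinIdxPSU.SpThree
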