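import Cfsg.Agent.MinIdxPSU.Dichotomy
import Cfsg.Agent.MinIdxPSU.Centres

/-!
Proper subgroups containing the complement and no non-trivial translation of the radical have large index.
-/

set_option autoImplicit false
set_option linter.style.haveILetI false
set_option linter.unusedSectionVars false

namespace CfsgLib.MinIdxPSU

open Matrix CfsgLib.Unitary CfsgLib.Forms
open scoped Classical

variable {F : Type*} [Field F] [Finite F] {q k : ℕ} (hF : Nat.card F = q ^ 2)
include hF

/-- The isotropic vectors not orthogonal to an isotropic vector span everything. -/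
theorem span_nonperp {n : ℕ} (hn : 2 ≤ n) {w : Fin n → F} (hw : w ≠ 0) (hww : Cfsg.hermForm n F q w w = 0) :
    Submodule.span F {x | Cfsg.hermForm n F q x x = 0 ∧ Cfsg.hermForm n F q x w ≠ 0} = ⊤ := by
  set S := Submodule.span F {x | Cfsg.hermForm n F q x x = 0 ∧ Cfsg.hermForm n F q x w ≠ 0} with hS
  obtain ⟨w', -, hww', hw'w, hw'⟩ := exists_partner hF (H := ⊥) (x := w) (by simpa using hw) hww
    (fun v hv => by rw [(Submodule.mem_bot F).mp hv]; simp [Cfsg.hermForm])
  obtain ⟨d, hd, hdS⟩ := exists_delta hF
  have hdq : d + d ^ q = 0 := hdS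
  have h1 : w' ∈ S := Submodule.subset_span ⟨hw', by rw [hw'w]; exact one_ne_zero⟩
  have h2 : w ∈ S := by
    have h : w' + d • w ∈ S := Submodule.subset_span ⟨by
      rw [herm_add_left, herm_add_right hF, herm_add_right hF, herm_smul_left, herm_smul_left,
        herm_smul_right hF, herm_smul_right hF, hw', hww, hww', hw'w]
      linear_combination hdq, by rw [herm_add_left, herm_smul_left, hww, hw'w]; simp⟩
    have h' := S.smul_mem d⁻¹ (S.sub_mem h h1)
    rwa [add_sub_cancel_left, smul_smul, inv_mul_cancel₀ hd, one_smul] at h'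
  refine Submodule.eq_top_iff'.2 fun x => ?_
  set z := x - Cfsg.hermForm n F q x w' • w - Cfsg.hermForm n F q x w • w' with hz
  have hzw : Cfsg.hermForm n F q z w = 0 := by
    simp only [hz, herm_sub_left hF, herm_smul_left, hww, hw'w]; ring
  have hzw' : Cfsg.hermForm n F q z w' = 0 := by
    simp only [hz, herm_sub_left hF, herm_smul_left, hw', hww']; ring
  obtain ⟨t, ht⟩ := exists_trace_eq hF (μ := -Cfsg.hermForm n F q z z)
    (by rw [← frobQ_apply hF, map_neg, frobQ_apply, herm_self_fixed hF])
  have hwz : Cfsg.hermForm n F q w z = 0 := by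
    rw [herm_swap hF z w, hzw, zero_pow (by have := two_le_q hF; omega)]
  have hw'z : Cfsg.hermForm n F q w' z = 0 := by
    rw [herm_swap hF z w', hzw', zero_pow (by have := two_le_q hF; omega)]
  have h3 : w' + t • w + z ∈ S := Submodule.subset_span ⟨by
    simp only [herm_add_left, herm_add_right hF, herm_smul_left, herm_smul_right hF, hw', hww, hww', hw'w, hzw,
      hzw', hwz, hw'z]
    linear_combination ht, by rw [herm_add_left, herm_add_left, herm_smul_left, hww, hw'w, hzw]; simp⟩
  have h4 : z ∈ S := by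
    have := S.sub_mem h3 (S.add_mem h1 (S.smul_mem t h2))
    rwa [add_sub_cancel_left] at this
  have : x = z + (Cfsg.hermForm n F q x w' • w + Cfsg.hermForm n F q x w • w') := by rw [hz]; abel
  rw [this]
  exact S.add_mem h4 (S.add_mem (S.smul_mem _ h2) (S.smul_mem _ h1))

theorem iso_span_top {n : ℕ} (hn : 2 ≤ n) :
    Submodule.span F {x : Fin n → F | Cfsg.hermForm n F q x x = 0} = ⊤ := by
  obtain ⟨w, hww, hvw⟩ := exists_iso_nonperp hF hn (v := (Pi.single ⟨0, by omega⟩ 1 : Fin n → F))
    (fun h => one_ne_zero (α := F) (by simpa using congrFun h ⟨0, by omega⟩))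
  have hw : w ≠ 0 := fun e => hvw (by rw [e]; simp [Cfsg.hermForm, zero_pow (show q ≠ 0 by have := two_le_q hF; omega)])
  rw [eq_top_iff, ← span_nonperp hF hn hw hww]
  exact Submodule.span_mono fun x hx => hx.1

/-- The hypotheses. -/
structure Over (H : Subgroup (G k F q)) : Prop where
  levi_mem : ∀ l : Cfsg.SU k F q, levi l ∈ H
  free : ∀ a : Fin k → F, ∀ z : Skew hF, zE hF z * vE hF a ∈ H → a = 0
  centre : ∃ z : Skew hF, zE hF z ∉ H
  ne_top : H ≠ ⊤

variable {H : Subgroup (G k F q)}

/-- The plane component. -/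
def plane (y : Fin (k + 1 + 1) → F) : Fin (k + 1 + 1) → F := y - emb (proj y)

theorem proj_plane (y : Fin (k + 1 + 1) → F) : proj (plane y) = 0 := by
  rw [plane, map_sub, proj_emb, sub_self]

theorem eq_emb_plane (y : Fin (k + 1 + 1) → F) : y = emb (proj y) + plane y := by rw [plane]; abel

theorem herm_emb_plane (a : Fin k → F) {u : Fin (k + 1 + 1) → F} (hu : proj u = 0) :
    Cfsg.hermForm (k + 1 + 1) F q (emb a) u = 0 ∧ Cfsg.hermForm (k + 1 + 1) F q u (emb a) = 0 := by
  rw [herm_emb_left hF, herm_emb_right hF, hu]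
  simp [Cfsg.hermForm, zero_pow (show q ≠ 0 by have := two_le_q hF; omega)]

theorem herm_parts (a b : Fin k → F) {u v : Fin (k + 1 + 1) → F} (hu : proj u = 0) (hv : proj v = 0) :
    Cfsg.hermForm (k + 1 + 1) F q (emb a + u) (emb b + v) =
      Cfsg.hermForm k F q a b + Cfsg.hermForm (k + 1 + 1) F q u v := by
  rw [herm_add_left, herm_add_right hF, herm_add_right hF, herm_emb hF, (herm_emb_plane hF a hv).1,
    (herm_emb_plane hF b hu).2]
  ring

theorem herm_zero_fst {n : ℕ} (y : Fin n → F) : Cfsg.hermForm n F q 0 y = 0 := by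
  simp [Cfsg.hermForm]

theorem emb_centred (hH : Over hF H) {w : Fin k → F} (hw : Cfsg.hermForm k F q w w = 0) :
    emb w ∈ Centred H := by
  refine (centred_iff hF (by rw [herm_emb hF, hw])).2 fun c hc => ?_
  have e : suTv (k + 1 + 1) (emb w) c (by rw [herm_emb hF, hw]) hc hF = levi (suTv k w c hw hc hF) := by
    refine su_ext fun y => ?_
    rw [levi_apply]
    change Cfsg.unitaryTransvection _ q (emb w) c *ᵥ y = Fin.cons (y 0) (Fin.cons (y 1)
      (Cfsg.unitaryTransvection k q w c *ᵥ proj y))
    rw [utv_mulVec, utv_mulVec, herm_emb_right hF]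
    conv_lhs => arg 1; rw [eq_cons y]
    funext i
    induction i using Fin.cases with
    | zero => simp [emb]
    | succ i => induction i using Fin.cases <;> simp [emb, proj]
  rw [e]
  exact hH.levi_mem _

theorem ev_not_centred (hH : Over hF H) : ev hF ∉ Centred H := by
  intro h
  obtain ⟨z, hz⟩ := hH.centre
  refine hz (h.2 _ (z : F) z.2 ?_)
  refine Matrix.ext_iff_smul.mpr fun y => ?_
  rw [Matrix.smul_eq_mulVec, Matrix.smul_eq_mulVec, zE_apply hF, utv_mulVec]

theorem centred_tv {p r : Fin (k + 1 + 1) → F} (hp : p ∈ Centred H) (hr : r ∈ Centred H) {c : F}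
    (hc : c + c ^ q = 0) : r + (c * Cfsg.hermForm (k + 1 + 1) F q r p) • p ∈ Centred H := by
  have h := centred_conj hF (hp.2 (suTv _ p c hp.1 hc hF) c hc rfl) hr
  rwa [show suMat (suTv _ p c hp.1 hc hF) *ᵥ r = _ from utv_mulVec p c r] at h

/-- The transitive move of the component orthogonal to the plane. -/
theorem centred_move (hH : Over hF H) (hk : 3 ≤ k) (h32 : ¬ (k = 3 ∧ q = 2)) {a b : Fin k → F}
    {u : Fin (k + 1 + 1) → F} (hu : proj u = 0) (ha : a ≠ 0) (hb : b ≠ 0)
    (hab : Cfsg.hermForm k F q b b = Cfsg.hermForm k F q a a) (h : emb a + u ∈ Centred H) :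
    emb b + u ∈ Centred H := by
  obtain ⟨l, hl⟩ : ∃ l : Cfsg.SU k F q, suMat l *ᵥ a = b := by
    by_cases h0 : Cfsg.hermForm k F q a a = 0
    · exact exists_SU_vec hF hk ha hb h0 (hab.trans h0)
    · obtain ⟨l, -, hl⟩ := conn_sphere hF (by omega) h32 h0 rfl hab
      exact ⟨l, hl⟩
  have h' := centred_conj hF (hH.levi_mem l) h
  rwa [Matrix.mulVec_add, levi_emb, hl, levi_fix l hu] at h'

theorem pts_le_of_fix {p : Fin (k + 1 + 1) → F} (hp : p ≠ 0) (hp0 : Cfsg.hermForm (k + 1 + 1) F q p p = 0)
    (hfix : ∀ g ∈ H, ∃ a : F, suMat g *ᵥ p = a • p) :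
    Nat.card (IsoPt (k + 1 + 1) F q) ≤ H.index := by
  haveI := isPretransitive (n := k + 1 + 1) hF
  rw [← MulAction.index_stabilizer_of_transitive (Cfsg.SU (k + 1 + 1) F q) (pt hF p hp hp0)]
  refine Nat.le_of_dvd (Nat.pos_of_ne_zero Subgroup.index_ne_zero_of_finite) (Subgroup.index_dvd_of_le fun g hg => ?_)
  rw [MulAction.mem_stabilizer_iff, smul_pt, pt_eq_iff]
  obtain ⟨a, ha⟩ := hfix g hg
  exact ⟨a, ha.symm⟩

theorem aniso_le_of_fix (hk : 3 ≤ k) {p : Fin (k + 1 + 1) → F} (hp0 : Cfsg.hermForm (k + 1 + 1) F q p p ≠ 0)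
    (hfix : ∀ g ∈ H, ∃ a : F, suMat g *ᵥ p = a • p) :
    numLen F q (k + 1 + 1) 1 ≤ (q + 1) * H.index := by
  haveI := Fintype.ofFinite F
  obtain ⟨c, hc⟩ := exists_length hF hp0 (one_pow q)
  set p1 := c • p
  have hc0 : c ≠ 0 := fun e => by
    simp only [p1, e, zero_smul] at hc
    simp [Cfsg.hermForm] at hc
  have hfix1 : ∀ g ∈ H, ∃ a : F, suMat g *ᵥ p1 = a • p1 := fun g hg => by
    obtain ⟨a, ha⟩ := hfix g hg
    exact ⟨a, by rw [Matrix.mulVec_smul, ha, smul_comm]⟩
  have hex : ∀ v : {v : Fin (k + 1 + 1) → F // Cfsg.hermForm (k + 1 + 1) F q v v = 1},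
      ∃ g : G k F q, suMat g *ᵥ p1 = v.1 := fun v => by
    obtain ⟨g, -, hg⟩ := conn_sphere hF (by omega) (fun h => by omega) one_ne_zero hc v.2
    exact ⟨g, hg⟩
  choose g hg using hex
  haveI : Fintype (G k F q ⧸ H) := Fintype.ofFinite _
  haveI := Fintype.ofFinite {v : Fin (k + 1 + 1) → F // Cfsg.hermForm (k + 1 + 1) F q v v = 1}
  rw [numLen, Subgroup.index_eq_card, Nat.card_eq_fintype_card, Nat.card_eq_fintype_card, ← Finset.card_univ,
    ← Finset.card_univ]
  refine Finset.card_le_mul_card_image_of_maps_to (f := fun v => ((g v : G k F q) : G k F q ⧸ H))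
    (fun _ _ => Finset.mem_univ _) _ fun b _ => ?_
  obtain ⟨g₀, rfl⟩ := QuotientGroup.mk_surjective b
  haveI : Finite {x : F // x ^ (q + 1) = 1} := inferInstance
  calc (Finset.univ.filter fun v => ((g v : G k F q) : G k F q ⧸ H) = g₀).card
      = Nat.card {v // ((g v : G k F q) : G k F q ⧸ H) = g₀} := by
        rw [Nat.card_eq_fintype_card, Fintype.card_subtype]
    _ ≤ Nat.card {x : F // x ^ (q + 1) = 1} := by
        have hv : ∀ v : {v // ((g v : G k F q) : G k F q ⧸ H) = g₀}, ∃ a : F,
            a ^ (q + 1) = 1 ∧ v.1.1 = a • (suMat g₀ *ᵥ p1) := fun v => by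
          obtain ⟨a, ha⟩ := hfix1 _ (QuotientGroup.eq.1 v.2.symm)
          have h1 : v.1.1 = a • (suMat g₀ *ᵥ p1) := by
            rw [← hg v.1, ← Matrix.mulVec_smul, ← ha, suMat_mul, ← Matrix.mulVec_mulVec]
            have := su_inv_mulVec g₀⁻¹ (suMat (g v.1) *ᵥ p1)
            rw [inv_inv] at this
            exact this.symm
          refine ⟨a, ?_, h1⟩
          have h2 := v.1.2
          rw [h1, herm_smul_left, herm_smul_right hF, su_preserves, hc, mul_one, ← pow_succ'] at h2
          exact h2
        choose a ha1 ha using hv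
        exact Nat.card_le_card_of_injective (fun v => (⟨a v, ha1 v⟩ : {x : F // x ^ (q + 1) = 1})) fun v w h =>
          Subtype.ext (Subtype.ext (by rw [ha v, ha w, Subtype.mk.inj h]))
    _ = q + 1 := card_norm_fiber hF one_ne_zero (one_pow q)

theorem index_of_split (hH : Over hF H) (hk : 3 ≤ k)
    (hsplit : ∀ v ∈ Centred H, proj v = 0 ∨ plane v = 0) : Nat.card (IsoPt (k + 1 + 1) F q) ≤ H.index := by
  have hq := two_le_q hF
  -- the complement is preserved
  have hW : ∀ g ∈ H, ∀ a : Fin k → F, plane (suMat g *ᵥ emb a) = 0 := by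
    intro g hg
    have hiso : ∀ w : Fin k → F, Cfsg.hermForm k F q w w = 0 → plane (suMat g *ᵥ emb w) = 0 := by
      intro w hw
      rcases eq_or_ne w 0 with rfl | hw0
      · simp [plane]
      rcases hsplit _ (centred_conj hF hg (emb_centred hF hH hw)) with h | h
      swap
      · exact h
      exfalso
      -- all neighbours go to the plane
      have himg : ∀ x : Fin k → F, proj (suMat g *ᵥ emb x) = 0 := by
        intro x
        have hx : x ∈ Submodule.span F {x | Cfsg.hermForm k F q x x = 0 ∧ Cfsg.hermForm k F q x w ≠ 0} := by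
          rw [span_nonperp hF (by omega) hw0 hw]; trivial
        induction hx using Submodule.span_induction with
        | mem x hx =>
          refine (hsplit _ (centred_conj hF hg (emb_centred hF hH hx.1))).resolve_right fun h' => hx.2 ?_
          rw [← herm_emb hF x w, ← su_preserves g]
          conv_lhs => rw [eq_emb_plane hF (suMat g *ᵥ emb x), h', add_zero]
          exact (herm_emb_plane hF _ h).1
        | zero => simp
        | add x y _ _ hx hy => rw [map_add, Matrix.mulVec_add, map_add, hx, hy, add_zero]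
        | smul c x _ hx => rw [map_smul, Matrix.mulVec_smul, map_smul, hx, smul_zero]
      let L : (Fin k → F) →ₗ[F] LinearMap.ker (proj (F := F) (k := k)) :=
        ((Matrix.toLin' (suMat g)).comp emb).codRestrict _ fun x => by
          rw [LinearMap.mem_ker, LinearMap.comp_apply, Matrix.toLin'_apply]; exact himg x
      have hL : Function.Injective L := fun x y h => by
        have h' : suMat g *ᵥ emb x = suMat g *ᵥ emb y := by
          have := congrArg Subtype.val h
          simpa [L] using this
        refine emb_injective ?_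
        rw [← su_inv_mulVec g (emb x), h', su_inv_mulVec]
      have h1 := LinearMap.finrank_le_finrank_of_injective hL
      have h2 := (proj (F := F) (k := k)).finrank_range_add_finrank_ker
      rw [LinearMap.range_eq_top.2 (fun a => ⟨emb a, proj_emb a⟩), finrank_top, Module.finrank_fin_fun,
        Module.finrank_fin_fun] at h2
      rw [Module.finrank_fin_fun] at h1
      omega
    intro a
    have ha : a ∈ Submodule.span F {x : Fin k → F | Cfsg.hermForm k F q x x = 0} := by
      rw [iso_span_top hF (by omega)]; trivial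
    induction ha using Submodule.span_induction with
    | mem x hx => exact hiso x hx
    | zero => simp [plane]
    | add x y _ _ hx hy =>
      rw [plane, map_add, Matrix.mulVec_add, map_add, map_add, add_sub_add_comm]
      rw [plane] at hx hy
      rw [hx, hy, add_zero]
    | smul c x _ hx =>
      rw [plane, map_smul, Matrix.mulVec_smul, map_smul, map_smul, ← smul_sub]
      rw [plane] at hx
      rw [hx, smul_zero]
  have hP : ∀ g ∈ H, proj (suMat g *ᵥ ev hF) = 0 := fun g hg => by
    by_contra h
    obtain ⟨u, hu⟩ : ∃ u, Cfsg.hermForm k F q u (proj (suMat g *ᵥ ev hF)) ≠ 0 := by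
      by_contra hc; push Not at hc; exact h (uForm_nondeg hF k _ hc)
    have hinv := eq_emb_plane hF (suMat g⁻¹ *ᵥ emb u)
    rw [hW _ (inv_mem hg), add_zero] at hinv
    refine hu ?_
    rw [← herm_emb_left hF u, ← su_preserves g⁻¹, su_inv_mulVec, hinv, herm_emb_ev hF]
  haveI := isPretransitive (n := k + 1 + 1) hF
  set p0 := pt hF (ev hF) (ev_ne_zero hF) (herm_ee (k := k) hF) with hp0
  set S := MulAction.stabilizer (Cfsg.SU (k + 1 + 1) F q) p0
  -- the orbit inside the plane
  have h1 : (H ⊓ S).relIndex H ≤ q + 1 := by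
    rw [Subgroup.inf_relIndex_left, show S.relIndex H = (MulAction.stabilizer H p0).index from rfl,
      MulAction.index_stabilizer, ← Nat.card_coe_set_eq]
    have hfv0 : ∀ t : Skew hF, (t : F) • ev hF + fv (k := k) hF ≠ 0 := fun t e => by
      have h := congrArg (fun y => Cfsg.hermForm (k + 1 + 1) F q y (ev hF)) e
      simp only [herm_add_left, herm_smul_left, herm_ee hF, herm_fe hF] at h
      simp [Cfsg.hermForm] at h
    have hiso : ∀ t : Skew hF, Cfsg.hermForm (k + 1 + 1) F q ((t : F) • ev hF + fv (k := k) hF)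
        ((t : F) • ev hF + fv hF) = 0 := fun t => by
      simp only [herm_add_left, herm_add_right hF, herm_smul_left, herm_smul_right hF, herm_ee hF, herm_ff hF,
        herm_ef hF, herm_fe hF]
      have ht : (t : F) + (t : F) ^ q = 0 := t.2
      linear_combination ht
    let f : Option (Skew hF) → IsoPt (k + 1 + 1) F q := fun o => o.elim p0 fun t =>
      pt hF ((t : F) • ev hF + fv hF) (hfv0 t) (hiso t)
    refine le_trans (Nat.card_le_card_of_injective (β := Set.range f) (fun x => ⟨x.1, ?_⟩)
      fun x y h => Subtype.ext (Subtype.mk.inj h)) ?_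
    · obtain ⟨g, hg⟩ := x.2
      obtain ⟨v, hv⟩ : ∃ v, v = suMat g.1 *ᵥ ev (k := k) hF := ⟨_, rfl⟩
      have hx : x.1 = pt hF (suMat g.1 *ᵥ ev hF) (su_mulVec_ne_zero _ (ev_ne_zero hF))
          (by rw [su_preserves, herm_ee hF]) := hg.symm.trans (smul_pt hF _ _ _)
      rw [hx]
      have hd := eq_plane hF (hP g.1 g.2)
      set a := Cfsg.hermForm (k + 1 + 1) F q (suMat g.1 *ᵥ ev hF) (fv hF)
      set b := Cfsg.hermForm (k + 1 + 1) F q (suMat g.1 *ᵥ ev hF) (ev hF)
      by_cases hb : b = 0
      · refine ⟨none, ?_⟩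
        change p0 = _
        rw [hp0, pt_eq_iff]
        have ha : a ≠ 0 := fun e => su_mulVec_ne_zero g.1 (ev_ne_zero hF) (by rw [hd, e, hb]; simp)
        refine ⟨a⁻¹, ?_⟩
        rw [hd, hb, zero_smul, add_zero, smul_smul, inv_mul_cancel₀ ha, one_smul]
      · have hab : a / b + (a / b) ^ q = 0 := by
          have h := su_preserves g.1 (ev (k := k) hF) (ev hF)
          rw [herm_ee hF, hd] at h
          simp only [herm_add_left, herm_add_right hF, herm_smul_left, herm_smul_right hF, herm_ee hF, herm_ff hF,
            herm_ef hF, herm_fe hF] at h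
          rw [div_pow, div_add_div _ _ hb (pow_ne_zero _ hb), div_eq_zero_iff]
          exact Or.inl (by linear_combination h)
        refine ⟨some ⟨a / b, hab⟩, ?_⟩
        change pt hF ((a / b) • ev hF + fv hF) (hfv0 ⟨a / b, hab⟩) (hiso ⟨a / b, hab⟩) = _
        rw [pt_eq_iff]
        refine ⟨b⁻¹, ?_⟩
        rw [hd, smul_add, smul_smul, smul_smul, inv_mul_cancel₀ hb, one_smul, ← div_eq_inv_mul]
    · haveI := Fintype.ofFinite (Skew hF)
      refine le_trans (Finite.card_range_le f) (le_of_eq ?_)
      rw [Nat.card_eq_fintype_card, Fintype.card_option, ← Nat.card_eq_fintype_card, (card_fix_skew hF).2]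
  have h2 : q ^ (2 * k) ≤ (H ⊓ S).relIndex S := by
    have hc : q ^ (2 * k) = Nat.card (Fin k → F) := by rw [Nat.card_fun, Nat.card_fin, hF, ← pow_mul]
    rw [hc, Subgroup.inf_relIndex_right]
    refine Nat.card_le_card_of_injective (β := S ⧸ H.subgroupOf S)
      (fun a => ((⟨vE hF a, MulAction.mem_stabilizer_iff.2 ?_⟩ : S) : S ⧸ H.subgroupOf S)) ?_
    · rw [hp0, smul_pt, pt_eq_iff]
      exact ⟨1, by rw [one_smul, vE, rad_apply hF, herm_ee hF, herm_ev_emb hF]; simp⟩
    · intro a b h
      have hm : (vE hF a)⁻¹ * vE hF b ∈ H := Subgroup.mem_subgroupOf.1 (QuotientGroup.eq.1 h)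
      obtain ⟨t, ht⟩ := vE_mul hF a (b - a)
      rw [add_sub_cancel] at ht
      have hab : (vE hF a)⁻¹ * vE hF b = zE hF (-t) * vE hF (b - a) := by
        rw [inv_mul_eq_iff_eq_mul, ← mul_assoc, ← zE_comm_vE hF, mul_assoc, ht, ← mul_assoc, ← zE_add,
          neg_add_cancel, zE_zero, one_mul]
      rw [hab] at hm
      exact (sub_eq_zero.1 (hH.free _ _ hm)).symm
  have e1 := Subgroup.relIndex_mul_index (inf_le_left : H ⊓ S ≤ H)
  have e2 := Subgroup.relIndex_mul_index (inf_le_right : H ⊓ S ≤ S)
  rw [MulAction.index_stabilizer_of_transitive] at e2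
  have h3 : q + 1 ≤ q ^ (2 * k) :=
    le_trans (show q + 1 ≤ q ^ 2 by nlinarith) (Nat.pow_le_pow_right (by omega) (by omega))
  have h4 : (q + 1) * Nat.card (IsoPt (k + 1 + 1) F q) ≤ (q + 1) * H.index :=
    le_trans (Nat.mul_le_mul_right _ (le_trans h3 h2)) (le_of_le_of_eq (le_trans (le_of_eq (e2.trans e1.symm))
      (Nat.mul_le_mul_right _ h1)) rfl)
  exact Nat.le_of_mul_le_mul_left h4 (by omega)

theorem perp_of_span {g : G k F q} (T : Set (Fin (k + 1 + 1) → F)) (hT : ∀ v ∈ T, suMat g⁻¹ *ᵥ v ∈ Submodule.span F T)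
    {x : Fin (k + 1 + 1) → F} (hx : ∀ v ∈ T, Cfsg.hermForm (k + 1 + 1) F q x v = 0) :
    ∀ v ∈ Submodule.span F T, Cfsg.hermForm (k + 1 + 1) F q (suMat g *ᵥ x) v = 0 := by
  have hx' : ∀ v ∈ Submodule.span F T, Cfsg.hermForm (k + 1 + 1) F q x v = 0 := fun v hv => by
    induction hv using Submodule.span_induction with
    | mem v hv => exact hx v hv
    | zero => simp [Cfsg.hermForm, zero_pow (show q ≠ 0 by have := two_le_q hF; omega)]
    | add a b _ _ ha hb => rw [herm_add_right hF, ha, hb, add_zero]
    | smul c a _ ha => rw [herm_smul_right hF, ha, mul_zero]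
  intro v hv
  have hv' : suMat g⁻¹ *ᵥ v ∈ Submodule.span F T := by
    induction hv using Submodule.span_induction with
    | mem v hv => exact hT v hv
    | zero => rw [Matrix.mulVec_zero]; exact zero_mem _
    | add a b _ _ ha hb => rw [Matrix.mulVec_add]; exact add_mem ha hb
    | smul c a _ ha => rw [Matrix.mulVec_smul]; exact Submodule.smul_mem _ c ha
  have h := su_inv_mulVec g⁻¹ v
  rw [inv_inv] at h
  rw [← h, su_preserves]
  exact hx' _ hv'

/-- Index of a proper overgroup of the complement. -/
theorem index_of_over (hH : Over hF H) (hk : 3 ≤ k) (h32 : ¬ (k = 3 ∧ q = 2)) :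
    Nat.card (IsoPt (k + 1 + 1) F q) ≤ H.index ∨ numLen F q (k + 1 + 1) 1 ≤ (q + 1) * H.index := by
  classical
  have hq := two_le_q hF
  by_cases hsplit : ∀ v ∈ Centred H, proj v = 0 ∨ plane v = 0
  · exact Or.inl (index_of_split hF hH hk hsplit)
  push Not at hsplit
  obtain ⟨v, hv, hv1, hv2⟩ := hsplit
  have hspanW : ∀ a : Fin k → F, emb a ∈ Submodule.span F (Centred H) := fun a => by
    have ha : a ∈ Submodule.span F {x : Fin k → F | Cfsg.hermForm k F q x x = 0} := by
      rw [iso_span_top hF (by omega)]; trivial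
    induction ha using Submodule.span_induction with
    | mem x hx => exact Submodule.subset_span (emb_centred hF hH hx)
    | zero => rw [map_zero]; exact zero_mem _
    | add x y _ _ hx hy => rw [map_add]; exact add_mem hx hy
    | smul c x _ hx => rw [map_smul]; exact Submodule.smul_mem _ c hx
  have hplaneSpan : ∀ v ∈ Centred H, plane v ∈ Submodule.span F (Centred H) := fun v hv => by
    rw [plane]; exact sub_mem (Submodule.subset_span hv) (hspanW _)
  have hT : ∀ g ∈ H, ∀ v ∈ Centred H, suMat g⁻¹ *ᵥ v ∈ Submodule.span F (Centred H) := fun g hg v hv =>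
    Submodule.subset_span (centred_conj hF (inv_mem hg) hv)
  have hperpW : ∀ y : Fin (k + 1 + 1) → F, (∀ a, Cfsg.hermForm (k + 1 + 1) F q y (emb a) = 0) → proj y = 0 := by
    intro y hy
    by_contra h
    obtain ⟨u, hu⟩ : ∃ u, Cfsg.hermForm k F q u (proj y) ≠ 0 := by
      by_contra hc; push Not at hc; exact h (uForm_nondeg hF k _ hc)
    refine hu ?_
    rw [herm_swap hF (proj y) u, ← herm_emb_right hF, hy u, zero_pow (by omega)]
  by_cases han : ∃ v ∈ Centred H, proj v ≠ 0 ∧ Cfsg.hermForm (k + 1 + 1) F q (plane v) (plane v) ≠ 0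
  · obtain ⟨v, hv, hv1, hu⟩ := han
    set u := plane v with hu'
    have hpu : proj u = 0 := proj_plane hF v
    set μ := Cfsg.hermForm (k + 1 + 1) F q u u
    have hlen : ∀ (w : Fin k → F) (c : F), Cfsg.hermForm (k + 1 + 1) F q (emb w + c • u) (emb w + c • u) =
        Cfsg.hermForm k F q w w + c * c ^ q * μ := fun w c => by
      rw [herm_parts hF w w (by rw [map_smul, hpu, smul_zero]) (by rw [map_smul, hpu, smul_zero]), herm_smul_left,
        herm_smul_right hF]
      ring
    -- all isotropic vectors of the hyperplane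
    have hhyp : ∀ (w : Fin k → F) (c : F), Cfsg.hermForm (k + 1 + 1) F q (emb w + c • u) (emb w + c • u) = 0 →
        emb w + c • u ∈ Centred H := by
      intro w c h
      by_cases hc : c = 0
      · subst hc
        rw [zero_smul, add_zero, herm_emb hF] at h
        rw [zero_smul, add_zero]
        exact emb_centred hF hH h
      · have hcv : c • v = emb (c • proj v) + c • u := by
          rw [map_smul, ← smul_add, hu', ← eq_emb_plane hF]
        have hcv' := centred_smul hF c hv
        rw [hcv] at hcv'
        have h1 := hcv'.1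
        rw [hlen] at h h1
        refine centred_move hF hH hk h32 (by rw [map_smul, hpu, smul_zero]) (smul_ne_zero hc hv1) ?_
          (by linear_combination h - h1) hcv'
        intro e
        rw [e] at h
        have : c * c ^ q * μ = 0 := by
          rw [show Cfsg.hermForm k F q (0 : Fin k → F) 0 = 0 by simp [Cfsg.hermForm]] at h
          linear_combination h
        exact hu ((mul_eq_zero.1 this).resolve_left (mul_ne_zero hc (pow_ne_zero _ hc)))
    -- the orthogonal vector in the plane
    obtain ⟨u'', hpu'', hu''u, hu''⟩ : ∃ u'', proj u'' = 0 ∧ Cfsg.hermForm (k + 1 + 1) F q u'' u = 0 ∧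
        Cfsg.hermForm (k + 1 + 1) F q u'' u'' ≠ 0 := by
      set a := Cfsg.hermForm (k + 1 + 1) F q u (fv hF) with ha
      set b := Cfsg.hermForm (k + 1 + 1) F q u (ev hF) with hb
      have hd := eq_plane hF hpu
      rw [← ha, ← hb] at hd
      refine ⟨a ^ q • ev hF - b ^ q • fv hF, by rw [map_sub, map_smul, map_smul, proj_ev hF, proj_fv hF]; simp, ?_, fun h => hu ?_⟩
      · conv_lhs => rw [hd]
        simp only [herm_sub_left hF, herm_add_right hF, herm_smul_left, herm_smul_right hF, herm_ee hF, herm_ff hF,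
          herm_ef hF, herm_fe hF]
        ring
      · change Cfsg.hermForm (k + 1 + 1) F q u u = 0
        rw [hd]
        simp only [herm_sub_left hF, herm_sub_right hF, herm_add_left, herm_add_right hF, herm_smul_left,
          herm_smul_right hF, herm_ee hF, herm_ff hF, herm_ef hF, herm_fe hF, pow_q_q hF] at h ⊢
        linear_combination -h
    have hchar : ∀ y, Cfsg.hermForm (k + 1 + 1) F q y u'' = 0 → ∃ c : F, y = emb (proj y) + c • u := by
      intro y hy
      set c := Cfsg.hermForm (k + 1 + 1) F q y u / μ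
      refine ⟨c, ?_⟩
      set d := plane y - c • u with hd
      have hd0 : proj d = 0 := by rw [map_sub, map_smul, proj_plane hF, hpu]; simp
      have hdu : Cfsg.hermForm (k + 1 + 1) F q d u = 0 := by
        rw [hd, herm_sub_left hF, herm_smul_left, plane, herm_sub_left hF, (herm_emb_plane hF _ hpu).1, sub_zero,
          div_mul_cancel₀ _ hu, sub_self]
      have huu'' : Cfsg.hermForm (k + 1 + 1) F q u u'' = 0 := by
        rw [herm_swap hF u'' u, hu''u, zero_pow (by omega)]
      have hdu'' : Cfsg.hermForm (k + 1 + 1) F q d u'' = 0 := by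
        rw [hd, herm_sub_left hF, herm_smul_left, plane, herm_sub_left hF, (herm_emb_plane hF _ hpu'').1, hy, huu'']
        ring
      have : d = 0 := by
        -- `u` and `u''` span the plane
        have hli : LinearIndependent F ![u, u''] := by
          rw [LinearIndependent.pair_iff]
          intro s t hst
          have h1 := congrArg (fun z => Cfsg.hermForm (k + 1 + 1) F q z u) hst
          have h2 := congrArg (fun z => Cfsg.hermForm (k + 1 + 1) F q z u'') hst
          simp only [herm_add_left, herm_smul_left, hu''u, huu'', herm_zero_fst hF, mul_zero, add_zero,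
            zero_add] at h1 h2
          exact ⟨(mul_eq_zero.1 (show s * μ = 0 from h1)).resolve_right hu,
            (mul_eq_zero.1 (show t * _ = 0 from h2)).resolve_right hu''⟩
        have hle : Submodule.span F (Set.range ![u, u'']) = LinearMap.ker (proj (F := F) (k := k)) := by
          refine Submodule.eq_of_le_of_finrank_le (Submodule.span_le.2 ?_) ?_
          · rintro _ ⟨i, rfl⟩
            fin_cases i
            · exact hpu
            · exact hpu''
          · rw [finrank_span_eq_card hli, Fintype.card_fin]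
            have h2 := (proj (F := F) (k := k)).finrank_range_add_finrank_ker
            rw [LinearMap.range_eq_top.2 (fun a => ⟨emb a, proj_emb a⟩), finrank_top, Module.finrank_fin_fun,
              Module.finrank_fin_fun] at h2
            omega
        obtain ⟨f, hf⟩ := (Submodule.mem_span_range_iff_exists_fun F).1
          (hle ▸ LinearMap.mem_ker.2 hd0 : d ∈ Submodule.span F (Set.range ![u, u'']))
        rw [Fin.sum_univ_two] at hf
        simp only [Matrix.cons_val_zero, Matrix.cons_val_one, Matrix.cons_val_fin_one] at hf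
        rw [← hf] at hdu hdu''
        simp only [herm_add_left, herm_smul_left, hu''u, huu'', mul_zero, add_zero, zero_add] at hdu hdu''
        rw [← hf, (mul_eq_zero.1 hdu).resolve_right hu, (mul_eq_zero.1 hdu'').resolve_right hu'', zero_smul,
          zero_smul, add_zero]
      rw [hd, sub_eq_zero] at this
      rw [← this, ← eq_emb_plane hF]
    by_cases hin : ∀ p ∈ Centred H, Cfsg.hermForm (k + 1 + 1) F q u'' p = 0
    · refine Or.inr (aniso_le_of_fix hF hk hu'' fun g hg => ?_)
      have hperp := perp_of_span hF (Centred H) (hT g hg) hin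
      have h1 : proj (suMat g *ᵥ u'') = 0 := hperpW _ fun a => hperp _ (hspanW a)
      have h2 : Cfsg.hermForm (k + 1 + 1) F q (suMat g *ᵥ u'') u = 0 := hperp _ (hplaneSpan v hv)
      set c := Cfsg.hermForm (k + 1 + 1) F q (suMat g *ᵥ u'') u'' / Cfsg.hermForm (k + 1 + 1) F q u'' u''
      refine ⟨c, sub_eq_zero.1 ?_⟩
      obtain ⟨c', hc'⟩ := hchar (suMat g *ᵥ u'' - c • u'')
        (by rw [herm_sub_left hF, herm_smul_left, div_mul_cancel₀ _ hu'', sub_self])
      rw [map_sub, map_smul, h1, hpu'', smul_zero, sub_zero, map_zero, zero_add] at hc'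
      have h3 := congrArg (fun z => Cfsg.hermForm (k + 1 + 1) F q z u) hc'
      simp only [herm_sub_left hF, herm_smul_left, h2, hu''u, mul_zero, sub_zero] at h3
      rw [hc', (mul_eq_zero.1 h3.symm).resolve_right hu, zero_smul]
    · exfalso
      push Not at hin
      obtain ⟨p, hp, hpu''p⟩ := hin
      refine hH.ne_top (centred_eq_top hF (by omega) (fun h => by omega) fun y hy => ?_)
      obtain ⟨c, hc⟩ := exists_length hF hu'' (one_pow q)
      set e0 : Fin (k + 1 + 1) → F := Pi.single 0 1 with he0
      have he00 : Cfsg.hermForm (k + 1 + 1) F q e0 e0 = 1 := by rw [he0, herm_single_left]; simp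
      obtain ⟨g, -, hg⟩ := conn_sphere hF (n := k + 1 + 1) (by omega) (fun h => by omega) one_ne_zero he00 hc
      set H' := H.map (MulAut.conj g⁻¹).toMonoidHom with hH'
      have hmem : ∀ z, z ∈ Centred H ↔ suMat g⁻¹ *ᵥ z ∈ Centred H' := by
        intro z
        have hgz := su_inv_mulVec g⁻¹ z
        rw [inv_inv] at hgz
        constructor
        · intro h
          refine ⟨by rw [su_preserves]; exact h.1, fun A c hc hA => ⟨g * A * g⁻¹, h.2 _ c hc ?_, by
            change g⁻¹ * (g * A * g⁻¹) * g⁻¹⁻¹ = A
            group⟩⟩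
          rw [← hgz]
          exact utv_conj g hA
        · intro h
          refine ⟨by rw [← su_preserves g⁻¹]; exact h.1, fun A c hc hA => ?_⟩
          obtain ⟨B, hB, hBA⟩ := h.2 (g⁻¹ * A * g) c hc (by
            have := utv_conj g⁻¹ hA
            rwa [inv_inv] at this)
          change g⁻¹ * B * g⁻¹⁻¹ = g⁻¹ * A * g at hBA
          rw [inv_inv, mul_left_inj, mul_right_inj] at hBA
          rwa [← hBA]
      rw [hmem]
      refine centred_step hF (m := k + 1) (by omega) (fun h => by omega) (fun w hw => ?_) ((hmem p).1 hp) ?_ _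
        (by rw [su_preserves, hy])
      · have hgx := su_inv_mulVec g (Fin.cons 0 w : Fin (k + 1 + 1) → F)
        rw [← hgx, ← hmem]
        set x := suMat g *ᵥ (Fin.cons 0 w : Fin (k + 1 + 1) → F)
        have hx0 : Cfsg.hermForm (k + 1 + 1) F q x x = 0 := by
          rw [su_preserves, herm_cons, hw, zero_mul, zero_add]
        have hxu : Cfsg.hermForm (k + 1 + 1) F q x u'' = 0 := by
          have h : Cfsg.hermForm (k + 1 + 1) F q x (c • u'') = 0 := by
            rw [← hg, su_preserves, he0, herm_swap hF (Pi.single 0 1), herm_single_left]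
            simp [zero_pow (show q ≠ 0 by omega)]
          rw [herm_smul_right hF] at h
          refine (mul_eq_zero.1 h).resolve_left (pow_ne_zero _ fun e => ?_)
          rw [e, zero_smul] at hc
          simp [Cfsg.hermForm] at hc
        obtain ⟨c', hc'⟩ := hchar x hxu
        rw [hc'] at hx0 ⊢
        exact hhyp _ _ hx0
      · intro h0
        apply hpu''p
        have h : Cfsg.hermForm (k + 1 + 1) F q (c • u'') p = 0 := by
          have hgp := su_inv_mulVec g⁻¹ p
          rw [inv_inv] at hgp
          rw [← hgp, ← hg, su_preserves, he0, herm_single_left, h0, zero_pow (by omega)]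
        rw [herm_smul_left] at h
        refine (mul_eq_zero.1 h).resolve_left fun e => ?_
        rw [e, zero_smul] at hc
        simp [Cfsg.hermForm] at hc
  · push Not at han
    set u := plane v with hu'
    have hpu : proj u = 0 := proj_plane hF v
    have huu : Cfsg.hermForm (k + 1 + 1) F q u u = 0 := han v hv hv1
    have hsum : ∀ p ∈ Centred H, proj p ≠ 0 → Cfsg.hermForm k F q (proj p) (proj p) = 0 := fun p hp hp1 => by
      have h := hp.1
      rw [eq_emb_plane hF p, herm_parts hF _ _ (proj_plane hF p) (proj_plane hF p), han p hp hp1, add_zero] at h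
      exact h
    by_cases hin : ∀ p ∈ Centred H, Cfsg.hermForm (k + 1 + 1) F q u p = 0
    · have hu0 : u ≠ 0 := hv2
      refine Or.inl (pts_le_of_fix hF hu0 huu fun g hg => ?_)
      have hperp := perp_of_span hF (Centred H) (hT g hg) hin
      have h1 : proj (suMat g *ᵥ u) = 0 := hperpW _ fun a => hperp _ (hspanW a)
      have h2 : Cfsg.hermForm (k + 1 + 1) F q (suMat g *ᵥ u) u = 0 := hperp _ (hplaneSpan v hv)
      -- vectors of the plane orthogonal to `u`
      set y := suMat g *ᵥ u
      have hdu := eq_plane hF hpu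
      have hdy := eq_plane hF h1
      set a := Cfsg.hermForm (k + 1 + 1) F q u (fv hF) with ha
      set b := Cfsg.hermForm (k + 1 + 1) F q u (ev hF) with hb
      set a' := Cfsg.hermForm (k + 1 + 1) F q y (fv hF) with ha'
      set b' := Cfsg.hermForm (k + 1 + 1) F q y (ev hF) with hb'
      rw [hdy, hdu] at h2
      rw [hdu] at huu
      simp only [herm_add_left, herm_add_right hF, herm_smul_left, herm_smul_right hF, herm_ee hF, herm_ff hF,
        herm_ef hF, herm_fe hF] at h2 huu
      by_cases hb0 : b = 0
      · have ha0 : a ≠ 0 := fun e => hu0 (by rw [hdu, e, hb0]; simp)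
        have hb'0 : b' = 0 := by
          rw [hb0, zero_pow (by omega)] at h2
          exact (mul_eq_zero.1 (show b' * a ^ q = 0 by linear_combination h2)).resolve_right (pow_ne_zero _ ha0)
        exact ⟨a' / a, by rw [hdy, hdu, hb0, hb'0, smul_add, smul_smul, smul_smul, div_mul_cancel₀ _ ha0]; simp⟩
      · refine ⟨b' / b, ?_⟩
        have : b' / b * a = a' := by
          rw [div_mul_eq_mul_div, div_eq_iff hb0]
          exact mul_right_cancel₀ (pow_ne_zero q hb0)
            (show b' * a * b ^ q = a' * b * b ^ q by linear_combination b' * huu - b * h2)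
        rw [hdy, hdu, smul_add, smul_smul, smul_smul, this, div_mul_cancel₀ _ hb0]
    · exfalso
      push Not at hin
      -- a second mixed element
      obtain ⟨p, hp, hp1, hpu'⟩ : ∃ p ∈ Centred H, proj p ≠ 0 ∧
          Cfsg.hermForm (k + 1 + 1) F q (plane p) u ≠ 0 := by
        obtain ⟨p, hp, hpu'⟩ := hin
        have hup : Cfsg.hermForm (k + 1 + 1) F q (plane p) u ≠ 0 := fun h => hpu' (by
          rw [eq_emb_plane hF p, herm_add_right hF, (herm_emb_plane hF _ hpu).2, zero_add,
            herm_swap hF (plane p) u, h, zero_pow (by omega)])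
        by_cases hp1 : proj p = 0
        · obtain ⟨d, hd, hdS⟩ := exists_delta hF
          have hpp : plane p = p := by rw [plane, hp1, map_zero, sub_zero]
          rw [hpp] at hup
          set c := d * Cfsg.hermForm (k + 1 + 1) F q v p
          have hproj : proj (v + c • p) = proj v := by rw [map_add, map_smul, hp1, smul_zero, add_zero]
          refine ⟨v + c • p, centred_tv hF hp hv hdS, by rwa [hproj], ?_⟩
          have hvp : Cfsg.hermForm (k + 1 + 1) F q v p ≠ 0 := by
            rw [eq_emb_plane hF v, herm_add_left, (herm_emb_plane hF _ hp1).1, zero_add]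
            intro h
            exact hup (by rw [herm_swap hF u p, h, zero_pow (by omega)])
          rw [plane, hproj, add_sub_right_comm, ← plane, ← hu', herm_add_left, herm_smul_left, huu, zero_add]
          exact mul_ne_zero (mul_ne_zero hd hvp) hup
        · exact ⟨p, hp, hp1, hup⟩
      set u' := plane p with hu2
      set κ := Cfsg.hermForm (k + 1 + 1) F q u' u with hκ
      have hpu2 : proj u' = 0 := proj_plane hF p
      obtain ⟨θ, hθ⟩ : ∃ θ : F, θ ^ q ≠ θ := by
        by_contra h; push Not at h; exact frobQ_ne_id hF (RingHom.ext h)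
      obtain ⟨d, hd, hdS⟩ := exists_delta hF
      obtain ⟨w', -, hww', hw'w, hw'⟩ := exists_partner hF (H := ⊥) (x := proj v) (by simpa using hv1) (hsum v hv hv1)
        (fun y hy => by rw [(Submodule.mem_bot F).mp hy]; simp [Cfsg.hermForm])
      set w2 := (θ * κ) • w' with hw2
      have hw20 : Cfsg.hermForm k F q w2 w2 = 0 := by rw [herm_smul_left, herm_smul_right hF, hw']; ring
      have hw2v : Cfsg.hermForm k F q w2 (proj v) = θ * κ := by rw [herm_smul_left, hw'w, mul_one]
      have hθκ : θ * κ ≠ 0 := mul_ne_zero (fun e => hθ (by rw [e, zero_pow (by omega)])) hpu'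
      have hr : emb w2 + u' ∈ Centred H := by
        refine centred_move hF hH hk h32 hpu2 hp1 (fun e => hθκ ?_) (by rw [hw20, hsum p hp hp1])
          (by rw [hu2, ← eq_emb_plane hF]; exact hp)
        rw [← hw2v, e]
        simp [Cfsg.hermForm]
      have hrv : Cfsg.hermForm (k + 1 + 1) F q (emb w2 + u') v = θ * κ + κ := by
        conv_lhs => rw [eq_emb_plane hF v, ← hu']
        rw [herm_parts hF _ _ hpu2 hpu, hw2v]
      have hr' := centred_tv hF hv hr hdS
      set β := d * Cfsg.hermForm (k + 1 + 1) F q (emb w2 + u') v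
      have hproj : proj (emb w2 + u' + β • v) = w2 + β • proj v := by
        rw [map_add, map_add, proj_emb, map_smul, hpu2, add_zero]
      have hproj0 : proj (emb w2 + u' + β • v) ≠ 0 := by
        rw [hproj]
        intro e
        apply hθκ
        have h := congrArg (fun z => Cfsg.hermForm k F q z (proj v)) e
        simp only [herm_add_left, herm_smul_left, hw2v, hsum v hv hv1, mul_zero, add_zero] at h
        rw [h]
        simp [Cfsg.hermForm]
      have hpl : plane (emb w2 + u' + β • v) = u' + β • u := by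
        rw [plane, hproj, map_add, map_smul, hu', plane]
        simp only [map_smul]
        module
      have h := han _ hr' hproj0
      rw [hpl, herm_add_left, herm_add_right hF, herm_add_right hF, herm_smul_left, herm_smul_left,
        herm_smul_right hF, herm_smul_right hF, huu, han p hp hp1, ← hκ,
        herm_swap hF u' u, ← hκ, show β = d * (θ * κ + κ) by rw [← hrv]] at h
      have e1 : (d * (θ * κ + κ)) ^ q = d ^ q * (θ ^ q * κ ^ q + κ ^ q) := by
        rw [← frobQ_apply hF (d * (θ * κ + κ)), map_mul, map_add, map_mul, frobQ_apply, frobQ_apply, frobQ_apply]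
      have hdq : d + d ^ q = 0 := hdS
      rw [e1, show d ^ q = -d by linear_combination hdq] at h
      have h4 : d * (κ * κ ^ q) * (θ - θ ^ q) = 0 := by linear_combination h
      rcases mul_eq_zero.1 h4 with h5 | h5
      · exact mul_ne_zero hd (mul_ne_zero hpu' (pow_ne_zero _ hpu')) h5
      · exact hθ (sub_eq_zero.1 h5).symm

end CfsgLib.MinIdxPSU
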