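import Cfsg.Agent.Unitary.TransvectionClass
import Cfsg.Agent.Unitary.Commutators
import Cfsg.Agent.Geo.UnitEichler

/-!
The radical of the stabiliser of an isotropic point of the special unitary group of dimension `k + 2`, and the
complementary subgroup `SU k` acting on it.
-/

set_option autoImplicit false
set_option linter.style.haveILetI false
set_option linter.unusedSectionVars false

namespace CfsgLib.MinIdxPSU

open Matrix CfsgLib.Unitary CfsgLib.Forms

variable {F : Type*} [Field F] [Finite F] {q k : ℕ}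

/-- The special unitary group in dimension `k + 2`. -/
abbrev G (k : ℕ) (F : Type*) [Field F] (q : ℕ) : Type _ := ↥(Cfsg.SU (k + 1 + 1) F q)

omit [Finite F] in
/-- Vectors with vanishing first two coordinates. -/
def emb : (Fin k → F) →ₗ[F] (Fin (k + 1 + 1) → F) where
  toFun a := Fin.cons 0 (Fin.cons 0 a)
  map_add' a b := by
    funext i
    induction i using Fin.cases with
    | zero => simp
    | succ i => induction i using Fin.cases <;> simp
  map_smul' c a := by
    funext i
    induction i using Fin.cases with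
    | zero => simp
    | succ i => induction i using Fin.cases <;> simp

omit [Finite F] in
/-- The last `k` coordinates. -/
def proj : (Fin (k + 1 + 1) → F) →ₗ[F] (Fin k → F) where
  toFun y := Fin.tail (Fin.tail y)
  map_add' _ _ := rfl
  map_smul' _ _ := rfl

omit [Finite F] in
theorem proj_emb (a : Fin k → F) : proj (emb a) = a := by
  funext i; rfl

omit [Finite F] in
theorem emb_injective : Function.Injective (emb (F := F) (k := k)) :=
  Function.LeftInverse.injective proj_emb

omit [Finite F] in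
theorem herm_plane (x0 x1 y0 y1 : F) (a b : Fin k → F) :
    Cfsg.hermForm (k + 1 + 1) F q (Fin.cons x0 (Fin.cons x1 a)) (Fin.cons y0 (Fin.cons y1 b)) =
      x0 * y0 ^ q + (x1 * y1 ^ q + Cfsg.hermForm k F q a b) := by
  rw [herm_cons, herm_cons]

omit [Finite F] in
theorem eq_cons (y : Fin (k + 1 + 1) → F) : y = Fin.cons (y 0) (Fin.cons (y 1) (proj y)) := by
  funext i
  induction i using Fin.cases with
  | zero => simp
  | succ i =>
    induction i using Fin.cases with
    | zero => simp [Fin.succ_zero_eq_one]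
    | succ i => rfl

variable (hF : Nat.card F = q ^ 2)
include hF

theorem herm_emb_left (a : Fin k → F) (y : Fin (k + 1 + 1) → F) :
    Cfsg.hermForm (k + 1 + 1) F q (emb a) y = Cfsg.hermForm k F q a (proj y) := by
  conv_lhs => rw [eq_cons y]
  change Cfsg.hermForm (k + 1 + 1) F q (Fin.cons 0 (Fin.cons 0 a)) _ = _
  rw [herm_plane]
  simp

theorem herm_emb_right (a : Fin k → F) (y : Fin (k + 1 + 1) → F) :
    Cfsg.hermForm (k + 1 + 1) F q y (emb a) = Cfsg.hermForm k F q (proj y) a := by
  have h0 : (0 : F) ^ q = 0 := zero_pow (by have := two_le_q hF; omega)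
  conv_lhs => rw [eq_cons y]
  change Cfsg.hermForm (k + 1 + 1) F q _ (Fin.cons 0 (Fin.cons 0 a)) = _
  rw [herm_plane]
  simp [h0]

theorem herm_emb (a b : Fin k → F) :
    Cfsg.hermForm (k + 1 + 1) F q (emb a) (emb b) = Cfsg.hermForm k F q a b := by
  rw [herm_emb_left hF, proj_emb]

theorem exists_plane :
    ∃ e f : Fin (k + 1 + 1) → F, proj e = 0 ∧ proj f = 0 ∧ Cfsg.hermForm (k + 1 + 1) F q e e = 0 ∧
      Cfsg.hermForm (k + 1 + 1) F q f f = 0 ∧ Cfsg.hermForm (k + 1 + 1) F q e f = 1 ∧
      ∀ y, proj y = 0 → y = Cfsg.hermForm (k + 1 + 1) F q y f • e + Cfsg.hermForm (k + 1 + 1) F q y e • f := by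
  classical
  haveI := Fintype.ofFinite F
  have hq := two_le_q hF
  have h0 : (0 : F) ^ q = 0 := zero_pow (by omega)
  have hm1 : (-1 : F) ^ q = -1 := by rw [← frobQ_apply hF, map_neg, map_one]
  have hcard := card_norm_fiber hF (μ := (-1 : F)) (neg_ne_zero.mpr one_ne_zero) hm1
  rw [Nat.card_eq_fintype_card] at hcard
  obtain ⟨⟨x, hx⟩, ⟨x', hx'⟩, hne⟩ := Fintype.one_lt_card_iff.mp
    (show 1 < Fintype.card {x : F // x ^ (q + 1) = -1} by omega)
  have hne' : x ≠ x' := fun e => hne (Subtype.ext e)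
  have hxx : x * x ^ q = -1 := by rw [← pow_succ', hx]
  have hxx' : x' * x' ^ q = -1 := by rw [← pow_succ', hx']
  have hd : 1 + x * x' ^ q ≠ 0 := fun h => hne' (by
    have h1 : x * x' ^ q = x' * x' ^ q := by rw [hxx']; linear_combination h
    exact mul_right_cancel₀ (fun e => by rw [e, mul_zero] at hxx'; exact neg_ne_zero.2 one_ne_zero hxx'.symm) h1)
  set c := ((1 + x * x' ^ q)⁻¹) ^ q
  have hc : c ^ q * (1 + x * x' ^ q) = 1 := by rw [pow_q_q hF, inv_mul_cancel₀ hd]
  set e : Fin (k + 1 + 1) → F := Fin.cons 1 (Fin.cons x 0) with he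
  set f : Fin (k + 1 + 1) → F := Fin.cons c (Fin.cons (c * x') 0) with hf
  have h00 : Cfsg.hermForm k F q (0 : Fin k → F) 0 = 0 := by simp [Cfsg.hermForm]
  have hee : Cfsg.hermForm (k + 1 + 1) F q e e = 0 := by rw [herm_plane, h00]; simp [hxx]
  have hff : Cfsg.hermForm (k + 1 + 1) F q f f = 0 := by
    rw [herm_plane, h00, mul_pow]
    linear_combination (c * c ^ q) * hxx'
  have hef : Cfsg.hermForm (k + 1 + 1) F q e f = 1 := by
    rw [herm_plane, h00, mul_pow]
    linear_combination hc
  have hfe : Cfsg.hermForm (k + 1 + 1) F q f e = 1 := by rw [herm_swap hF e f, hef, one_pow]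
  have he' : proj e = 0 := by funext i; rfl
  have hf' : proj f = 0 := by funext i; rfl
  refine ⟨e, f, he', hf', hee, hff, hef, fun y hy => sub_eq_zero.1 ?_⟩
  set d := y - (Cfsg.hermForm (k + 1 + 1) F q y f • e + Cfsg.hermForm (k + 1 + 1) F q y e • f) with hd'
  have hd0 : proj d = 0 := by rw [map_sub, map_add, map_smul, map_smul, he', hf', hy]; simp
  have hde : Cfsg.hermForm (k + 1 + 1) F q d e = 0 := by
    rw [hd', herm_sub_left hF, herm_add_left, herm_smul_left, herm_smul_left, hee, hfe]; ring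
  have hdf : Cfsg.hermForm (k + 1 + 1) F q d f = 0 := by
    rw [hd', herm_sub_left hF, herm_add_left, herm_smul_left, herm_smul_left, hef, hff]; ring
  have h1 : d 0 + d 1 * x ^ q = 0 := by
    rw [eq_cons d, hd0, he, herm_plane, h00] at hde
    simpa using hde
  have h2 : d 0 + d 1 * x' ^ q = 0 := by
    rw [eq_cons d, hd0, hf, herm_plane, h00, mul_pow] at hdf
    refine (mul_eq_zero.1 (show c ^ q * (d 0 + d 1 * x' ^ q) = 0 by linear_combination hdf)).resolve_left ?_
    exact fun e => by rw [e, zero_mul] at hc; exact zero_ne_one hc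
  have h3 : d 1 * (x ^ q - x' ^ q) = 0 := by linear_combination h1 - h2
  have hd1 : d 1 = 0 := (mul_eq_zero.1 h3).resolve_right fun h =>
    hne' (by rw [← pow_q_q hF x, sub_eq_zero.1 h, pow_q_q hF])
  have hd00 : d 0 = 0 := by rw [hd1, zero_mul, add_zero] at h1; exact h1
  rw [eq_cons d, hd0, hd1, hd00]
  funext i
  induction i using Fin.cases with
  | zero => simp
  | succ i => induction i using Fin.cases <;> simp

/-- An isotropic vector of the plane. -/
noncomputable def ev : Fin (k + 1 + 1) → F := (exists_plane (k := k) hF).choose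

/-- Its partner. -/
noncomputable def fv : Fin (k + 1 + 1) → F := (exists_plane (k := k) hF).choose_spec.choose

theorem proj_ev : proj (ev (k := k) hF) = 0 := (exists_plane (k := k) hF).choose_spec.choose_spec.1
theorem proj_fv : proj (fv (k := k) hF) = 0 := (exists_plane (k := k) hF).choose_spec.choose_spec.2.1
theorem herm_ee : Cfsg.hermForm (k + 1 + 1) F q (ev hF) (ev hF) = 0 :=
  (exists_plane (k := k) hF).choose_spec.choose_spec.2.2.1
theorem herm_ff : Cfsg.hermForm (k + 1 + 1) F q (fv hF) (fv hF) = 0 :=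
  (exists_plane (k := k) hF).choose_spec.choose_spec.2.2.2.1
theorem herm_ef : Cfsg.hermForm (k + 1 + 1) F q (ev hF) (fv hF) = 1 :=
  (exists_plane (k := k) hF).choose_spec.choose_spec.2.2.2.2.1
theorem herm_fe : Cfsg.hermForm (k + 1 + 1) F q (fv hF) (ev hF) = 1 := by
  rw [herm_swap hF (ev hF) (fv hF), herm_ef, one_pow]
theorem eq_plane {y : Fin (k + 1 + 1) → F} (hy : proj y = 0) :
    y = Cfsg.hermForm (k + 1 + 1) F q y (fv hF) • ev hF + Cfsg.hermForm (k + 1 + 1) F q y (ev hF) • fv hF :=
  (exists_plane (k := k) hF).choose_spec.choose_spec.2.2.2.2.2 y hy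

theorem ev_ne_zero : ev (k := k) hF ≠ 0 := fun h => by
  have := herm_ef (k := k) hF
  rw [h] at this
  simp [Cfsg.hermForm] at this

theorem herm_emb_ev (a : Fin k → F) : Cfsg.hermForm (k + 1 + 1) F q (emb a) (ev hF) = 0 := by
  rw [herm_emb_left hF, proj_ev hF]; simp [Cfsg.hermForm, zero_pow (show q ≠ 0 by have := two_le_q hF; omega)]

theorem herm_ev_emb (a : Fin k → F) : Cfsg.hermForm (k + 1 + 1) F q (ev hF) (emb a) = 0 := by
  rw [herm_emb_right hF, proj_ev hF]; simp [Cfsg.hermForm]

theorem herm_emb_fv (a : Fin k → F) : Cfsg.hermForm (k + 1 + 1) F q (emb a) (fv hF) = 0 := by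
  rw [herm_emb_left hF, proj_fv hF]; simp [Cfsg.hermForm, zero_pow (show q ≠ 0 by have := two_le_q hF; omega)]

theorem herm_fv_emb (a : Fin k → F) : Cfsg.hermForm (k + 1 + 1) F q (fv hF) (emb a) = 0 := by
  rw [herm_emb_right hF, proj_fv hF]; simp [Cfsg.hermForm]

/-- Decomposition along the plane and its complement. -/
theorem decompose (y : Fin (k + 1 + 1) → F) :
    y = emb (proj y) + (Cfsg.hermForm (k + 1 + 1) F q y (fv hF) • ev hF +
      Cfsg.hermForm (k + 1 + 1) F q y (ev hF) • fv hF) := by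
  have h := eq_plane hF (y := y - emb (proj y)) (by rw [map_sub, proj_emb, sub_self])
  rw [herm_sub_left hF, herm_sub_left hF, herm_emb_fv hF, herm_emb_ev hF, sub_zero, sub_zero] at h
  rw [← h]; abel

theorem ext_plane {g h : G k F q} (hW : ∀ a, suMat g *ᵥ emb a = suMat h *ᵥ emb a)
    (he : suMat g *ᵥ ev hF = suMat h *ᵥ ev hF) (hf : suMat g *ᵥ fv hF = suMat h *ᵥ fv hF) : g = h :=
  su_ext fun y => by
    rw [decompose hF y]
    simp only [Matrix.mulVec_add, Matrix.mulVec_smul, hW, he, hf]

/-! ### The radical -/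

omit [Finite F] in
/-- The condition on the parameters of a radical element. -/
def HeisCond (q : ℕ) (a : Fin k → F) (s : F) : Prop := s + s ^ q + Cfsg.hermForm k F q a a = 0

theorem exists_heis (a : Fin k → F) : ∃ s : F, HeisCond q a s := by
  obtain ⟨t, ht⟩ := exists_trace_eq hF (μ := -Cfsg.hermForm k F q a a)
    (by rw [← frobQ_apply hF, map_neg, frobQ_apply, herm_self_fixed hF])
  exact ⟨t, by rw [HeisCond, ht, neg_add_cancel]⟩

theorem exists_rad (a : Fin k → F) (s : F) (h : HeisCond q a s) : ∃ A : G k F q, ∀ y, suMat A *ᵥ y =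
    y + Cfsg.hermForm (k + 1 + 1) F q y (ev hF) • emb a +
      (s * Cfsg.hermForm (k + 1 + 1) F q y (ev hF) - Cfsg.hermForm (k + 1 + 1) F q y (emb a)) • ev hF := by
  obtain ⟨A, hA, hAe⟩ := CfsgLib.Geo.UTv.exists_eich hF (herm_ee (k := k) hF) (herm_emb_ev hF a)
    (s := s) (by rw [herm_emb hF]; exact h)
  exact ⟨⟨⟨_, CfsgLib.Geo.mem_specialLinear.1 hA.2⟩, hA.1⟩, hAe⟩

/-- A radical element. -/
noncomputable def rad (a : Fin k → F) (s : F) (h : HeisCond q a s) : G k F q := (exists_rad hF a s h).choose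

theorem rad_apply {a : Fin k → F} {s : F} (h : HeisCond q a s) (y : Fin (k + 1 + 1) → F) :
    suMat (rad hF a s h) *ᵥ y = y + Cfsg.hermForm (k + 1 + 1) F q y (ev hF) • emb a +
      (s * Cfsg.hermForm (k + 1 + 1) F q y (ev hF) - Cfsg.hermForm (k + 1 + 1) F q y (emb a)) • ev hF :=
  (exists_rad hF a s h).choose_spec y

/-- The chosen parameter over a vector. -/
noncomputable def sec (a : Fin k → F) : F := (exists_heis hF a).choose

theorem sec_spec (a : Fin k → F) : HeisCond q a (sec hF a) := (exists_heis hF a).choose_spec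

/-- The chosen element over a vector. -/
noncomputable def vE (a : Fin k → F) : G k F q := rad hF a (sec hF a) (sec_spec hF a)

omit [Finite F] in
theorem heis_zero_iff (s : F) : HeisCond q (0 : Fin k → F) s ↔ s + s ^ q = 0 := by
  simp [HeisCond, Cfsg.hermForm]

/-- The skew scalars. -/
def Skew : AddSubgroup F where
  carrier := {s | s + s ^ q = 0}
  zero_mem' := by
    change (0 : F) + 0 ^ q = 0
    rw [zero_pow (by have := two_le_q hF; omega), add_zero]
  add_mem' := fun {a b} (ha : a + a ^ q = 0) (hb : b + b ^ q = 0) => by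
    change a + b + (a + b) ^ q = 0
    rw [← frobQ_apply hF (a + b), map_add, frobQ_apply, frobQ_apply]
    linear_combination ha + hb
  neg_mem' := fun {a} (ha : a + a ^ q = 0) => by
    change -a + (-a) ^ q = 0
    rw [← frobQ_apply hF (-a), map_neg, frobQ_apply]
    linear_combination -ha

theorem heis_of_skew (z : Skew hF) : HeisCond q (0 : Fin k → F) (z : F) :=
  (heis_zero_iff hF _).2 z.2

/-- The centre of the radical. -/
noncomputable def zE (z : Skew hF) : G k F q := rad hF 0 (z : F) (heis_of_skew hF z)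

theorem zE_apply (z : Skew hF) (y : Fin (k + 1 + 1) → F) :
    suMat (zE (k := k) hF z) *ᵥ y = y + ((z : F) * Cfsg.hermForm (k + 1 + 1) F q y (ev hF)) • ev hF := by
  rw [zE, rad_apply hF, map_zero]
  simp [Cfsg.hermForm, zero_pow (show q ≠ 0 by have := two_le_q hF; omega)]

theorem rad_mul {a b : Fin k → F} {s t : F} (hs : HeisCond q a s) (ht : HeisCond q b t)
    (hst : HeisCond q (a + b) (s + t - Cfsg.hermForm k F q b a)) :
    rad hF a s hs * rad hF b t ht = rad hF (a + b) _ hst := by
  refine su_ext fun y => ?_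
  rw [suMat_mul, ← Matrix.mulVec_mulVec, rad_apply hF, rad_apply hF, rad_apply hF, map_add]
  simp only [herm_add_left, herm_add_right hF, herm_smul_left, herm_ee hF, herm_emb_ev hF, herm_ev_emb hF,
    herm_emb hF, mul_zero, add_zero]
  module

theorem heis_mul {a b : Fin k → F} {s t : F} (hs : HeisCond q a s) (ht : HeisCond q b t) :
    HeisCond q (a + b) (s + t - Cfsg.hermForm k F q b a) := by
  unfold HeisCond at *
  rw [← frobQ_apply hF, map_sub, map_add, frobQ_apply, frobQ_apply, frobQ_apply, ← herm_swap hF b a,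
    herm_add_left, herm_add_right hF, herm_add_right hF]
  linear_combination hs + ht

theorem rad_congr {a b : Fin k → F} {s t : F} (hab : a = b) (hst : s = t) (hs : HeisCond q a s) :
    rad hF a s hs = rad hF b t (hst ▸ hab ▸ hs) := by subst hab; subst hst; rfl

theorem rad_eq {a : Fin k → F} {s : F} (hs : HeisCond q a s) :
    ∃ z : Skew hF, rad hF a s hs = zE hF z * vE hF a := by
  have hz : s - sec hF a ∈ Skew hF := by
    change s - sec hF a + (s - sec hF a) ^ q = 0
    rw [← frobQ_apply hF (s - sec hF a), map_sub, frobQ_apply, frobQ_apply]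
    have h1 : s + s ^ q + Cfsg.hermForm k F q a a = 0 := hs
    have h2 : sec hF a + sec hF a ^ q + Cfsg.hermForm k F q a a = 0 := sec_spec hF a
    linear_combination h1 - h2
  refine ⟨⟨_, hz⟩, su_ext fun y => ?_⟩
  rw [suMat_mul, ← Matrix.mulVec_mulVec, zE_apply hF, vE, rad_apply hF, rad_apply hF]
  simp only [herm_add_left, herm_smul_left, herm_ee hF, herm_emb_ev hF, mul_zero, add_zero]
  module

/-- The radical composes modulo its centre. -/
theorem vE_mul (a b : Fin k → F) : ∃ z : Skew hF, vE hF a * vE hF b = zE hF z * vE hF (a + b) := by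
  rw [vE, vE, rad_mul hF _ _ (heis_mul hF (sec_spec hF a) (sec_spec hF b))]
  exact rad_eq hF _

theorem zE_add (z w : Skew hF) : zE (k := k) hF (z + w) = zE hF z * zE hF w := by
  refine su_ext fun y => ?_
  rw [suMat_mul, ← Matrix.mulVec_mulVec, zE_apply hF, zE_apply hF, zE_apply hF, AddSubgroup.coe_add]
  simp only [herm_add_left, herm_smul_left, herm_ee hF, mul_zero, add_zero]
  module

theorem zE_zero : zE (k := k) hF (0 : Skew hF) = 1 :=
  su_ext fun y => by rw [zE_apply hF, suMat_one, Matrix.one_mulVec]; simp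

theorem zE_comm_vE (z : Skew hF) (a : Fin k → F) : zE hF z * vE hF a = vE hF a * zE hF z := by
  refine su_ext fun y => ?_
  simp only [suMat_mul, ← Matrix.mulVec_mulVec, zE_apply hF, vE, rad_apply hF, herm_add_left, herm_smul_left,
    herm_ee hF, herm_emb_ev hF, herm_ev_emb hF, mul_zero, add_zero]
  module

/-- The commutator of two elements over vectors. -/
theorem vE_comm (a b : Fin k → F) : ∃ z : Skew hF, (z : F) = Cfsg.hermForm k F q a b - Cfsg.hermForm k F q b a ∧
    vE hF a * vE hF b = zE hF z * (vE hF b * vE hF a) := by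
  refine ⟨⟨Cfsg.hermForm k F q a b - Cfsg.hermForm k F q b a, ?_⟩, rfl, su_ext fun y => ?_⟩
  · change _ + (_ : F) ^ q = 0
    rw [← frobQ_apply hF (_ - _), map_sub, frobQ_apply, frobQ_apply, ← herm_swap hF a b, ← herm_swap hF b a]
    ring
  · simp only [suMat_mul, ← Matrix.mulVec_mulVec, zE_apply hF, vE, rad_apply hF, herm_add_left, herm_smul_left,
      herm_ee hF, herm_emb_ev hF, herm_ev_emb hF, herm_emb hF, mul_zero, add_zero]
    module

omit hF in
/-- `SU k` on the last coordinates. -/
noncomputable def levi : Cfsg.SU k F q →* G k F q := suSucc.comp suSucc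

omit hF in
theorem levi_apply (l : Cfsg.SU k F q) (y : Fin (k + 1 + 1) → F) :
    suMat (levi l) *ᵥ y = Fin.cons (y 0) (Fin.cons (y 1) (suMat l *ᵥ proj y)) := by
  change suMat (suSucc (suSucc l)) *ᵥ y = _
  rw [suSucc_mulVec, suSucc_mulVec]
  rfl

omit hF in
theorem levi_emb (l : Cfsg.SU k F q) (a : Fin k → F) : suMat (levi l) *ᵥ emb a = emb (suMat l *ᵥ a) := by
  rw [levi_apply, proj_emb]
  rfl

omit hF in
theorem levi_fix (l : Cfsg.SU k F q) {y : Fin (k + 1 + 1) → F} (hy : proj y = 0) : suMat (levi l) *ᵥ y = y := by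
  rw [levi_apply, hy, Matrix.mulVec_zero]
  conv_rhs => rw [eq_cons y, hy]

theorem levi_rad (l : Cfsg.SU k F q) {a : Fin k → F} {s : F} (hs : HeisCond q a s)
    (hs' : HeisCond q (suMat l *ᵥ a) s) :
    levi l * rad hF a s hs * (levi l)⁻¹ = rad hF (suMat l *ᵥ a) s hs' := by
  rw [mul_inv_eq_iff_eq_mul]
  refine su_ext fun y => ?_
  simp only [suMat_mul, ← Matrix.mulVec_mulVec, rad_apply hF, Matrix.mulVec_add, Matrix.mulVec_smul, levi_emb,
    levi_fix l (proj_ev hF)]
  rw [← levi_emb l a]
  rw [su_preserves (levi l) y (emb a)]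
  rw [show Cfsg.hermForm (k + 1 + 1) F q (suMat (levi l) *ᵥ y) (ev hF) =
    Cfsg.hermForm (k + 1 + 1) F q y (ev hF) by
      conv_lhs => rw [← levi_fix l (proj_ev hF), su_preserves]]

theorem levi_vE (l : Cfsg.SU k F q) (a : Fin k → F) :
    ∃ z : Skew hF, levi l * vE hF a * (levi l)⁻¹ = zE hF z * vE hF (suMat l *ᵥ a) := by
  have hs' : HeisCond q (suMat l *ᵥ a) (sec hF a) := by
    have h := sec_spec hF a
    unfold HeisCond at *
    rwa [su_preserves]
  rw [vE, levi_rad hF l _ hs']
  exact rad_eq hF hs'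

theorem levi_zE (l : Cfsg.SU k F q) (z : Skew hF) : levi l * zE hF z * (levi l)⁻¹ = zE hF z := by
  rw [zE, levi_rad hF l _ (by rw [Matrix.mulVec_zero]; exact heis_of_skew hF z)]
  exact rad_congr hF (Matrix.mulVec_zero _) rfl _

/-- A transporter of the centre of the radical. -/
theorem conj_zE {g : G k F q} {lam : F} (hg : suMat g *ᵥ ev hF = lam • ev hF) (z w : Skew hF)
    (hw : (w : F) = (z : F) * (lam * lam ^ q)) : g * zE hF z * g⁻¹ = zE hF w := by
  rw [mul_inv_eq_iff_eq_mul]
  refine su_ext fun y => ?_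
  simp only [suMat_mul, ← Matrix.mulVec_mulVec, zE_apply hF, Matrix.mulVec_add, Matrix.mulVec_smul, hg, hw]
  rw [show Cfsg.hermForm (k + 1 + 1) F q y (ev hF) = lam ^ q * Cfsg.hermForm (k + 1 + 1) F q (suMat g *ᵥ y) (ev hF) by
    rw [← herm_smul_right hF, ← hg, su_preserves], smul_smul]
  congr 2
  ring

theorem exists_scale_ev {lam : F} (hlam : lam ≠ 0) (hk : 1 ≤ k) : ∃ g : G k F q, suMat g *ᵥ ev hF = lam • ev hF :=
  exists_SU_vec hF (by omega) (ev_ne_zero hF) (smul_ne_zero hlam (ev_ne_zero hF)) (herm_ee hF)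
    (by rw [herm_smul_left, herm_smul_right hF, herm_ee hF, mul_zero, mul_zero])

end CfsgLib.MinIdxPSU
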