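import Cfsg.Agent.MinIdxPSp.FourFive
import Cfsg.Agent.MinIdxPSU.Overgroup
import Mathlib.LinearAlgebra.Charpoly.Basic

/-!
Elements of order eleven in the special unitary group of dimension six over four elements.
-/

set_option autoImplicit false
set_option linter.style.haveILetI false
set_option linter.unusedSectionVars false

namespace CfsgLib.MinIdxPSU.Six

open Matrix CfsgLib.Unitary CfsgLib.Forms Polynomial
open scoped Classical

section generic

variable {k U : Type*} [Field k] [AddCommGroup U] [Module k U] {gU : Module.End k U}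

theorem zero_or_inj (hirr : ∀ W : Submodule k U, (∀ y ∈ W, gU y ∈ W) → W = ⊥ ∨ W = ⊤) {ψ : Module.End k U}
    (hψ : ψ * gU = gU * ψ) : ψ = 0 ∨ Function.Injective ψ := by
  rcases hirr (LinearMap.ker ψ) (fun v hv => by
    rw [LinearMap.mem_ker] at hv ⊢
    have := LinearMap.congr_fun hψ v
    rw [Module.End.mul_apply, Module.End.mul_apply, hv, map_zero] at this
    exact this) with e | e
  · exact Or.inr (LinearMap.ker_eq_bot.1 e)
  · exact Or.inl (LinearMap.ker_eq_top.1 e)

theorem aeval_commute (p : k[X]) : aeval gU p * gU = gU * aeval gU p := by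
  have h := map_mul (aeval gU) p X
  rw [aeval_X] at h
  rw [← h, mul_comm, map_mul, aeval_X]

theorem exists_aeval (hirr : ∀ W : Submodule k U, (∀ y ∈ W, gU y ∈ W) → W = ⊥ ∨ W = ⊤) {v : U} (hv : v ≠ 0)
    {ψ : Module.End k U} (hψ : ψ * gU = gU * ψ) : ∃ p : k[X], aeval gU p = ψ := by
  let R : Submodule k U := LinearMap.range ((LinearMap.applyₗ v).comp (aeval (R := k) gU).toLinearMap)
  have hR : R = ⊤ := by
    refine (hirr R ?_).resolve_left fun e => hv ?_
    · rintro _ ⟨p, rfl⟩
      exact ⟨X * p, by simp⟩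
    · exact (Submodule.eq_bot_iff _).1 e v ⟨1, by simp⟩
  obtain ⟨p, hp⟩ : ψ v ∈ R := hR ▸ Submodule.mem_top
  simp only [LinearMap.comp_apply, AlgHom.toLinearMap_apply, LinearMap.applyₗ_apply_apply] at hp
  exact ⟨p, (sub_eq_zero.1 ((zero_or_inj hirr (ψ := ψ - aeval gU p)
    (by rw [sub_mul, mul_sub, hψ, aeval_commute])).resolve_right fun h => hv (h (by simp [hp])))).symm⟩

/-- Commuting endomorphisms of an irreducible operator killed by one polynomial are at most its degree in number. -/
theorem card_le_degree (hirr : ∀ W : Submodule k U, (∀ y ∈ W, gU y ∈ W) → W = ⊥ ∨ W = ⊤) {v : U} (hv : v ≠ 0)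
    {ι : Type*} (e : ι → Module.End k U) (he : Function.Injective e) (hc : ∀ i, e i * gU = gU * e i)
    (P : k[X]) (hP : P ≠ 0) (hroot : ∀ i, aeval (e i) P = 0) : Nat.card ι ≤ P.natDegree := by
  let K : Subalgebra k (Module.End k U) := (aeval gU).range
  letI : CommRing K :=
    { (inferInstance : Ring K) with
      mul_comm := by
        rintro ⟨_, a, rfl⟩ ⟨_, b, rfl⟩
        exact Subtype.ext (show aeval gU a * aeval gU b = _ by rw [← map_mul, mul_comm, map_mul]; rfl) }
  haveI : NoZeroDivisors K := ⟨fun {a b} hab => by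
    obtain ⟨_, p, rfl⟩ := a
    rcases zero_or_inj hirr (aeval_commute (gU := gU) p) with e' | e'
    · exact Or.inl (Subtype.ext e')
    · refine Or.inr (Subtype.ext (LinearMap.ext fun v => e' ?_))
      have := LinearMap.congr_fun (congrArg Subtype.val hab) v
      simpa using this⟩
  haveI : Nontrivial K := ⟨⟨0, 1, fun e' => hv (LinearMap.congr_fun (congrArg Subtype.val e') v).symm⟩⟩
  haveI : IsDomain K := NoZeroDivisors.to_isDomain K
  have hmem : ∀ i, e i ∈ K := fun i => exists_aeval hirr hv (hc i)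
  have hne : P.map (algebraMap k K) ≠ 0 := (Polynomial.map_ne_zero_iff (algebraMap k K).injective).2 hP
  have hr : ∀ i, (⟨e i, hmem i⟩ : K) ∈ (P.map (algebraMap k K)).roots.toFinset := fun i => by
    rw [Multiset.mem_toFinset, mem_roots hne, IsRoot.def, eval_map_algebraMap]
    refine Subtype.ext ?_
    change K.val (aeval _ P) = 0
    rw [← aeval_algHom_apply]
    exact hroot i
  refine le_trans (Nat.card_le_card_of_injective
    (fun i => (⟨⟨e i, hmem i⟩, hr i⟩ : (P.map (algebraMap k K)).roots.toFinset))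
    fun a b h => he (congrArg Subtype.val (congrArg Subtype.val h))) ?_
  rw [Nat.card_eq_fintype_card, Fintype.card_coe]
  exact (Multiset.toFinset_card_le _).trans ((card_roots' _).trans natDegree_map_le)

end generic

variable {F : Type*} [Field F] [Finite F] (hF : Nat.card F = 2 ^ 2)

local notation "V" => Fin 6 → F

/-- The linear map of an element. -/
noncomputable def lin : Cfsg.SU 6 F 2 →* Module.End F (Fin 6 → F) where
  toFun g := Matrix.toLin' (suMat g)
  map_one' := by rw [suMat_one, Matrix.toLin'_one]; rfl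
  map_mul' g h := by rw [suMat_mul, Matrix.toLin'_mul]; rfl

theorem lin_apply (g : Cfsg.SU 6 F 2) (v : V) : lin g v = suMat g *ᵥ v := Matrix.toLin'_apply _ _

include hF

/-- The fixed line of an element of order eleven is anisotropic and its complement is irreducible. -/
theorem eleven_shape {g : Cfsg.SU 6 F 2} (hg : g ^ 11 = 1) (hg1 : g ≠ 1) :
    ∃ u : V, Cfsg.hermForm 6 F 2 u u ≠ 0 ∧ suMat g *ᵥ u = u ∧
      (∀ y : V, suMat g *ᵥ y = y → ∃ a : F, a • u = y) ∧
      ∀ W : Submodule F V, (∀ y ∈ W, Cfsg.hermForm 6 F 2 y u = 0) → (∀ y ∈ W, suMat g *ᵥ y ∈ W) →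
        W = ⊥ ∨ ∀ y : V, Cfsg.hermForm 6 F 2 y u = 0 → y ∈ W := by
  letI : MulAction (Cfsg.SU 6 F 2) V :=
    { smul := fun s v => suMat s *ᵥ v
      one_smul := fun v => by change suMat (1 : Cfsg.SU 6 F 2) *ᵥ v = v; rw [suMat_one, Matrix.one_mulVec]
      mul_smul := fun s t v => by
        change suMat (s * t) *ᵥ v = suMat s *ᵥ suMat t *ᵥ v
        rw [suMat_mul, Matrix.mulVec_mulVec] }
  have hp : Nat.Prime 11 := by norm_num
  have hcard : ∀ W : Submodule F V, (W : Set V).ncard = 4 ^ Module.finrank F W := fun W => by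
    rw [← Nat.card_coe_set_eq, show (4 : ℕ) = Nat.card F by rw [hF]; norm_num]
    exact Module.natCard_eq_pow_finrank
  let Fix : Submodule F V :=
    { carrier := {v | suMat g *ᵥ v = v}
      zero_mem' := Matrix.mulVec_zero _
      add_mem' := fun {a b} (ha : suMat g *ᵥ a = a) (hb : suMat g *ᵥ b = b) => by
        change suMat g *ᵥ (a + b) = a + b; rw [Matrix.mulVec_add, ha, hb]
      smul_mem' := fun c a (ha : suMat g *ᵥ a = a) => by
        change suMat g *ᵥ (c • a) = c • a; rw [Matrix.mulVec_smul, ha] }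
  have hFix1 : Module.finrank F Fix = 1 := by
    have h := CfsgLib.MinIdxPSp.fix_count hp hg (Set.univ : Set V) fun v _ => Set.mem_univ _
    have e : {v ∈ (Set.univ : Set V) | g • v = v} = (Fix : Set V) := by
      ext v; exact ⟨fun h => h.2, fun h => ⟨Set.mem_univ _, h⟩⟩
    rw [e, hcard, Set.ncard_univ, Nat.card_fun, Nat.card_fin, hF] at h
    have h6 : Module.finrank F Fix ≤ 6 := (Submodule.finrank_le _).trans (by rw [Module.finrank_fin_fun])
    have htop : Module.finrank F Fix ≠ 6 := fun e6 => hg1 (su_ext fun v => by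
      rw [suMat_one, Matrix.one_mulVec]
      exact (Submodule.eq_top_of_finrank_eq (S := Fix) (by rw [e6, Module.finrank_fin_fun]) ▸
        Submodule.mem_top : v ∈ Fix))
    generalize Module.finrank F Fix = j at h h6 htop
    interval_cases j <;> first | rfl | exact absurd rfl htop | exact absurd h (by decide)
  obtain ⟨⟨u, hu⟩, hu0, hspan⟩ := finrank_eq_one_iff'.1 hFix1
  have hu0' : u ≠ 0 := fun e => hu0 (Subtype.ext e)
  have hfix : ∀ y : V, suMat g *ᵥ y = y → ∃ a : F, a • u = y := fun y hy => by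
    obtain ⟨a, ha⟩ := hspan ⟨y, hy⟩
    exact ⟨a, congrArg Subtype.val ha⟩
  let f : V →ₗ[F] F :=
    { toFun := fun y => Cfsg.hermForm 6 F 2 y u
      map_add' := fun a b => by rw [herm_add_left]
      map_smul' := fun c a => by rw [herm_smul_left, RingHom.id_apply, smul_eq_mul] }
  set U := LinearMap.ker f
  have hU5 : Module.finrank F U = 5 := by
    have h1 := f.finrank_range_add_finrank_ker
    have h2 : Module.finrank F (LinearMap.range f) ≤ 1 :=
      (Submodule.finrank_le _).trans (le_of_eq (Module.finrank_self F))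
    have h3 : Module.finrank F U ≠ 6 := fun e6 => by
      have htop : U = ⊤ := Submodule.eq_top_of_finrank_eq (by rw [e6, Module.finrank_fin_fun])
      refine hu0' (uForm_nondeg hF 6 u fun y => ?_)
      have : y ∈ U := htop ▸ Submodule.mem_top
      exact this
    rw [Module.finrank_fin_fun] at h1
    have : Module.finrank F U + Module.finrank F (LinearMap.range f) = 6 := by rw [add_comm]; exact h1
    omega
  have hUinv : ∀ y ∈ U, g • y ∈ U := fun y hy => by
    change Cfsg.hermForm 6 F 2 (suMat g *ᵥ y) u = 0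
    rw [← show suMat g *ᵥ u = u from hu, su_preserves]
    exact hy
  have huu : Cfsg.hermForm 6 F 2 u u ≠ 0 := by
    intro h0
    have h := CfsgLib.MinIdxPSp.fix_count hp hg (U : Set V) hUinv
    have e : {v ∈ (U : Set V) | g • v = v} = (Fix : Set V) := by
      ext v
      refine ⟨fun h => h.2, fun hv => ⟨?_, hv⟩⟩
      obtain ⟨a, rfl⟩ := hfix v hv
      change Cfsg.hermForm 6 F 2 (a • u) u = 0
      rw [herm_smul_left, h0, mul_zero]
    rw [e, hcard, hcard, hU5, hFix1] at h
    exact absurd h (by decide)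
  refine ⟨u, huu, hu, hfix, fun W hWU hW => ?_⟩
  have hle : W ≤ U := hWU
  have h := CfsgLib.MinIdxPSp.fix_count hp hg (W : Set V) hW
  have e : {v ∈ (W : Set V) | g • v = v} = {0} := by
    ext v
    refine ⟨fun hv => ?_, fun hv => by rw [hv]; exact ⟨W.zero_mem, Matrix.mulVec_zero _⟩⟩
    obtain ⟨a, rfl⟩ := hfix v hv.2
    have h1 := hWU _ hv.1
    rw [herm_smul_left] at h1
    rw [(mul_eq_zero.1 h1).resolve_right huu, zero_smul]
    rfl
  rw [e, Set.ncard_singleton, hcard] at h
  have h5 : Module.finrank F W ≤ 5 := hU5 ▸ Submodule.finrank_mono hle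
  rcases (show Module.finrank F W = 0 ∨ Module.finrank F W = 5 by
    generalize Module.finrank F W = j at h h5
    interval_cases j <;> first | exact Or.inl rfl | exact Or.inr rfl | exact absurd h (by decide)) with hj | hj
  · exact Or.inl (Submodule.finrank_eq_zero.1 hj)
  · refine Or.inr fun y hy => ?_
    rw [Submodule.eq_of_le_of_finrank_eq hle (hj.trans hU5.symm)]
    exact hy

theorem adjoint_aeval {g : Cfsg.SU 6 F 2} (hg : g ^ 11 = 1) (p : F[X]) (x y : V) :
    Cfsg.hermForm 6 F 2 (aeval (lin g) p x) y = Cfsg.hermForm 6 F 2 x (aeval (lin g) (p ^ 32) y) := by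
  haveI := Fintype.ofFinite F
  haveI : Fact (Nat.Prime 2) := ⟨Nat.prime_two⟩
  haveI : CharP F 2 := CharTwo.of_one_ne_zero_of_two_eq_zero one_ne_zero (by
    have h := FiniteField.cast_card_eq_zero F
    rw [← Nat.card_eq_fintype_card, hF] at h
    exact mul_self_eq_zero.1 (show (2 : F) * 2 = 0 by rw [← h]; norm_num))
  induction p using Polynomial.induction_on generalizing x y with
  | C a =>
    have ha : (a ^ 32) ^ 2 = a := by
      have h1 := FiniteField.pow_card a
      rw [← Nat.card_eq_fintype_card, hF] at h1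
      norm_num at h1
      rw [← pow_mul, show 32 * 2 = 4 * 4 * 4 by rfl, pow_mul, pow_mul, h1, h1, h1]
    rw [← C_pow, aeval_C, aeval_C, Module.algebraMap_end_apply, Module.algebraMap_end_apply, herm_smul_left,
      herm_smul_right hF, ha]
  | add p q hp hq =>
    rw [show (p + q) ^ 32 = p ^ 32 + q ^ 32 from add_pow_char_pow (p := 2) (n := 5) p q, map_add, map_add,
      LinearMap.add_apply, LinearMap.add_apply, herm_add_left, herm_add_right hF, hp, hq]
  | monomial n a ih =>
    have hinv : g ^ 32 = g⁻¹ :=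
      eq_inv_of_mul_eq_one_left (by rw [← pow_succ, show 32 + 1 = 11 * 3 by rfl, pow_mul, hg, one_pow])
    rw [pow_succ X n, ← mul_assoc, mul_pow, map_mul, Module.End.mul_apply, ih, aeval_X, lin_apply,
      map_mul (aeval (lin g)) _ (X ^ 32), map_pow (aeval (lin g)) X, aeval_X, ← map_pow, hinv]
    have hmove : ∀ z : V, Cfsg.hermForm 6 F 2 (suMat g *ᵥ x) z = Cfsg.hermForm 6 F 2 x (suMat g⁻¹ *ᵥ z) :=
      fun z => by rw [← su_preserves g⁻¹ (suMat g *ᵥ x) z, su_inv_mulVec]
    rw [hmove]
    have hc := LinearMap.congr_fun (show aeval (lin g) ((C a * X ^ n) ^ 32) * lin g⁻¹ =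
      lin g⁻¹ * aeval (lin g) ((C a * X ^ n) ^ 32) by
        rw [← hinv, map_pow lin, show lin g ^ 32 = aeval (lin g) (X ^ 32 : F[X]) by rw [map_pow, aeval_X],
          ← map_mul, ← map_mul, mul_comm]) y
    simp only [Module.End.mul_apply, lin_apply] at hc ⊢
    rw [hc]

/-- The centraliser and the conjugates among the powers. -/
theorem eleven_facts {g : Cfsg.SU 6 F 2} (hg : g ^ 11 = 1) (hg1 : g ≠ 1) :
    Nat.card (Subgroup.centralizer ({g} : Set (Cfsg.SU 6 F 2))) ≤ 33 ∧
      {c | c ∈ Subgroup.zpowers g ∧ ∃ t : Cfsg.SU 6 F 2, c = t * g * t⁻¹}.ncard ≤ 6 := by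
  obtain ⟨u, huu, hgu, hfix, hirr⟩ := eleven_shape hF hg hg1
  let f : V →ₗ[F] F :=
    { toFun := fun y => Cfsg.hermForm 6 F 2 y u
      map_add' := fun a b => by rw [herm_add_left]
      map_smul' := fun c a => by rw [herm_smul_left, RingHom.id_apply, smul_eq_mul] }
  let U := LinearMap.ker f
  set C := Subgroup.centralizer ({g} : Set (Cfsg.SU 6 F 2))
  have hscal : ∀ c : C, ∃ a : F, a ≠ 0 ∧ suMat c.1 *ᵥ u = a • u := fun c => by
    have hc : c.1 * g = g * c.1 := Subgroup.mem_centralizer_singleton_iff.1 c.2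
    obtain ⟨a, ha⟩ := hfix (suMat c.1 *ᵥ u) (by
      rw [Matrix.mulVec_mulVec, ← suMat_mul, ← hc, suMat_mul, ← Matrix.mulVec_mulVec, hgu])
    refine ⟨a, fun e => huu ?_, ha.symm⟩
    rw [← su_preserves c.1, ← ha, e, zero_smul]
    simp [Cfsg.hermForm]
  have hinv : ∀ c : C, ∀ y ∈ U, lin c.1 y ∈ U := fun c y hy => by
    obtain ⟨a, ha0, ha⟩ := hscal c
    change Cfsg.hermForm 6 F 2 (lin c.1 y) u = 0
    have h := su_preserves c.1 y u
    rw [ha, herm_smul_right hF, show Cfsg.hermForm 6 F 2 y u = 0 from hy] at h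
    rw [lin_apply]
    exact (mul_eq_zero.1 h).resolve_left (pow_ne_zero _ ha0)
  let ρ : C →* Module.End F U :=
    { toFun := fun c => (lin c.1).restrict (hinv c)
      map_one' := LinearMap.ext fun y => Subtype.ext (by simp [LinearMap.restrict_apply])
      map_mul' := fun a b => LinearMap.ext fun y => Subtype.ext (by
        simp [LinearMap.restrict_apply, Module.End.mul_apply]) }
  have hρ : ∀ (c : C) (y : U), ((ρ c y : U) : V) = suMat c.1 *ᵥ (y : V) := fun c y => lin_apply _ _
  let gC : C := ⟨g, Subgroup.mem_centralizer_singleton_iff.2 rfl⟩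
  set gU := ρ gC
  have hres : ∀ (p : F[X]) (y : U), ((aeval gU p y : U) : V) = aeval (lin g) p (y : V) := by
    intro p
    induction p using Polynomial.induction_on with
    | C a => intro y; simp [Module.algebraMap_end_apply]
    | add p q hp hq => intro y; simp [hp, hq]
    | monomial n a ih =>
      intro y
      rw [pow_succ, ← mul_assoc, map_mul, map_mul (aeval (lin g)), aeval_X, aeval_X, Module.End.mul_apply,
        Module.End.mul_apply, ih, hρ, lin_apply]
  have hinj : Function.Injective ρ := by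
    rw [injective_iff_map_eq_one]
    intro c hc
    obtain ⟨a, -, ha⟩ := hscal c
    set κ := (a - 1) / Cfsg.hermForm 6 F 2 u u
    have hmat : suMat c.1 = Cfsg.unitaryTransvection 6 2 u κ := by
      refine Matrix.ext_iff_smul.mpr fun y => ?_
      rw [Matrix.smul_eq_mulVec, Matrix.smul_eq_mulVec, utv_mulVec]
      set b := Cfsg.hermForm 6 F 2 y u / Cfsg.hermForm 6 F 2 u u
      have hyU : y - b • u ∈ U := by
        change Cfsg.hermForm 6 F 2 (y - b • u) u = 0
        rw [herm_sub_left hF, herm_smul_left, div_mul_cancel₀ _ huu, sub_self]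
      have h1 := congrArg Subtype.val (LinearMap.congr_fun hc ⟨_, hyU⟩)
      rw [hρ] at h1
      change suMat c.1 *ᵥ (y - b • u) = y - b • u at h1
      rw [Matrix.mulVec_sub, Matrix.mulVec_smul, ha, sub_eq_iff_eq_add] at h1
      rw [h1, show κ * Cfsg.hermForm 6 F 2 y u = b * a - b by simp only [κ, b]; field_simp, smul_smul,
        sub_smul]
      abel
    have hdet := congrArg Matrix.det hmat
    rw [det_utv, show (suMat c.1).det = 1 from c.1.1.2, left_eq_add, mul_eq_zero, or_iff_left huu] at hdet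
    refine Subtype.ext (su_ext fun y => ?_)
    rw [hmat, hdet, utv_mulVec, zero_mul, zero_smul, add_zero]
    change y = suMat (1 : Cfsg.SU 6 F 2) *ᵥ y
    rw [suMat_one, Matrix.one_mulVec]
  have hU0 : ∃ v : U, v ≠ 0 := by
    obtain ⟨v, hv, hv0⟩ : ∃ v ∈ U, v ≠ 0 := by
      by_contra hcon
      push Not at hcon
      refine hg1 (congrArg Subtype.val (hinj (a₁ := gC) (a₂ := 1) (LinearMap.ext fun y => Subtype.ext ?_)))
      rw [hρ, hρ, hcon _ y.2, Matrix.mulVec_zero, Matrix.mulVec_zero]
    exact ⟨⟨v, hv⟩, fun e => hv0 (congrArg Subtype.val e)⟩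
  have hsub : ∀ W : Submodule F U, (∀ y ∈ W, gU y ∈ W) → W = ⊥ ∨ W = ⊤ := by
    intro W hW
    rcases hirr (W.map U.subtype) (by rintro _ ⟨y, -, rfl⟩; exact y.2)
      (by rintro _ ⟨y, hy, rfl⟩; exact ⟨gU y, hW y hy, hρ gC y⟩) with h | h
    · exact Or.inl (Submodule.map_injective_of_injective U.subtype_injective (h.trans (Submodule.map_bot _).symm))
    · refine Or.inr (eq_top_iff.2 fun y _ => ?_)
      obtain ⟨y', hy', he⟩ := h y y.2
      rwa [← Subtype.ext (a1 := y') (a2 := y) he]
  obtain ⟨v, hv⟩ := hU0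
  have hcg : ∀ c : C, ρ c * gU = gU * ρ c := fun c => by
    rw [← map_mul, ← map_mul]
    exact congrArg ρ (Subtype.ext (Subgroup.mem_centralizer_singleton_iff.1 c.2))
  have hnd : ∀ d : U, (∀ x : U, Cfsg.hermForm 6 F 2 (x : V) (d : V) = 0) → d = 0 := fun d hd => by
    refine Subtype.ext (uForm_nondeg hF 6 _ fun y => ?_)
    set b := Cfsg.hermForm 6 F 2 y u / Cfsg.hermForm 6 F 2 u u
    have hyU : y - b • u ∈ U := by
      change Cfsg.hermForm 6 F 2 (y - b • u) u = 0
      rw [herm_sub_left hF, herm_smul_left, div_mul_cancel₀ _ huu, sub_self]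
    have h1 := hd ⟨_, hyU⟩
    have h2 : Cfsg.hermForm 6 F 2 u (d : V) = 0 := by
      rw [herm_swap hF (d : V) u, show Cfsg.hermForm 6 F 2 (d : V) u = 0 from d.2, zero_pow two_ne_zero]
    rw [herm_sub_left hF, herm_smul_left, h2, mul_zero, sub_zero] at h1
    exact h1
  have hpow : ∀ c : C, aeval (ρ c) (X ^ 33 - Polynomial.C 1 : F[X]) = 0 := fun c => by
    obtain ⟨p, hp⟩ := exists_aeval hsub hv (hcg c)
    rw [map_one, map_sub, map_pow, aeval_X, map_one, sub_eq_zero, ← hp, ← map_pow, pow_succ, map_mul]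
    refine LinearMap.ext fun y => sub_eq_zero.1 (hnd _ fun x => ?_)
    rw [Module.End.mul_apply, Module.End.one_apply, Submodule.coe_sub, hres, herm_sub_right hF,
      ← adjoint_aeval hF hg, ← hres, hp, hρ, hρ, su_preserves, sub_self]
  constructor
  · refine (card_le_degree hsub hv ρ hinj hcg _ (X_pow_sub_C_ne_zero (by norm_num : 0 < 33) 1) hpow).trans ?_
    rw [natDegree_X_pow_sub_C]
  · set χp : F[X] := (lin g).charpoly
    set S := {c | c ∈ Subgroup.zpowers g ∧ ∃ t : Cfsg.SU 6 F 2, c = t * g * t⁻¹}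
    have hzC : ∀ c ∈ Subgroup.zpowers g, c ∈ C := fun c hc => by
      obtain ⟨k, rfl⟩ := Subgroup.mem_zpowers_iff.1 hc
      exact Subgroup.mem_centralizer_singleton_iff.2 (Commute.zpow_self g k).eq
    rw [← Nat.card_coe_set_eq]
    refine (card_le_degree hsub hv (fun c : S => ρ ⟨c.1, hzC c.1 c.2.1⟩)
      (fun a b h => Subtype.ext (congrArg Subtype.val (hinj h) :)) (fun c => hcg _) χp
      (LinearMap.charpoly_monic _).ne_zero fun c => ?_).trans ?_
    · obtain ⟨c, hc, t, ht⟩ := c
      have hsc : ∀ p : F[X], aeval (lin c) p * lin t = lin t * aeval (lin g) p := fun p => by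
        induction p using Polynomial.induction_on' with
        | add a b ha hb => rw [map_add, map_add, add_mul, mul_add, ha, hb]
        | monomial n a =>
          have hn : c ^ n * t = t * g ^ n := by rw [ht, conj_pow, inv_mul_cancel_right]
          rw [aeval_monomial, aeval_monomial, mul_assoc, ← map_pow lin, ← map_mul, hn, map_mul, map_pow lin,
            ← mul_assoc, Algebra.commutes, mul_assoc]
      have h1 := hsc χp
      rw [LinearMap.aeval_self_charpoly, mul_zero] at h1
      have h2 := congrArg (· * lin t⁻¹) h1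
      simp only [mul_assoc, ← map_mul, mul_inv_cancel, map_one, mul_one, zero_mul] at h2
      have hres' : ∀ (p : F[X]) (y : U), ((aeval (ρ ⟨c, hzC c hc⟩) p y : U) : V) = aeval (lin c) p (y : V) := by
        intro p
        induction p using Polynomial.induction_on with
        | C a => intro y; simp [Module.algebraMap_end_apply]
        | add p q hp hq => intro y; simp [hp, hq]
        | monomial n a ih =>
          intro y
          rw [pow_succ, ← mul_assoc, map_mul, map_mul (aeval (lin c)), aeval_X, aeval_X, Module.End.mul_apply,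
            Module.End.mul_apply, ih, hρ, lin_apply]
      refine LinearMap.ext fun y => Subtype.ext ?_
      change ((aeval (ρ ⟨c, hzC c hc⟩) χp y : U) : V) = _
      rw [hres', h2]
      rfl
    · rw [LinearMap.charpoly_natDegree, Module.finrank_fin_fun]

end CfsgLib.MinIdxPSU.Six
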