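import Cfsg.Agent.MinIdxPSU.SixTwoPts
import Cfsg.Agent.MinIdxPSU.SixEleven
import Mathlib.GroupTheory.Sylow
import Mathlib.Tactic.IntervalCases

/-!
The least index in dimension six over four elements.
-/

set_option autoImplicit false
set_option linter.style.haveILetI false
set_option linter.unusedSectionVars false

namespace CfsgLib.MinIdxPSU.Six

open Matrix CfsgLib.Unitary CfsgLib.Forms CfsgLib.MinIdxPSU
open scoped Classical

variable {F : Type*} [Field F] [Finite F] (hF : Nat.card F = 2 ^ 2)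
include hF

theorem card_SU_six : Nat.card (Cfsg.SU 6 F 2) = 27590492160 := by
  have h := card_SU_mul (F := F) (q := 2) hF (n := 6) (by norm_num)
  rw [card_GU hF 6] at h
  simp [Finset.prod_range_succ, Nat.even_iff] at h
  omega

/-- The centre lies in a subgroup of index prime to three. -/
theorem center_le_of_index {H : Subgroup (Cfsg.SU 6 F 2)} (hidx : H.index = 512) :
    Subgroup.center (Cfsg.SU 6 F 2) ≤ H := by
  intro z hz
  have hZ : Nat.card (Subgroup.center (Cfsg.SU 6 F 2)) = 3 := by
    rw [card_center_SU hF (n := 6) (by norm_num)]; rfl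
  have hz3 : z ^ 3 = 1 := by
    have h := pow_card_eq_one' (x := (⟨z, hz⟩ : Subgroup.center (Cfsg.SU 6 F 2)))
    rw [hZ] at h
    exact congrArg Subtype.val h
  have h := CfsgLib.MinIdxPSp.fix_count (α := Cfsg.SU 6 F 2 ⧸ H) (by norm_num : Nat.Prime 3) hz3 Set.univ
    fun y _ => Set.mem_univ _
  rw [Set.ncard_univ, ← Subgroup.index_eq_card, hidx] at h
  obtain ⟨x, -, hx⟩ : {y ∈ (Set.univ : Set (Cfsg.SU 6 F 2 ⧸ H)) | z • y = y}.Nonempty := by
    refine Set.nonempty_of_ncard_ne_zero fun e => ?_
    rw [e] at h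
    exact absurd h (by decide)
  obtain ⟨g, rfl⟩ := QuotientGroup.mk_surjective x
  rw [MulAction.Quotient.smul_coe, smul_eq_mul, QuotientGroup.eq, _root_.mul_inv_rev] at hx
  have e : g⁻¹ * z⁻¹ * g = z⁻¹ := by
    rw [Subgroup.mem_center_iff.1 (inv_mem hz) g⁻¹, inv_mul_cancel_right]
  rw [e] at hx
  simpa using inv_mem hx

theorem no_index_512 (H : Subgroup (Cfsg.SU 6 F 2)) (hidx : H.index = 512) : False := by
  haveI : Fact (Nat.Prime 11) := ⟨by norm_num⟩
  have hH : Nat.card H = 53887680 := by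
    have := H.card_mul_index
    rw [card_SU_six hF, hidx] at this
    omega
  obtain ⟨P⟩ : Nonempty (Sylow 11 H) := inferInstance
  have hP : Nat.card (P : Subgroup H) = 11 := by
    rw [P.card_eq_multiplicity, hH, show (53887680 : ℕ) = 11 * 4898880 by rfl,
      Nat.factorization_mul (by norm_num) (by norm_num), Finsupp.add_apply,
      Nat.Prime.factorization_self (by norm_num), Nat.factorization_eq_zero_of_not_dvd (by norm_num)]
    rfl
  haveI : IsCyclic (P : Subgroup H) := isCyclic_of_prime_card hP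
  obtain ⟨y, hy⟩ := IsCyclic.exists_generator (α := (P : Subgroup H))
  set g : H := y.1
  have hg11 : g ^ 11 = 1 := by
    have h := pow_card_eq_one' (x := y)
    rw [hP] at h
    exact congrArg Subtype.val h
  have hg1 : g ≠ 1 := by
    intro e
    have : ∀ z : (P : Subgroup H), z = 1 := fun z => by
      obtain ⟨k, rfl⟩ := Subgroup.mem_zpowers_iff.1 (hy z)
      rw [show y = 1 from Subtype.ext e, _root_.one_zpow]
    have h1 : Nat.card (P : Subgroup H) = 1 := Nat.card_eq_one_iff_exists.2 ⟨1, this⟩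
    omega
  obtain ⟨hC, hO⟩ := eleven_facts hF (g := (g : Cfsg.SU 6 F 2)) (by simpa using congrArg Subtype.val hg11)
    fun e => hg1 (Subtype.ext e)
  set C := Subgroup.centralizer ({g} : Set H)
  have hC33 : Nat.card C = 33 := by
    have hle : Nat.card C ≤ 33 := by
      refine le_trans (Nat.card_le_card_of_injective
        (fun c => (⟨((c : H) : Cfsg.SU 6 F 2), ?_⟩ :
          Subgroup.centralizer ({(g : Cfsg.SU 6 F 2)} : Set (Cfsg.SU 6 F 2)))) ?_) hC
      · rw [Subgroup.mem_centralizer_singleton_iff]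
        exact congrArg Subtype.val (Subgroup.mem_centralizer_singleton_iff.1 c.2)
      · intro a b h
        exact Subtype.ext (Subtype.ext (congrArg Subtype.val h :))
    haveI : Fact (Nat.Prime 3) := ⟨Nat.prime_three⟩
    obtain ⟨z, hz⟩ := exists_prime_orderOf_dvd_card' (G := Subgroup.center (Cfsg.SU 6 F 2)) 3 (by
      rw [card_center_SU hF (n := 6) (by norm_num)]; rfl)
    set zH : H := ⟨(z : Cfsg.SU 6 F 2), center_le_of_index hF hidx z.2⟩
    have hzC : zH ∈ C := by
      rw [Subgroup.mem_centralizer_singleton_iff]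
      exact Subtype.ext (Subgroup.mem_center_iff.1 z.2 (g : Cfsg.SU 6 F 2)).symm
    have h3 : 3 ∣ Nat.card C := by
      have h := orderOf_dvd_natCard (⟨zH, hzC⟩ : C)
      rwa [Subgroup.orderOf_mk, ← Subgroup.orderOf_coe zH,
        show ((zH : H) : Cfsg.SU 6 F 2) = (z : Cfsg.SU 6 F 2) from rfl, Subgroup.orderOf_coe, hz] at h
    have h11 : 11 ∣ Nat.card C := by
      have h := orderOf_dvd_natCard (⟨g, Subgroup.mem_centralizer_singleton_iff.2 rfl⟩ : C)
      rwa [Subgroup.orderOf_mk, orderOf_eq_prime hg11 hg1] at h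
    exact le_antisymm hle (Nat.le_of_dvd Nat.card_pos (Nat.Coprime.mul_dvd_of_dvd_of_dvd (by norm_num) h3 h11))
  set N := Subgroup.normalizer ((P : Subgroup H) : Set H) with hNdef
  have hCg : Subgroup.centralizer ((P : Subgroup H) : Set H) = C := by
    refine le_antisymm (Subgroup.centralizer_le (by simp [g])) fun c hc => ?_
    rw [Subgroup.mem_centralizer_singleton_iff] at hc
    rw [Subgroup.mem_centralizer_iff]
    intro p hp
    obtain ⟨k, hk⟩ := Subgroup.mem_zpowers_iff.1 (hy ⟨p, hp⟩)
    rw [show p = g ^ k from (congrArg Subtype.val hk).symm.trans (by simp [g])]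
    exact (Commute.zpow_left (show Commute g c from hc.symm) k).eq
  have hCN : C ≤ N := by
    intro c hc
    rw [hNdef, Subgroup.mem_normalizer_iff]
    rw [← hCg, Subgroup.mem_centralizer_iff] at hc
    intro p
    constructor
    · intro hp; rw [← hc p hp, mul_inv_cancel_right]; exact hp
    · intro hp
      have := hc _ hp
      rw [show c * p * c⁻¹ * c = c * p by group] at this
      rwa [← mul_left_cancel this] at hp
  set j := (C.subgroupOf N).index with hjdef
  have hj : j ∣ 10 := by
    rw [hjdef, ← hCg, hNdef, ← Subgroup.normalizerMonoidHom_ker, Subgroup.index_ker]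
    refine (Subgroup.card_subgroup_dvd_card _).trans ?_
    rw [IsCyclic.card_mulAut, hP]
    decide
  have hj6 : j ≤ 6 := by
    rw [hjdef, Subgroup.index_eq_card]
    refine le_trans ?_ hO
    rw [← Nat.card_coe_set_eq]
    let π : N ⧸ C.subgroupOf N → {c | c ∈ Subgroup.zpowers (g : Cfsg.SU 6 F 2) ∧
        ∃ t : Cfsg.SU 6 F 2, c = t * g * t⁻¹} :=
      fun t => ⟨((t.out.1 * g * t.out.1⁻¹ : H) : Cfsg.SU 6 F 2), by
        refine ⟨?_, (t.out.1 : Cfsg.SU 6 F 2), by simp⟩
        obtain ⟨k, hk⟩ := Subgroup.mem_zpowers_iff.1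
          (hy ⟨_, (Subgroup.mem_normalizer_iff.1 t.out.2 g).1 y.2⟩)
        have hk' : g ^ k = t.out.1 * g * t.out.1⁻¹ := by
          simpa [g] using congrArg Subtype.val hk
        exact Subgroup.mem_zpowers_iff.2 ⟨k, by rw [← hk']; simp⟩⟩
    refine Nat.card_le_card_of_injective π fun s t h => ?_
    have h' : s.out.1 * g * s.out.1⁻¹ = t.out.1 * g * t.out.1⁻¹ := Subtype.ext (congrArg Subtype.val h :)
    rw [← s.out_eq', ← t.out_eq', QuotientGroup.eq, Subgroup.mem_subgroupOf, Subgroup.mem_centralizer_singleton_iff]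
    change s.out.1⁻¹ * t.out.1 * g = g * (s.out.1⁻¹ * t.out.1)
    calc s.out.1⁻¹ * t.out.1 * g = s.out.1⁻¹ * (t.out.1 * g * t.out.1⁻¹) * t.out.1 := by group
      _ = s.out.1⁻¹ * (s.out.1 * g * s.out.1⁻¹) * t.out.1 := by rw [h']
      _ = g * (s.out.1⁻¹ * t.out.1) := by group
  have hNc : Nat.card N = 33 * j := by
    rw [hjdef, ← (C.subgroupOf N).card_mul_index, Nat.card_congr (Subgroup.subgroupOfEquivOfLe hCN).toEquiv, hC33]
  have hn : Nat.card (Sylow 11 H) * Nat.card N = 53887680 := by
    rw [show Nat.card (Sylow 11 H) = N.index from P.card_eq_index_normalizer, mul_comm, Subgroup.card_mul_index, hH]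
  have hmod : Nat.card (Sylow 11 H) % 11 = 1 := by simpa [Nat.ModEq] using card_sylow_modEq_one 11 H
  rw [hNc] at hn
  clear_value j
  have hjpos : 0 < j := Nat.pos_of_ne_zero fun e => by rw [e] at hn; simp at hn
  interval_cases j <;> omega

/-- The bound in dimension six. -/
theorem six_bound (H : Subgroup (Cfsg.SU 6 F 2)) (hH : H ≠ ⊤) : 672 ≤ H.index := by
  by_contra hlt
  push Not at hlt
  obtain ⟨x₀, z, hz⟩ := exists_moved hF (k := 4) (by norm_num) (fun h => by omega) (H := H) hH
  have hmv : Moved hF (G 4 F 2 ⧸ H) x₀ := by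
    rcases skew_cases hF z with e | e
    · exact absurd (by rw [e, zE_zero, one_smul]) hz
    · rwa [e] at hz
  rw [Subgroup.index_eq_card] at hlt
  have h512 := (small_shape hF (X := G 4 F 2 ⧸ H) x₀ hmv hlt).1
  exact no_index_512 hF H (by rw [Subgroup.index_eq_card]; exact h512)

end CfsgLib.MinIdxPSU.Six
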