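import Cfsg.Agent.MinIdxPSU.Conclude
import Cfsg.Agent.MinIdxPSU.FourTwo
import Cfsg.Agent.MinIdxPSU.Scale
import Cfsg.Agent.Classical.FortyPoints.Iso

/-!
The radical orbit in dimension six over four elements.
-/

set_option autoImplicit false
set_option linter.style.haveILetI false
set_option linter.unusedSectionVars false

namespace CfsgLib.MinIdxPSU.Six

open Matrix CfsgLib.Unitary CfsgLib.Forms AddAction CfsgLib.MinIdxPSU
open scoped Classical

variable {F : Type*} [Field F] [Finite F] (hF : Nat.card F = 2 ^ 2)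
include hF

/-- No proper subgroup of index below 27 in dimension four. -/
theorem su_four_two (H : Subgroup (Cfsg.SU 4 F 2)) (hH : H ≠ ⊤) : 27 ≤ H.index := by
  haveI := Fintype.ofFinite F
  obtain ⟨e⟩ := CfsgLib.Linear.Forty.nonempty_iso (F := F) (K := ZMod 3)
    (by rw [← Nat.card_eq_fintype_card, hF]; norm_num) (ZMod.card 3)
  set π := QuotientGroup.mk' (Subgroup.center (Cfsg.SU 4 F 2))
  have hker : π.ker = ⊥ := by
    rw [QuotientGroup.ker_mk']
    exact Subgroup.eq_bot_of_card_eq _ (by rw [card_center_SU hF (n := 4) (by norm_num)]; rfl)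
  let f : Cfsg.SU 4 F 2 →* Cfsg.PSp 2 (ZMod 3) := e.toMonoidHom.comp π
  have hf : Function.Bijective f :=
    e.bijective.comp ⟨(MonoidHom.ker_eq_bot_iff π).1 hker, QuotientGroup.mk'_surjective _⟩
  have h := CfsgLib.MinIdxPSU.SpThree.psp_bound (F := ZMod 3) (Nat.card_zmod 3) (H.map f)
    fun h => hH (Subgroup.map_injective hf.1 (h.trans (Subgroup.map_top_of_surjective f hf.2).symm))
  rwa [Subgroup.index_map_of_bijective hf] at h

/-- The central element of the radical. -/
noncomputable def one : Skew hF := ⟨1, by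
  have h2 : (2 : F) = 0 := by
    haveI := Fintype.ofFinite F
    have h := FiniteField.cast_card_eq_zero F
    rw [← Nat.card_eq_fintype_card, hF] at h
    exact mul_self_eq_zero.1 (show (2 : F) * 2 = 0 by rw [← h]; norm_num)
  change (1 : F) + 1 ^ 2 = 0
  linear_combination h2⟩

theorem skew_cases (z : Skew hF) : z = 0 ∨ z = one hF := by
  have h : (z : F) + (z : F) ^ 2 = 0 := z.2
  have h2 := (one hF).2
  change (1 : F) + 1 ^ 2 = 0 at h2
  rcases mul_eq_zero.1 (show (z : F) * (1 + z) = 0 by linear_combination h) with e | e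
  · exact Or.inl (Subtype.ext e)
  · exact Or.inr (Subtype.ext (show (z : F) = 1 by linear_combination e - h2))

variable (X : Type*) [MulAction (G 4 F 2) X] [Finite X]

/-- Moved by the central element. -/
def Moved (x : X) : Prop := zE (k := 4) hF (one hF) • x ≠ x

theorem freeZ_iff (x : X) : Moved hF X x ↔ FreeZ (k := 4) hF X x := by
  refine ⟨fun h z hz => (skew_cases hF z).resolve_right fun e => h (e ▸ hz), fun h e => ?_⟩
  exact one_ne_zero (congrArg Subtype.val (h _ e) : (1 : F) = 0)

theorem sees_iff (x : X) :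
    Sees (k := 4) hF X 1 (Quotient.mk'' (toXZ hF 4 x)) ↔ Moved hF X x := by
  refine ⟨fun h e => ?_, fun h => sees_of_free hF X ((freeZ_iff hF X x).1 h) 1⟩
  refine one_ne_zero (psi₁_perfect hF (one_pow 2) fun s hs => (sees_mk hF X 1 _).1 h ⟨s, hs⟩ ?_)
  rw [mem_stabilizer_iff]
  rcases skew_cases hF ⟨s, hs⟩ with e' | e'
  · rw [e']
    change zE (k := 4) hF 0 • x = x
    rw [zE_zero, one_smul]
  · rw [e']
    exact e

/-- An orbit fixed by the complement is regular. -/
theorem stab_bot (O : NSet hF 4 X) (h : ∀ l : Cfsg.SU 4 F 2,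
    l • (show LOrb hF 4 X from Quotient.mk'' O) = (show LOrb hF 4 X from Quotient.mk'' O)) :
    stabilizer (Fin 4 → F) O = ⊥ := by
  refine invariant_isotropic hF (by norm_num) _ (fun l a ha => ?_) fun a ha b hb => stab_isotropic hF X O ha hb
  obtain ⟨b, hb⟩ := orbitRel_apply.1 (Quotient.eq''.1 (h l))
  rw [← stab_vadd b O, show b +ᵥ O = nmap hF X (cz_levi hF l) O from hb, mem_stabilizer_iff,
    ← nmap_levi_vadd hF, mem_stabilizer_iff.1 ha]

theorem nset_single (x₀ : X) (hx₀ : Moved hF X x₀) (hsmall : Nat.card X < 672) :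
    (∀ O O' : NSet hF 4 X, ∃ a : Fin 4 → F, a +ᵥ O = O') ∧ Nat.card (NSet hF 4 X) = 256 := by
  haveI : Finite (LOrb hF 4 X) := by unfold LOrb; infer_instance
  haveI : Finite (AOrb (M := Fin 4 → F) (NSet hF 4 X)) := inferInstance
  have hN : Nat.card (NSet hF 4 X) < 336 := by
    have := q_mul_nset_le (k := 4) hF X (by norm_num)
    omega
  have hall : ∀ (l : Cfsg.SU 4 F 2) (o : LOrb hF 4 X), l • o = o := by
    by_contra hcon
    push Not at hcon
    obtain ⟨l, o, hlo⟩ := hcon
    have hS : MulAction.stabilizer (Cfsg.SU 4 F 2) o ≠ ⊤ := fun e => hlo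
      (MulAction.mem_stabilizer_iff.1 (e ▸ Subgroup.mem_top l))
    have h1 : 27 ≤ Nat.card (LOrb hF 4 X) := by
      refine le_trans (su_four_two hF _ hS) ?_
      rw [MulAction.index_stabilizer, ← Nat.card_coe_set_eq]
      exact Nat.card_le_card_of_injective _ Subtype.val_injective
    haveI := Fintype.ofFinite (AOrb (M := Fin 4 → F) (NSet hF 4 X))
    have h2 : Nat.card (LOrb hF 4 X) * 2 ^ 4 ≤ Nat.card (NSet hF 4 X) := by
      rw [show Nat.card (LOrb hF 4 X) = Nat.card (AOrb (M := Fin 4 → F) (NSet hF 4 X)) from rfl,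
        card_eq_sum_wt (Y := NSet hF 4 X) (pairV_perfect (k := 4) hF), Nat.card_eq_fintype_card,
        ← Finset.card_univ, ← smul_eq_mul, ← Finset.sum_const]
      exact Finset.sum_le_sum fun o _ => le_card_wt hF X o
    omega
  have hbot : ∀ O : NSet hF 4 X, stabilizer (Fin 4 → F) O = ⊥ := fun O => stab_bot hF X O fun l => hall l _
  have horb : ∀ O : NSet hF 4 X, Nat.card (AddAction.orbit (Fin 4 → F) O) = 256 := fun O => by
    rw [Nat.card_congr (orbitEquivQuotientStabilizer (Fin 4 → F) O), hbot O, ← AddSubgroup.index,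
      AddSubgroup.index_bot, Nat.card_fun, Nat.card_fin, hF]
    norm_num
  have hsingle : ∀ O O' : NSet hF 4 X, ∃ a : Fin 4 → F, a +ᵥ O = O' := by
    intro O O'
    by_contra hne
    have hd : Disjoint (AddAction.orbit (Fin 4 → F) O) (AddAction.orbit (Fin 4 → F) O') := by
      rw [Set.disjoint_left]
      rintro y ⟨a, rfl⟩ ⟨b, hb⟩
      refine hne ⟨-b + a, ?_⟩
      change (-b + a) +ᵥ O = O'
      rw [add_vadd, show a +ᵥ O = b +ᵥ O' from hb.symm, neg_vadd_vadd]
    have h := Set.ncard_union_eq hd (Set.toFinite _) (Set.toFinite _)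
    rw [← Nat.card_coe_set_eq (AddAction.orbit _ O), ← Nat.card_coe_set_eq (AddAction.orbit _ O'), horb, horb]
      at h
    have h' := Set.ncard_le_card (α := NSet hF 4 X) (AddAction.orbit (Fin 4 → F) O ∪ AddAction.orbit (Fin 4 → F) O')
    omega
  refine ⟨hsingle, ?_⟩
  obtain ⟨O⟩ : Nonempty (NSet hF 4 X) := exists_nset (k := 4) hF X x₀ ⟨one hF, hx₀⟩ (by norm_num)
  rw [← horb O]
  exact Nat.card_congr (Equiv.subtypeUnivEquiv fun O' => show O' ∈ AddAction.orbit (Fin 4 → F) O from
    hsingle O O').symm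

/-- The radical is transitive on what the central element moves. -/
theorem rad_transitive (x₀ : X) (hx₀ : Moved hF X x₀) (hsmall : Nat.card X < 672) {x y : X}
    (hx : Moved hF X x) (hy : Moved hF X y) :
    ∃ (a : Fin 4 → F) (z : Skew hF), (zE (k := 4) hF z * vE hF a) • x = y := by
  obtain ⟨a, ha⟩ := (nset_single hF X x₀ hx₀ hsmall).1 ⟨_, (sees_iff hF X x).2 hx⟩ ⟨_, (sees_iff hF X y).2 hy⟩
  obtain ⟨z, hz⟩ := orbitRel_apply.1 (Quotient.eq''.1 (congrArg Subtype.val ha))
  refine ⟨a, -z, ?_⟩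
  change zE (k := 4) hF z • y = vE hF a • x at hz
  rw [mul_smul, ← hz, ← mul_smul, ← zE_add, neg_add_cancel, zE_zero, one_smul]

/-- A point of an orbit. -/
noncomputable def rep (O : NSet hF 4 X) : X := O.1.out

theorem rep_spec (O : NSet hF 4 X) : (Quotient.mk'' (toXZ hF 4 (rep hF X O)) : ZO hF 4 X) = O.1 :=
  Quotient.out_eq' O.1

theorem card_moved (x₀ : X) (hx₀ : Moved hF X x₀) (hsmall : Nat.card X < 672) :
    Nat.card {x : X // Moved hF X x} = 512 := by
  have h256 := (nset_single hF X x₀ hx₀ hsmall).2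
  have hout : ∀ O : NSet hF 4 X, Moved hF X (rep hF X O) := fun O =>
    (sees_iff hF X _).1 (by rw [rep_spec]; exact O.2)
  have hmv : ∀ (z : Skew hF) (x : X), Moved hF X x → Moved hF X (zE (k := 4) hF z • x) := by
    intro z x hx h
    refine hx (MulAction.injective (zE (k := 4) hF z) ?_)
    rwa [← mul_smul, ← zE_add, add_comm (one hF) z, zE_add, mul_smul] at h
  let f : NSet hF 4 X × Skew hF → {x : X // Moved hF X x} := fun p =>
    ⟨zE (k := 4) hF p.2 • rep hF X p.1, hmv p.2 _ (hout p.1)⟩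
  have hf : Function.Bijective f := by
    constructor
    · rintro ⟨O, z⟩ ⟨O', z'⟩ h
      have h' : zE (k := 4) hF z • rep hF X O = zE (k := 4) hF z' • rep hF X O' :=
        congrArg Subtype.val h
      have e : O = O' := Subtype.ext (by
        rw [← rep_spec hF X O, ← rep_spec hF X O', ← zE_mk hF X z (rep hF X O), h', zE_mk hF X z'])
      subst e
      refine Prod.ext rfl ?_
      have h0 : zE (k := 4) hF (-z' + z) • rep hF X O = rep hF X O := by
        rw [zE_add, mul_smul, h', ← mul_smul, ← zE_add, neg_add_cancel, zE_zero, one_smul]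
      have := (freeZ_iff hF X _).1 (hout O) _ h0
      exact (neg_add_eq_zero.1 this).symm
    · rintro ⟨x, hx⟩
      set O : NSet hF 4 X := ⟨_, (sees_iff hF X x).2 hx⟩
      obtain ⟨z, hz⟩ := orbitRel_apply.1 (Quotient.eq''.1 (rep_spec hF X O))
      refine ⟨(O, -z), Subtype.ext ?_⟩
      change zE (k := 4) hF z • x = rep hF X O at hz
      change zE (k := 4) hF (-z) • rep hF X O = x
      rw [← hz, ← mul_smul, ← zE_add, neg_add_cancel, zE_zero, one_smul]
  rw [← Nat.card_congr (Equiv.ofBijective f hf), Nat.card_prod, h256, (card_fix_skew hF).2]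

end CfsgLib.MinIdxPSU.Six
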