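import Cfsg.Agent.MinIdxPSU.SixTwoBase
import Cfsg.Agent.Unitary.TransvectionClass

/-!
Transvections by points in dimension six over four elements, and the size of a small orbit.
-/

set_option autoImplicit false
set_option linter.style.haveILetI false
set_option linter.unusedSectionVars false

namespace CfsgLib.MinIdxPSU.Six

open Matrix CfsgLib.Unitary CfsgLib.Forms CfsgLib.MinIdxPSU
open scoped Classical

variable {F : Type*} [Field F] [Finite F] (hF : Nat.card F = 2 ^ 2)
include hF

theorem cube_one {a : F} (ha : a ≠ 0) : a ^ (2 + 1) = 1 := by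
  haveI := Fintype.ofFinite F
  have h := FiniteField.pow_card_sub_one_eq_one a ha
  rwa [← Nat.card_eq_fintype_card, hF] at h

/-- The transvection at a point. -/
noncomputable def tP (p : IsoPt 6 F 2) : Cfsg.SU 6 F 2 := suTv 6 p.1.rep 1 p.2 (one hF).2 hF

theorem suMat_tP (p : IsoPt 6 F 2) : suMat (tP hF p) = Cfsg.unitaryTransvection 6 2 p.1.rep 1 := rfl

theorem tP_pt {v : Fin 6 → F} (hv : v ≠ 0) (h0 : Cfsg.hermForm 6 F 2 v v = 0) :
    tP hF (pt hF v hv h0) = suTv 6 v 1 h0 (one hF).2 hF := by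
  obtain ⟨c, hc⟩ := Projectivization.exists_smul_eq_mk_rep F v hv
  refine Subtype.ext (Subtype.ext ?_)
  change Cfsg.unitaryTransvection 6 2 (Projectivization.mk F v hv).rep 1 = Cfsg.unitaryTransvection 6 2 v 1
  rw [← hc, Units.smul_def, utv_smul hF, cube_one hF c.ne_zero, one_mul]

theorem tP_smul (g : Cfsg.SU 6 F 2) (p : IsoPt 6 F 2) : tP hF (g • p) = g * tP hF p * g⁻¹ := by
  obtain ⟨v, hv, h0, rfl⟩ := exists_pt hF p
  rw [smul_pt hF, tP_pt, tP_pt]
  refine Subtype.ext (Subtype.ext ?_)
  exact (utv_conj g (A := suTv 6 v 1 h0 (one hF).2 hF) rfl).symm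

/-- The point of the radical. -/
noncomputable def p0 : IsoPt 6 F 2 := pt hF (ev (k := 4) hF) (ev_ne_zero hF) (herm_ee hF)

theorem tP_p0 : tP hF (p0 hF) = zE (k := 4) hF (one hF) := by
  rw [p0, tP_pt]
  refine su_ext fun y => ?_
  rw [zE_apply hF]
  exact utv_mulVec _ _ y

theorem smul_p0 {g : G 4 F 2} (h : suMat g *ᵥ ev (k := 4) hF = ev hF) : g • p0 hF = p0 hF := by
  rw [p0, smul_pt hF, pt_eq_iff]
  exact ⟨1, by rw [one_smul, h]⟩

theorem vE_ev (a : Fin 4 → F) : suMat (vE (k := 4) hF a) *ᵥ ev hF = ev hF := by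
  rw [vE, rad_apply hF, herm_ee hF, herm_ev_emb hF]; simp

theorem zE_ev (z : Skew hF) : suMat (zE (k := 4) hF z) *ᵥ ev hF = ev hF := by
  rw [zE_apply hF, herm_ee hF]; simp

/-- Orthogonal points. -/
def Perp (p r : IsoPt 6 F 2) : Prop := Cfsg.hermForm 6 F 2 p.1.rep r.1.rep = 0

theorem perp_pt {u v : Fin 6 → F} (hu : u ≠ 0) (hv : v ≠ 0) (hu0 : Cfsg.hermForm 6 F 2 u u = 0)
    (hv0 : Cfsg.hermForm 6 F 2 v v = 0) :
    Perp (pt hF u hu hu0) (pt hF v hv hv0) ↔ Cfsg.hermForm 6 F 2 u v = 0 := by
  obtain ⟨c, hc⟩ := Projectivization.exists_smul_eq_mk_rep F u hu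
  obtain ⟨d, hd⟩ := Projectivization.exists_smul_eq_mk_rep F v hv
  change Cfsg.hermForm 6 F 2 (Projectivization.mk F u hu).rep (Projectivization.mk F v hv).rep = 0 ↔ _
  rw [← hc, ← hd, Units.smul_def, Units.smul_def, herm_smul_left, herm_smul_right hF]
  simp [c.ne_zero, d.ne_zero]

theorem perp_smul (g : Cfsg.SU 6 F 2) (p r : IsoPt 6 F 2) : Perp (g • p) (g • r) ↔ Perp p r := by
  obtain ⟨u, hu, hu0, rfl⟩ := exists_pt hF p
  obtain ⟨v, hv, hv0, rfl⟩ := exists_pt hF r
  rw [smul_pt hF, smul_pt hF, perp_pt, perp_pt, su_preserves]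

theorem perp_symm {p r : IsoPt 6 F 2} (h : Perp p r) : Perp r p := by
  change Cfsg.hermForm 6 F 2 r.1.rep p.1.rep = 0
  rw [herm_swap hF p.1.rep r.1.rep, show Cfsg.hermForm 6 F 2 p.1.rep r.1.rep = 0 from h, zero_pow two_ne_zero]

theorem card_pts : Nat.card (IsoPt 6 F 2) = 693 ∧ Nat.card (IsoPt 4 F 2) = 45 := by
  have h6 := even_isoPt hF (n := 6) (by norm_num) (by decide)
  have h4 := even_isoPt hF (n := 4) (by norm_num) (by decide)
  norm_num at h6 h4
  omega

/-- The other points orthogonal to the point of the radical. -/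
theorem card_perp_p0 : Nat.card {r : IsoPt 6 F 2 // Perp r (p0 hF) ∧ r ≠ p0 hF} = 180 := by
  let vec : IsoPt 4 F 2 × F → (Fin 6 → F) := fun w => w.2 • ev (k := 4) hF + emb w.1.1.rep
  have hproj : ∀ w, proj (vec w) = w.1.1.rep := fun w => by
    simp only [vec, map_add, map_smul, proj_ev hF, smul_zero, proj_emb, zero_add]
  have hne : ∀ w, vec w ≠ 0 := fun w e => w.1.1.rep_nonzero (by rw [← hproj w, e, map_zero])
  have hee : ∀ w, Cfsg.hermForm 6 F 2 (vec w) (ev (k := 4) hF) = 0 := fun w => by
    change Cfsg.hermForm 6 F 2 (w.2 • ev (k := 4) hF + emb w.1.1.rep) _ = 0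
    rw [herm_add_left, herm_smul_left, herm_emb_ev hF]
    rw [show Cfsg.hermForm 6 F 2 (ev (k := 4) hF) (ev hF) = 0 from herm_ee hF]
    simp
  have hiso : ∀ w, Cfsg.hermForm 6 F 2 (vec w) (vec w) = 0 := fun w => by
    change Cfsg.hermForm (4 + 1 + 1) F 2 (w.2 • ev (k := 4) hF + emb w.1.1.rep)
      (w.2 • ev (k := 4) hF + emb w.1.1.rep) = 0
    simp only [herm_add_left, herm_add_right hF, herm_smul_left, herm_smul_right hF, herm_ee hF, herm_emb_ev hF,
      herm_ev_emb hF, herm_emb hF, mul_zero, add_zero, zero_add]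
    exact w.1.2
  have hnp : ∀ w, pt hF (vec w) (hne w) (hiso w) ≠ p0 hF := fun w e => by
    obtain ⟨a, ha⟩ := (pt_eq_iff hF).1 e
    refine w.1.1.rep_nonzero ?_
    rw [← hproj w, ← ha, map_smul, proj_ev hF, smul_zero]
  let f : IsoPt 4 F 2 × F → {r : IsoPt 6 F 2 // Perp r (p0 hF) ∧ r ≠ p0 hF} := fun w =>
    ⟨pt hF (vec w) (hne w) (hiso w), (perp_pt hF _ _ _ _).2 (hee w), hnp w⟩
  have hf : Function.Bijective f := by
    constructor
    · intro w w' h
      obtain ⟨a, ha⟩ := (pt_eq_iff hF (hu := hne w) (hv := hne w') (hu0 := hiso w) (hv0 := hiso w')).1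
        (congrArg Subtype.val h)
      have hp := congrArg proj ha
      rw [map_smul, hproj, hproj] at hp
      have hW : w.1 = w'.1 := by
        refine Subtype.ext ?_
        rw [← w.1.1.mk_rep, ← w'.1.1.mk_rep, Projectivization.mk_eq_mk_iff']
        exact ⟨a, hp⟩
      have ha1 : a = 1 := by
        rw [hW] at hp
        exact smul_left_injective F w'.1.1.rep_nonzero (hp.trans (one_smul F _).symm)
      rw [ha1, one_smul] at ha
      refine Prod.ext hW ?_
      have h2 := congrArg (fun y => Cfsg.hermForm (4 + 1 + 1) F 2 y (fv (k := 4) hF)) ha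
      simp only [vec, herm_add_left, herm_smul_left, herm_ef hF, herm_emb_fv hF, mul_one, add_zero] at h2
      exact h2.symm
    · rintro ⟨r, hperp, hr⟩
      obtain ⟨y, hy, hy0, rfl⟩ := exists_pt hF r
      have hye : Cfsg.hermForm (4 + 1 + 1) F 2 y (ev hF) = 0 := (perp_pt hF _ _ _ _).1 hperp
      set α := Cfsg.hermForm (4 + 1 + 1) F 2 y (fv hF)
      have hd : y = emb (proj y) + α • ev (k := 4) hF := by
        conv_lhs => rw [decompose hF y, hye, zero_smul, add_zero]
      have hw : proj (k := 4) y ≠ 0 := fun e => hr (by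
        rw [p0, pt_eq_iff]
        exact ⟨α, by rw [e, map_zero, zero_add] at hd; exact hd.symm⟩)
      have hwiso : Cfsg.hermForm 4 F 2 (proj y) (proj (k := 4) y) = 0 := by
        have h := hy0
        change Cfsg.hermForm (4 + 1 + 1) F 2 y y = 0 at h
        rw [hd] at h
        simpa only [herm_add_left, herm_add_right hF, herm_smul_left, herm_smul_right hF, herm_ee hF,
          herm_emb_ev hF, herm_ev_emb hF, herm_emb hF, mul_zero, add_zero] using h
      obtain ⟨c, hc⟩ := Projectivization.exists_smul_eq_mk_rep F (proj (k := 4) y) hw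
      refine ⟨(pt hF _ hw hwiso, (c : F) * α), Subtype.ext ?_⟩
      change pt hF (vec (pt hF _ hw hwiso, (c : F) * α)) (hne _) (hiso _) = pt hF y hy hy0
      rw [pt_eq_iff]
      refine ⟨(c : F), ?_⟩
      change (c : F) • y = ((c : F) * α) • ev (k := 4) hF + emb (Projectivization.mk F _ hw).rep
      rw [← hc, Units.smul_def, map_smul]
      conv_lhs => rw [hd]
      rw [smul_add, smul_smul]
      abel
  rw [← Nat.card_congr (Equiv.ofBijective f hf), Nat.card_prod, (card_pts hF).2, hF]
  norm_num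

variable {X : Type*} [MulAction (G 4 F 2) X] [Finite X] [MulAction.IsPretransitive (G 4 F 2) X]

/-- The fixed transvections of a point of the orbit. -/
def Fixers (x : X) : Set (IsoPt 6 F 2) := {p | (show G 4 F 2 from tP hF p) • x = x}

theorem mem_fixers_smul (g : G 4 F 2) (x : X) (p : IsoPt 6 F 2) :
    g • p ∈ Fixers hF (g • x) ↔ p ∈ Fixers hF x := by
  change (show G 4 F 2 from tP hF (g • p)) • g • x = g • x ↔ _
  rw [show (show G 4 F 2 from tP hF (g • p)) = g * (show G 4 F 2 from tP hF p) * g⁻¹ from tP_smul hF g p,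
    ← mul_smul, inv_mul_cancel_right, mul_smul]
  exact ⟨fun h => MulAction.injective g h, fun h => congrArg (g • ·) h⟩

/-- A small orbit has 512 points and no point fixed by a transvection. -/
theorem small_shape (x₀ : X) (hx₀ : Moved hF X x₀) (hsmall : Nat.card X < 672) :
    Nat.card X = 512 ∧ ∀ p x, p ∉ Fixers hF (x : X) := by
  haveI := Fintype.ofFinite X
  haveI : Finite (IsoPt 6 F 2) := by unfold IsoPt; infer_instance
  haveI := Fintype.ofFinite (IsoPt 6 F 2)
  haveI := isPretransitive (n := 6) hF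
  set R := Fixers hF x₀
  have hp0R : p0 hF ∉ R := fun h => hx₀ (by
    have h' : (show G 4 F 2 from tP hF (p0 hF)) • x₀ = x₀ := h
    rwa [show (show G 4 F 2 from tP hF (p0 hF)) = zE (k := 4) hF (one hF) from tP_p0 hF] at h')
  -- the stabiliser is transitive off the fixed transvections
  have htr : ∀ p ∉ R, ∃ h : G 4 F 2, h • x₀ = x₀ ∧ h • p0 hF = p := by
    intro p hp
    obtain ⟨g, rfl⟩ := MulAction.exists_smul_eq (Cfsg.SU 6 F 2) (p0 hF) p
    have hmv : Moved hF X ((show G 4 F 2 from g)⁻¹ • x₀) := by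
      intro h
      refine hp ?_
      have h2 := mem_fixers_smul hF (show G 4 F 2 from g) ((show G 4 F 2 from g)⁻¹ • x₀) (p0 hF)
      rw [smul_inv_smul] at h2
      refine h2.2 ?_
      change (show G 4 F 2 from tP hF (p0 hF)) • _ = _
      rw [show (show G 4 F 2 from tP hF (p0 hF)) = zE (k := 4) hF (one hF) from tP_p0 hF]
      exact h
    obtain ⟨a, z, hu⟩ := rad_transitive hF X x₀ hx₀ hsmall hx₀ hmv
    refine ⟨(show G 4 F 2 from g) * (zE (k := 4) hF z * vE hF a), ?_, ?_⟩
    · rw [mul_smul, hu, smul_inv_smul]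
    · rw [mul_smul, smul_p0 hF (by rw [suMat_mul, ← Matrix.mulVec_mulVec, vE_ev, zE_ev])]
  have hinv : ∀ h : G 4 F 2, h • x₀ = x₀ → ∀ p, h • p ∈ R ↔ p ∈ R := fun h hh p => by
    have := mem_fixers_smul hF h x₀ p
    rwa [hh] at this
  -- counting fixed points
  set f := Nat.card {x : X // ¬ Moved hF X x}
  have hX : Nat.card X = 512 + f := by
    rw [← card_moved hF X x₀ hx₀ hsmall, ← Nat.card_sum, Nat.card_congr (Equiv.sumCompl (fun x => Moved hF X x))]
  have hcount : 693 * f = Nat.card X * Nat.card R := by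
    have e1 : Nat.card (Σ p : IsoPt 6 F 2, {x : X // p ∈ Fixers hF x}) = 693 * f := by
      rw [Nat.card_sigma, Finset.sum_congr rfl (g := fun _ => f) fun p _ => ?_, Finset.sum_const, smul_eq_mul,
        Finset.card_univ, ← Nat.card_eq_fintype_card, (card_pts hF).1]
      obtain ⟨g, rfl⟩ := MulAction.exists_smul_eq (Cfsg.SU 6 F 2) (p0 hF) p
      refine (Nat.card_congr (Equiv.subtypeEquiv (MulAction.toPerm (show G 4 F 2 from g)) fun x => ?_)).symm
      change _ ↔ g • p0 hF ∈ Fixers hF ((show G 4 F 2 from g) • x)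
      rw [show g • p0 hF = (show G 4 F 2 from g) • p0 hF from rfl, mem_fixers_smul hF]
      change _ ↔ (show G 4 F 2 from tP hF (p0 hF)) • x = x
      rw [show (show G 4 F 2 from tP hF (p0 hF)) = zE (k := 4) hF (one hF) from tP_p0 hF, Moved, not_not]
    have e2 : Nat.card (Σ x : X, {p : IsoPt 6 F 2 // p ∈ Fixers hF x}) = Nat.card X * Nat.card R := by
      rw [Nat.card_sigma, Finset.sum_congr rfl (g := fun _ => Nat.card R) fun x _ => ?_, Finset.sum_const,
        smul_eq_mul, Finset.card_univ, ← Nat.card_eq_fintype_card]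
      obtain ⟨g, rfl⟩ := MulAction.exists_smul_eq (G 4 F 2) x₀ x
      exact (Nat.card_congr (Equiv.subtypeEquiv (MulAction.toPerm g) fun p =>
        (mem_fixers_smul hF g x₀ p).symm)).symm
    rw [← e1, ← e2]
    exact Nat.card_congr
      { toFun := fun a => ⟨a.2.1, a.1, a.2.2⟩
        invFun := fun a => ⟨a.2.1, a.1, a.2.2⟩
        left_inv := fun a => rfl
        right_inv := fun a => rfl }
  -- orthogonal neighbours
  have hperp : ∀ p : IsoPt 6 F 2, Nat.card {r // Perp r p ∧ r ≠ p} = 180 := by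
    intro p
    obtain ⟨g, rfl⟩ := MulAction.exists_smul_eq (Cfsg.SU 6 F 2) (p0 hF) p
    rw [← card_perp_p0 hF]
    exact (Nat.card_congr (Equiv.subtypeEquiv (MulAction.toPerm g) fun r => by
      change Perp r (p0 hF) ∧ r ≠ p0 hF ↔ Perp (g • r) (g • p0 hF) ∧ g • r ≠ g • p0 hF
      rw [perp_smul hF, ne_eq, ne_eq, smul_left_cancel_iff])).symm
  have hf160 : f < 160 := by omega
  have hr693 : Nat.card R ≤ 693 := (card_pts hF).1 ▸ Finite.card_subtype_le _
  have hrf : Nat.card R = 0 ∨ 180 ≤ Nat.card R ∨ 693 ≤ 5 * Nat.card R := by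
    by_cases hnb : ∃ c ∈ R, Perp c (p0 hF)
    · right; right
      obtain ⟨c, hc, hcp⟩ := hnb
      -- every isotropic point of the complement lies below a fixed neighbour
      have hW : ∀ W : IsoPt 4 F 2, ∃ c' : IsoPt 6 F 2, c' ∈ R ∧ Perp c' (p0 hF) ∧
          ∃ s : F, s • W.1.rep = proj (k := 4) c'.1.rep := by
        intro W
        obtain ⟨y, hy, hy0, rfl⟩ := exists_pt hF c
        have hye : Cfsg.hermForm (4 + 1 + 1) F 2 y (ev hF) = 0 := (perp_pt hF _ _ _ _).1 hcp
        have hw : proj (k := 4) y ≠ 0 := fun e => hp0R (by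
          have hd := decompose hF (k := 4) y
          rw [e, map_zero, hye, zero_smul, add_zero, zero_add] at hd
          rwa [show p0 hF = pt hF y hy hy0 by
            rw [p0, eq_comm, pt_eq_iff]; exact ⟨_, hd.symm⟩])
        have hwiso : Cfsg.hermForm 4 F 2 (proj y) (proj (k := 4) y) = 0 := by
          have hd : y = emb (proj y) + Cfsg.hermForm (4 + 1 + 1) F 2 y (fv hF) • ev (k := 4) hF := by
            conv_lhs => rw [decompose hF y, hye, zero_smul, add_zero]
          have h := hy0
          change Cfsg.hermForm (4 + 1 + 1) F 2 y y = 0 at h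
          rw [hd] at h
          simpa only [herm_add_left, herm_add_right hF, herm_smul_left, herm_smul_right hF, herm_ee hF,
            herm_emb_ev hF, herm_ev_emb hF, herm_emb hF, mul_zero, add_zero] using h
        obtain ⟨l, hl⟩ := exists_SU_vec hF (n := 4) (by norm_num) hw W.1.rep_nonzero hwiso W.2
        have hlev : Moved hF X (levi (k := 4) l • x₀) := fun h => hx₀ (by
          rw [← mul_smul, ← cz_levi hF l (one hF), mul_smul] at h
          exact MulAction.injective _ h)
        obtain ⟨a, z, hu⟩ := rad_transitive hF X x₀ hx₀ hsmall hlev hx₀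
        set u : G 4 F 2 := zE (k := 4) hF z * vE hF a * levi l with hudef
        have hux : u • x₀ = x₀ := by rw [hudef, mul_smul]; exact hu
        have hup : u • p0 hF = p0 hF := smul_p0 hF (by
          rw [hudef, suMat_mul, suMat_mul, ← Matrix.mulVec_mulVec, ← Matrix.mulVec_mulVec,
            levi_fix l (proj_ev hF), vE_ev, zE_ev])
        refine ⟨u • pt hF y hy hy0, (hinv u hux _).2 hc, ?_, ?_⟩
        · rw [← hup]; exact (perp_smul hF u _ _).2 hcp
        · rw [smul_pt hF]
          obtain ⟨d, hd⟩ := Projectivization.exists_smul_eq_mk_rep F (suMat u *ᵥ y) (su_mulVec_ne_zero u hy)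
          refine ⟨(d : F), ?_⟩
          change _ = proj (Projectivization.mk F (suMat u *ᵥ y) _).rep
          rw [← hd, Units.smul_def, map_smul]
          congr 1
          have h1 : Cfsg.hermForm (4 + 1 + 1) F 2 (suMat (levi (k := 4) l) *ᵥ y) (ev hF) = 0 := by
            conv_lhs => rw [← levi_fix l (proj_ev (k := 4) hF)]
            rw [su_preserves, hye]
          rw [hudef, suMat_mul, suMat_mul, ← Matrix.mulVec_mulVec, ← Matrix.mulVec_mulVec, zE_apply hF, vE,
            rad_apply hF]
          simp only [map_add, map_smul, proj_ev hF, smul_zero, add_zero, h1, zero_smul]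
          rw [levi_apply]
          exact hl.symm
      choose c' hc'R hc'p hc's using hW
      have hinj : Function.Injective c' := fun W W' h => by
        obtain ⟨s, hs⟩ := hc's W
        obtain ⟨s', hs'⟩ := hc's W'
        rw [h] at hs
        have hne : proj (k := 4) (c' W').1.rep ≠ 0 := fun e => by
          have hd := decompose hF (k := 4) (c' W').1.rep
          have hye : Cfsg.hermForm (4 + 1 + 1) F 2 (c' W').1.rep (ev hF) = 0 := by
            have h' := hc'p W'
            rw [show c' W' = pt hF (c' W').1.rep (c' W').1.rep_nonzero (c' W').2 from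
              Subtype.ext (Projectivization.mk_rep _).symm] at h'
            exact (perp_pt hF _ _ _ _).1 h'
          rw [e, map_zero, hye, zero_smul, add_zero, zero_add] at hd
          refine hp0R ?_
          rw [show p0 hF = c' W' from ?_]
          · exact hc'R W'
          · refine Subtype.ext ?_
            change Projectivization.mk F _ _ = _
            rw [← Projectivization.mk_rep (c' W').1, eq_comm, Projectivization.mk_eq_mk_iff']
            exact ⟨_, hd.symm⟩
        have hs0 : s ≠ 0 := fun e => hne (by rw [← hs, e, zero_smul])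
        refine Subtype.ext ?_
        rw [← W.1.mk_rep, ← W'.1.mk_rep, Projectivization.mk_eq_mk_iff']
        exact ⟨s⁻¹ * s', by rw [mul_smul, hs', ← hs, smul_smul, inv_mul_cancel₀ hs0, one_smul]⟩
      -- double count
      have h45 : ∀ p : {p // p ∉ R}, 45 ≤ Nat.card {r : R // Perp r.1 p.1} := by
        rintro ⟨p, hp⟩
        obtain ⟨h, hhx, rfl⟩ := htr p hp
        rw [← (card_pts hF).2]
        refine Nat.card_le_card_of_injective (fun W => ⟨⟨h • c' W, (hinv h hhx _).2 (hc'R W)⟩,
          (perp_smul hF h _ _).2 (hc'p W)⟩) fun W W' e => hinj ?_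
        exact MulAction.injective h (congrArg (fun a => a.1.1) e)
      haveI := Fintype.ofFinite R
      haveI := Fintype.ofFinite {p // p ∉ R}
      have hlow : Nat.card {p // p ∉ R} * 45 ≤ Nat.card (Σ p : {p // p ∉ R}, {r : R // Perp r.1 p.1}) := by
        rw [Nat.card_sigma, Nat.card_eq_fintype_card, ← Finset.card_univ, ← smul_eq_mul, ← Finset.sum_const]
        exact Finset.sum_le_sum fun p _ => h45 p
      have hup : Nat.card (Σ p : {p // p ∉ R}, {r : R // Perp r.1 p.1}) ≤ Nat.card R * 180 := by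
        have hsig : Nat.card (Σ r : R, {p : IsoPt 6 F 2 // Perp p r.1 ∧ p ≠ r.1}) = Nat.card R * 180 := by
          rw [Nat.card_sigma, Finset.sum_congr rfl (g := fun _ => 180) fun r _ => hperp r.1, Finset.sum_const,
            smul_eq_mul, Finset.card_univ, Nat.card_eq_fintype_card]
        rw [← hsig]
        refine Nat.card_le_card_of_injective (fun a => ⟨a.2.1, a.1.1, perp_symm hF a.2.2,
          fun e => a.1.2 (e ▸ a.2.1.2)⟩) fun a b e => ?_
        have e1 := congrArg (fun w => (w.1.1, w.2.1)) e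
        simp only [Prod.mk.injEq] at e1
        obtain ⟨⟨pa, hpa⟩, ⟨ra, hra⟩, hra'⟩ := a
        obtain ⟨⟨pb, hpb⟩, ⟨rb, hrb⟩, hrb'⟩ := b
        obtain ⟨e11, e12⟩ := e1
        subst e11; subst e12
        rfl
      have hsum : Nat.card R + Nat.card {p // p ∉ R} = 693 := by
        rw [← (card_pts hF).1, ← Nat.card_sum, Nat.card_congr (Equiv.sumCompl (fun p => p ∈ R))]
      omega
    · push Not at hnb
      rcases Set.eq_empty_or_nonempty R with h | ⟨c, hc⟩
      · left; rw [h]; simp
      · right; left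
        rw [← hperp c]
        refine Nat.card_le_card_of_injective (fun r => (⟨r.1, ?_⟩ : R))
          fun a b e => Subtype.ext (Subtype.mk.inj e)
        by_contra hr
        obtain ⟨h, hhx, he⟩ := htr r.1 hr
        refine hnb (h⁻¹ • c) ((hinv h hhx _).1 (by rwa [smul_inv_smul])) ?_
        rw [← perp_smul hF h, smul_inv_smul, he]
        exact perp_symm hF r.2.1
  rw [hX] at hcount
  have hr0 : Nat.card R = 0 := by
    generalize Nat.card R = r at hcount hrf hr693
    by_contra hr
    rcases Nat.lt_or_ge r 165 with h | h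
    · have h139 : 139 ≤ r := by omega
      interval_cases r <;> omega
    · nlinarith
  refine ⟨?_, fun p x hp => ?_⟩
  · rw [hr0] at hcount
    omega
  · obtain ⟨g, rfl⟩ := MulAction.exists_smul_eq (G 4 F 2) x₀ x
    haveI : IsEmpty R := (Nat.card_eq_zero.1 hr0).resolve_right (not_infinite_iff_finite.2 inferInstance)
    rw [← smul_inv_smul g p] at hp
    exact IsEmpty.false (⟨_, (mem_fixers_smul hF g x₀ _).1 hp⟩ : R)

end CfsgLib.MinIdxPSU.Six
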