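import Cfsg.Agent.MinIdxPSU.Conclude
import Cfsg.Agent.Unitary.Isotropic

/-!
The least index in even dimension over four elements: the anisotropic points.
-/

set_option autoImplicit false
set_option linter.style.haveILetI false
set_option linter.unusedSectionVars false

namespace CfsgLib.MinIdxPSU

open Matrix CfsgLib.Unitary CfsgLib.Forms
open scoped Classical

variable {F : Type*} [Field F] [Finite F] (hF : Nat.card F = 2 ^ 2)
include hF

theorem len_one_even {n : ℕ} (hn : 1 ≤ n) (he : Even n) : numLen F 2 n 1 = 2 ^ (n - 1) * (2 ^ n - 1) := by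
  obtain ⟨m, rfl⟩ : ∃ m, n = m + 1 := ⟨n - 1, by omega⟩
  have h := numLen_one (F := F) hF (m + 1)
  rw [Even.neg_one_pow he] at h
  have h1 : 1 ≤ 2 ^ (m + 1) := Nat.one_le_two_pow
  rw [Nat.add_sub_cancel]
  zify [h1]
  push_cast at h ⊢
  rw [pow_succ] at h ⊢
  refine mul_left_cancel₀ (two_ne_zero (α := ℤ)) ?_
  linear_combination h

/-- The bound in dimension at least twelve. -/
theorem two_large {k : ℕ} (hk : 10 ≤ k) (he : Even k) {T : ℕ} (hT : 3 * T = 2 ^ (k + 1) * (2 ^ (k + 2) - 1))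
    {H : Subgroup (Cfsg.SU (k + 1 + 1) F 2)} (hH : H ≠ ⊤) : T ≤ H.index := by
  obtain ⟨j, rfl⟩ : ∃ j, k = j + 1 + 1 := ⟨k - 2, by omega⟩
  have he' : Even (j + 1 + 1 + 1 + 1) := by
    obtain ⟨a, ha⟩ := he; exact ⟨a + 1, by omega⟩
  have hlen := len_one_even hF (n := j + 1 + 1 + 1 + 1) (by omega) he'
  rw [Nat.add_sub_cancel] at hlen
  have hpts := even_isoPt hF (n := j + 1 + 1 + 1 + 1) (by omega) he'
  rw [Nat.add_sub_cancel] at hpts
  norm_num at hpts
  refine bound_step_target hF (by omega) (fun h => by omega) (P := 2 ^ (2 * j) - 2 ^ (j + 1)) (fun H' hH' => ?_)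
    ?_ ?_ ?_ hH
  · have h := crude_bound hF (show 3 ≤ j by omega) (fun h => by omega) H' hH'
    rw [Nat.sub_le_iff_le_add]
    zify
    push_cast at h
    linarith
  · have h2 : 2 * 2 ^ (j + 1) ≤ 2 ^ (2 * j) := by rw [← pow_succ']; exact Nat.pow_le_pow_right (by norm_num) (by omega)
    have h3 : 2 ^ (2 * j) ≤ 2 * (2 ^ (2 * j) - 2 ^ (j + 1)) := by omega
    have h4 : 2 ^ (j + 3) * (2 ^ (j + 4) - 1) ≤ 2 ^ (2 * j + 7) := by
      refine (Nat.mul_le_mul_left _ (Nat.sub_le _ _)).trans_eq ?_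
      rw [← pow_add]; congr 1; omega
    have h5 : 2 ^ (2 * j + 7) ≤ 2 ^ (j + 2) * 2 ^ (2 * j) := by
      rw [← pow_add]; exact Nat.pow_le_pow_right (by norm_num) (by omega)
    have h6 := Nat.mul_le_mul_left (2 ^ (j + 2)) h3
    rw [show 2 ^ (j + 2) * (2 * (2 ^ (2 * j) - 2 ^ (j + 1))) =
      2 * (2 ^ (j + 1 + 1) * (2 ^ (2 * j) - 2 ^ (j + 1))) by ring] at h6
    simp only [show j + 1 + 1 + 1 = j + 3 by omega, show j + 1 + 1 + 2 = j + 4 by omega] at hT
    simp only [show j + 1 + 1 = j + 2 by omega] at h6 ⊢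
    omega
  · simp only [show j + 1 + 1 + 2 = j + 1 + 1 + 1 + 1 by omega] at hT
    have : (2 ^ (j + 1 + 1 + 1 + 1) - 1) * 2 ^ (j + 1 + 1 + 1) ≤
        Nat.card (IsoPt (j + 1 + 1 + 1 + 1) F 2) * 3 := by
      rw [hpts]; exact Nat.mul_le_mul_left _ (Nat.le_succ _)
    rw [show 2 ^ (j + 1 + 1 + 1) * (2 ^ (j + 1 + 1 + 1 + 1) - 1) = (2 ^ (j + 1 + 1 + 1 + 1) - 1) * 2 ^ (j + 1 + 1 + 1)
      from Nat.mul_comm _ _] at hT
    change T ≤ Nat.card (IsoPt (j + 1 + 1 + 1 + 1) F 2)
    omega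
  · simp only [show j + 1 + 1 + 2 = j + 1 + 1 + 1 + 1 by omega] at hT
    rw [hlen]
    omega

/-- The stabiliser of an anisotropic point. -/
theorem exists_aniso_index {n : ℕ} (hn : 4 ≤ n) (h3 : 3 ∣ n) (he : Even n) :
    ∃ H : Subgroup (Cfsg.PSU n F 2), 3 * H.index = 2 ^ (n - 1) * (2 ^ n - 1) := by
  set e : Fin n → F := Pi.single ⟨0, by omega⟩ 1
  have hee : Cfsg.hermForm n F 2 e e = 1 := by simp [e, Cfsg.hermForm, Pi.single_apply]
  let S : Subgroup (Cfsg.SU n F 2) :=
    { carrier := {g | suMat g *ᵥ e = e}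
      one_mem' := by simp [suMat_one]
      mul_mem' := fun {a b} (ha : suMat a *ᵥ e = e) (hb : suMat b *ᵥ e = e) => by
        change suMat (a * b) *ᵥ e = e
        rw [suMat_mul, ← Matrix.mulVec_mulVec, hb, ha]
      inv_mem' := fun {a} (ha : suMat a *ᵥ e = e) => by
        change suMat a⁻¹ *ᵥ e = e
        conv_lhs => rw [← ha]
        exact su_inv_mulVec a e }
  have hsph : Nat.card (Cfsg.SU n F 2) = numLen F 2 n 1 * Nat.card S := by
    refine card_eq_card_mul_card (X := {v : Fin n → F // Cfsg.hermForm n F 2 v v = 1})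
      (fun g => ⟨suMat g *ᵥ e, by rw [su_preserves, hee]⟩) (fun v => ?_) S (fun g g' => ?_)
    · obtain ⟨l, -, hl⟩ := conn_sphere hF (by omega) (fun h => by omega) one_ne_zero hee v.2
      exact ⟨l, Subtype.ext hl⟩
    · constructor
      · intro (h : suMat (g⁻¹ * g') *ᵥ e = e)
        refine Subtype.ext ?_
        change suMat g *ᵥ e = suMat g' *ᵥ e
        conv_lhs => rw [← h]
        rw [Matrix.mulVec_mulVec, ← suMat_mul, mul_inv_cancel_left]
      · intro h
        have h' : suMat g *ᵥ e = suMat g' *ᵥ e := congrArg Subtype.val h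
        change suMat (g⁻¹ * g') *ᵥ e = e
        rw [suMat_mul, ← Matrix.mulVec_mulVec, ← h']
        exact su_inv_mulVec g e
  set π := QuotientGroup.mk' (Subgroup.center (Cfsg.SU n F 2))
  refine ⟨S.map π, ?_⟩
  have hinj : Function.Injective (π.comp S.subtype) := by
    rw [injective_iff_map_eq_one]
    intro g hg
    have hc : (g : Cfsg.SU n F 2) ∈ Subgroup.center _ := (QuotientGroup.eq_one_iff _).1 hg
    obtain ⟨c, hc'⟩ := (mem_center_SU_iff (F := F) (q := 2) hF (by omega)).1 hc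
    have h : (g.1.1 : Matrix (Fin n) (Fin n) F) *ᵥ e = e := g.2
    rw [hc', Matrix.smul_mulVec, Matrix.one_mulVec] at h
    have h0 := congrFun h ⟨0, by omega⟩
    simp only [Pi.smul_apply, e, Pi.single_eq_same, smul_eq_mul, mul_one] at h0
    refine Subtype.ext (su_ext fun y => ?_)
    change (g.1.1 : Matrix (Fin n) (Fin n) F) *ᵥ y = suMat (1 : Cfsg.SU n F 2) *ᵥ y
    rw [hc', h0, one_smul, suMat_one]
  have hcard : Nat.card (S.map π) = Nat.card S := by
    rw [show S.map π = (π.comp S.subtype).range by rw [MonoidHom.range_comp, Subgroup.range_subtype]]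
    exact (Nat.card_congr (MonoidHom.ofInjective hinj).toEquiv).symm
  have hm := (S.map π).card_mul_index
  have hZ : Nat.card (Subgroup.center (Cfsg.SU n F 2)) = 3 := by
    rw [card_center_SU hF (n := n) (by omega)]
    exact Nat.gcd_eq_right h3
  rw [Subgroup.card_eq_card_quotient_mul_card_subgroup (Subgroup.center (Cfsg.SU n F 2)), hZ, ← hm, hcard,
    len_one_even hF (by omega) he] at hsph
  refine Nat.eq_of_mul_eq_mul_right (Nat.card_pos (α := S)) ?_
  linear_combination hsph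

end CfsgLib.MinIdxPSU
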